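import Cfsg.Agent.Lib.GW.KFactsProof.Auto
import Cfsg.Agent.Lib.ClassSizes.AlternatingAut

/-!
The automorphism groups of `A₅` and `PSL(2,7)`.
-/

set_option autoImplicit false
set_option linter.style.haveILetI false

namespace CfsgLib.Perm.SuborbitThree

open Matrix CfsgLib.Known.AutPSL CfsgLib.GW.KFactsProof
open scoped MatrixGroups

theorem aut_alt_five :
    Nat.card (MulAut (alternatingGroup (Fin 5))) = 120 ∧
      Nonempty (MulAut (alternatingGroup (Fin 5)) ≃* Equiv.Perm (Fin 5)) := by
  let β : Equiv.Perm (Fin 5) ≃* MulAut (alternatingGroup (Fin 5)) :=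
    MulEquiv.ofBijective MulAut.conjNormal
      (CfsgLib.ClassSizes.AlternatingAut.conjNormal_bijective (by decide) (by decide))
  refine ⟨?_, ⟨β.symm⟩⟩
  rw [← Nat.card_congr β.toEquiv, Nat.card_perm, Nat.card_fin]
  rfl

theorem aut_psl_seven :
    Nat.card (MulAut (Matrix.ProjectiveSpecialLinearGroup (Fin 2) (ZMod 7))) = 336 ∧
      Nonempty (MulAut (Matrix.ProjectiveSpecialLinearGroup (Fin 2) (ZMod 7)) ≃*
        GL (Fin 2) (ZMod 7) ⧸ Subgroup.center (GL (Fin 2) (ZMod 7))) := by
  haveI : Fact (Nat.Prime 7) := ⟨by norm_num⟩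
  set Z := Subgroup.center (GL (Fin 2) (ZMod 7))
  have hmem : ∀ g : GL (Fin 2) (ZMod 7), g ∈ Z ↔ innDiag 2 (ZMod 7) g = 1 := by
    intro g
    rw [innDiag_eq_one_iff le_rfl, show Z = _ from GeneralLinearGroup.center_eq_range_scalar]
    constructor
    · rintro ⟨u, rfl⟩
      refine ⟨(u : ZMod 7), ?_⟩
      ext i j
      simp [Matrix.GeneralLinearGroup.scalar, Matrix.one_apply, Matrix.diagonal_apply]
    · rintro ⟨c, hc⟩
      have hc0 : c ≠ 0 := by
        rintro rfl
        have h := GeneralLinearGroup.det_ne_zero g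
        rw [hc] at h
        simp at h
      refine ⟨Units.mk0 c hc0, Units.ext ?_⟩
      rw [hc]
      ext i j
      simp [Matrix.GeneralLinearGroup.scalar, Matrix.one_apply, Matrix.diagonal_apply]
  let ψ : GL (Fin 2) (ZMod 7) ⧸ Z →* MulAut (Matrix.ProjectiveSpecialLinearGroup (Fin 2) (ZMod 7)) :=
    QuotientGroup.lift Z (innDiag 2 (ZMod 7)) fun g hg => (hmem g).1 hg
  have hbij : Function.Bijective ψ := by
    constructor
    · rw [injective_iff_map_eq_one]
      intro q hq
      obtain ⟨g, rfl⟩ := QuotientGroup.mk'_surjective Z q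
      exact (QuotientGroup.eq_one_iff g).2 ((hmem g).2 hq)
    · intro α
      obtain ⟨g, σ, rfl⟩ := exists_semilin α
      refine ⟨QuotientGroup.mk' Z g, ?_⟩
      show innDiag 2 (ZMod 7) g = semilin g σ
      rw [innDiag_apply]
      congr 1
      refine RingEquiv.ext fun x => ?_
      have h : (RingEquiv.refl (ZMod 7)).toRingHom = σ.toRingHom := Subsingleton.elim _ _
      exact RingHom.congr_fun h x
  refine ⟨?_, ⟨(MulEquiv.ofBijective ψ hbij).symm⟩⟩
  rw [← Nat.card_eq_of_bijective ψ hbij]
  have h := Z.card_mul_index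
  rw [Subgroup.index_eq_card, Matrix.card_GL_field] at h
  have hZ : Nat.card Z = 6 := by
    have hinj : Function.Injective (Matrix.GeneralLinearGroup.scalar (Fin 2) : (ZMod 7)ˣ →* GL (Fin 2) (ZMod 7)) := by
      intro a b hab
      have h := congrArg (fun M : GL (Fin 2) (ZMod 7) => (M : Matrix (Fin 2) (Fin 2) (ZMod 7)) 0 0) hab
      exact Units.ext (by simpa [Matrix.GeneralLinearGroup.scalar] using h)
    rw [show Z = _ from GeneralLinearGroup.center_eq_range_scalar,
      ← Nat.card_congr (MonoidHom.ofInjective hinj).toEquiv, Nat.card_eq_fintype_card,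
      ZMod.card_units_eq_totient]
    exact Nat.totient_prime (by norm_num)
  rw [hZ] at h
  simp [Fin.prod_univ_two] at h
  rw [Nat.card_eq_fintype_card]
  omega

end CfsgLib.Perm.SuborbitThree
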