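import Cfsg.Agent.Lib.Perm.SuborbitThree.Pair
import Cfsg.Agent.Lib.Sporadic.M11Subgroups
import Cfsg.Agent.Lib.Sporadic.SporMathieu
import Cfsg.Agent.S1190

/-!
In `M₁₁` the normalizer of a four-group is not maximal.
-/

set_option autoImplicit false
set_option linter.style.haveILetI false

namespace CfsgLib.Perm.SuborbitThree

open Subgroup Cfsg CfsgLib.Sporadic MulAction
open scoped Pointwise

variable {G : Type*} [Group G] [Finite G]

theorem isKlein_of_card {U : Subgroup G} (hU : Nat.card U = 4) (h : ∀ x ∈ U, x * x = 1) :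
    IsKleinFour U := by
  refine ⟨hU, Nat.dvd_antisymm (Monoid.exponent_dvd_of_forall_pow_eq_one fun x => Subtype.ext ?_) ?_⟩
  · rw [SubmonoidClass.coe_pow, pow_two, h x x.2]; rfl
  · haveI : Nontrivial U := Finite.one_lt_card_iff_nontrivial.1 (by omega)
    obtain ⟨x, hx⟩ := exists_ne (1 : U)
    have h2 : orderOf x = 2 := orderOf_eq_prime (Subtype.ext (by
      rw [SubmonoidClass.coe_pow, pow_two, h x x.2]; rfl)) hx
    exact h2 ▸ Monoid.order_dvd_exponent x

/-- Four-groups are conjugate when a Sylow two-subgroup is quasi-dihedral. -/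
theorem fours_conj {S : Sylow 2 G} (hS : Cfsg.IsQuasiDihedral (S : Subgroup G)) {U W : Subgroup G}
    (hU : IsKleinFour U) (hW : IsKleinFour W) :
    ∃ g : G, U.map (MulAut.conj g).toMonoidHom = W := by
  haveI : Fact (Nat.Prime 2) := ⟨Nat.prime_two⟩
  have hmove : ∀ {A : Subgroup G}, IsKleinFour A →
      ∃ x : G, A.map (MulAut.conj x).toMonoidHom ≤ (S : Subgroup G) := fun {A} hA =>
    CfsgLib.TwoGroups.exists_conj_le_sylow S (IsPGroup.of_card (n := 2) hA.card_four)
  obtain ⟨x, hx⟩ := hmove hU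
  obtain ⟨y, hy⟩ := hmove hW
  have hin : ∀ {A : Subgroup G} {x : G}, IsKleinFour A → A.map (MulAut.conj x).toMonoidHom ≤ (S : Subgroup G) →
      IsKleinFour ((A.map (MulAut.conj x).toMonoidHom).subgroupOf (S : Subgroup G)) :=
    fun {A x} hA hle => CfsgLib.TwoGroups.isKleinFour_of_mulEquiv
      ((Subgroup.subgroupOfEquivOfLe hle).trans (A.equivMapOfInjective _ (MulAut.conj x).injective).symm) hA
  obtain ⟨s, hs⟩ := (Cfsg.Agent.S1190.result hS).1 _ _ (hin hU hx) (hin hW hy)
  refine ⟨y⁻¹ * (s : G) * x, ?_⟩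
  refine Subgroup.eq_of_le_of_card_ge ?_ (by rw [card_map_conj, hU.card_four, hW.card_four])
  rintro _ ⟨u, hu, rfl⟩
  have h1 : MulAut.conj s ⟨_, hx (Subgroup.mem_map_of_mem _ hu)⟩ ∈
      (W.map (MulAut.conj y).toMonoidHom).subgroupOf (S : Subgroup G) :=
    hs ▸ Subgroup.mem_map_of_mem _ (Subgroup.mem_subgroupOf.2 (Subgroup.mem_map_of_mem _ hu))
  obtain ⟨w, hw, e⟩ := h1
  have e' : y * w * y⁻¹ = (s : G) * (x * u * x⁻¹) * (s : G)⁻¹ := e
  show y⁻¹ * (s : G) * x * u * (y⁻¹ * (s : G) * x)⁻¹ ∈ W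
  have e'' : y⁻¹ * (s : G) * x * u * (y⁻¹ * (s : G) * x)⁻¹ = y⁻¹ * (y * w * y⁻¹) * y := by
    rw [e']; group
  rw [e'']
  simpa [mul_assoc] using hw

/-- The four-group of `S₄`. -/
def vFour : Subgroup (Equiv.Perm (Fin 4)) where
  carrier := {x | x = 1 ∨ x = Equiv.swap 0 1 * Equiv.swap 2 3 ∨ x = Equiv.swap 0 2 * Equiv.swap 1 3 ∨
    x = Equiv.swap 0 3 * Equiv.swap 1 2}
  mul_mem' := by
    intro a b ha hb
    revert ha hb
    revert a b
    decide +kernel
  one_mem' := Or.inl rfl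
  inv_mem' := by
    intro a ha
    revert ha
    revert a
    decide +kernel

theorem mem_vFour {x : Equiv.Perm (Fin 4)} : x ∈ vFour ↔
    x = 1 ∨ x = Equiv.swap 0 1 * Equiv.swap 2 3 ∨ x = Equiv.swap 0 2 * Equiv.swap 1 3 ∨
      x = Equiv.swap 0 3 * Equiv.swap 1 2 := Iff.rfl

theorem vFour_sq : ∀ x ∈ vFour, x * x = 1 := by
  intro x hx
  rw [mem_vFour] at hx
  revert hx
  revert x
  decide +kernel

theorem vFour_normal : vFour.Normal := by
  refine ⟨fun x hx g => ?_⟩
  rw [mem_vFour] at hx ⊢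
  revert hx
  revert x g
  decide +kernel

theorem card_vFour : Nat.card vFour = 4 := by
  have e : (vFour : Set (Equiv.Perm (Fin 4))) = ↑({1, Equiv.swap 0 1 * Equiv.swap 2 3,
      Equiv.swap 0 2 * Equiv.swap 1 3, Equiv.swap 0 3 * Equiv.swap 1 2} : Finset (Equiv.Perm (Fin 4))) := by
    ext x
    simp [mem_vFour]
  rw [← SetLike.coe_sort_coe, Nat.card_coe_set_eq, e, Set.ncard_coe_finset]
  decide +kernel

omit [Finite G] in
theorem exists_perm_four_in_m11 (e : G ≃* ↥Spor.M11) :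
    ∃ (K : Subgroup G) (j : Equiv.Perm (Fin 4) →* G),
      Nat.card K = 120 ∧ Function.Injective j ∧ j.range ≤ K := by
  classical
  set d := Spor.squareDodecad with hd
  have hd' : d ∈ dodecads := squareDodecad_mem
  have hp : (some 0 : GolayPt) ∈ d := zero_mem_squareDodecad
  have hq : (none : GolayPt) ∉ d := by rw [hd, squareDodecad_eq]; exact none_out
  have hq' : (some 5 : GolayPt) ∉ d := by rw [hd, squareDodecad_eq]; exact five_out
  obtain ⟨θ⟩ := pair_iso hd' hp hq hq' (by simp)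
  let ι := (e.symm.toMonoidHom.comp sporM11Equiv.toMonoidHom).comp
    (Subgroup.inclusion (inf_le_left :
      stabilizer ↥M24 d ⊓ stabilizer ↥M24 (some 0 : GolayPt) ⊓
        stabilizer ↥M24 ({none, some 5} : Finset GolayPt) ≤ _))
  have hι : Function.Injective ι :=
    e.symm.injective.comp (sporM11Equiv.injective.comp (Subgroup.inclusion_injective _))
  refine ⟨(ι.comp θ.symm.toMonoidHom).range,
    (ι.comp θ.symm.toMonoidHom).comp (Equiv.Perm.viaEmbeddingHom Fin.castSuccEmb), ?_,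
    (hι.comp θ.symm.injective).comp (Equiv.Perm.viaEmbeddingHom_injective _), ?_⟩
  · rw [← Nat.card_congr (MonoidHom.ofInjective (f := ι.comp θ.symm.toMonoidHom)
      (hι.comp θ.symm.injective)).toEquiv, Nat.card_perm, Nat.card_fin]
    rfl
  · rintro _ ⟨x, rfl⟩
    exact ⟨_, rfl⟩

/-- The normalizer of a four-group, of order `24`, is not maximal in `M₁₁`. -/
theorem not_mEleven (h : Cfsg.Spor.IsoM11 G) {S : Sylow 2 G}
    (hS : Cfsg.IsQuasiDihedral (S : Subgroup G)) {H V : Subgroup G} (hH : IsCoatom H)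
    (hV : IsKleinFour V) (hN : Subgroup.normalizer (V : Set G) = H) (h24 : Nat.card H = 24) : False := by
  obtain ⟨e⟩ := h
  obtain ⟨K, j, hK, hj, hjK⟩ := exists_perm_four_in_m11 e
  set U := vFour.map j with hU
  have hUk : IsKleinFour U := isKlein_of_card
    (by rw [hU, Subgroup.card_map_of_injective hj, card_vFour])
    (by rintro _ ⟨x, hx, rfl⟩; rw [← map_mul, vFour_sq x hx, map_one])
  obtain ⟨g, hg⟩ := fours_conj hS hV hUk
  set M := H.map (MulAut.conj g).toMonoidHom with hM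
  have hMN : Subgroup.normalizer (U : Set G) = M := by
    rw [← hg, hM, ← hN]
    exact (Subgroup.map_equiv_normalizer_eq V (MulAut.conj g)).symm
  have hle : j.range ≤ M := by
    rw [← hMN]
    rintro _ ⟨x, rfl⟩
    rw [← CfsgLib.TwoGroups.map_conj_eq_iff_mem_normalizer]
    refine Subgroup.eq_of_le_of_card_ge ?_ (card_map_conj U (j x)).ge
    rintro _ ⟨_, ⟨y, hy, rfl⟩, rfl⟩
    exact ⟨x * y * x⁻¹, vFour_normal.conj_mem y hy x, by simp⟩
  have heq : j.range = M := by
    refine Subgroup.eq_of_le_of_card_ge hle ?_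
    rw [hM, card_map_conj, h24, ← Nat.card_congr (MonoidHom.ofInjective hj).toEquiv, Nat.card_perm,
      Nat.card_fin]
    rfl
  have hM' : IsCoatom M := by
    have hiff : M = (MulAut.conj g).mapSubgroup H := rfl
    rw [hiff]
    exact (OrderIso.isCoatom_iff (MulAut.conj g).mapSubgroup H).2 hH
  rcases hM'.le_iff.1 (heq ▸ hjK : M ≤ K) with hK' | hK'
  · rw [hK', Subgroup.card_top, Nat.card_congr e.toEquiv, card_sporM11] at hK
    omega
  · rw [hK', hM, card_map_conj, h24] at hK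
    omega

end CfsgLib.Perm.SuborbitThree
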