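import Cfsg.Agent.Lib.GW.KFactsProof.Auto
import Cfsg.Agent.Lib.GW.KFactsProof.Linear
import Cfsg.Agent.Lib.GW.Deps.OuterInvol.Matrix
import Cfsg.Agent.Lib.GW.Dne.PSLAut
import Cfsg.Agent.Lib.Classical.Dickson.Classify
import Cfsg.Agent.Lib.Classical.SmallIso
import Cfsg.Agent.Lib.Geo.PGLTwoClassify
import Cfsg.Agent.Lib.Perm.ElemCentRecog

/-!
The groups `PSL(2,q)` with a maximal subgroup `S₄`, with an involution centralizer of order twelve,
and their involutory automorphisms fixing an element of order four.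
-/

set_option autoImplicit false
set_option linter.style.haveILetI false

namespace CfsgLib.Perm.SuborbitThree

open Matrix CfsgLib.Known.AutPSL CfsgLib.GW.KFactsProof
open scoped MatrixGroups

variable {F : Type} [Field F] [Fintype F]

theorem two_mul_card_psl (hodd : Odd (Fintype.card F)) :
    2 * Nat.card (ProjectiveSpecialLinearGroup (Fin 2) F) =
      Fintype.card F * (Fintype.card F ^ 2 - 1) := by
  have h := CfsgLib.Classical.Two.card_PSL_two (F := F)
  rwa [show Nat.gcd 2 (Fintype.card F - 1) = 2 from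
    Nat.gcd_eq_left (Nat.dvd_of_mod_eq_zero (by have := Nat.odd_iff.1 hodd; omega))] at h

theorem mod_sixteen (hodd : Odd (Fintype.card F))
    (h16 : 16 ∣ Nat.card (ProjectiveSpecialLinearGroup (Fin 2) F)) :
    Fintype.card F % 16 = 1 ∨ Fintype.card F % 16 = 15 := by
  have h := two_mul_card_psl hodd
  set q := Fintype.card F
  have hq := Nat.odd_iff.1 hodd
  have h32 : 32 ∣ q * (q ^ 2 - 1) := h ▸ (Nat.mul_dvd_mul (dvd_refl 2) h16)
  have hsq : 32 ∣ q ^ 2 - 1 :=
    ((Nat.coprime_two_left.2 hodd).pow_left 5).dvd_of_dvd_mul_left h32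
  have hpos : 1 ≤ q ^ 2 := Nat.one_le_pow _ _ (by omega)
  have h1 : q ^ 2 % 32 = 1 := by omega
  rw [Nat.pow_mod] at h1
  have key : ∀ r < 32, r ^ 2 % 32 = 1 → r % 16 = 1 ∨ r % 16 = 15 := by decide
  have := key (q % 32) (Nat.mod_lt _ (by norm_num)) h1
  omega

/-- The octahedral maximal subgroups occur over prime fields only. -/
theorem psl_four (hodd : Odd (Fintype.card F))
    (h16 : 16 ∣ Nat.card (ProjectiveSpecialLinearGroup (Fin 2) F))
    {M : Subgroup (ProjectiveSpecialLinearGroup (Fin 2) F)} (hM : IsCoatom M)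
    (e : M ≃* Equiv.Perm (Fin 4)) :
    ∃ p : ℕ, p.Prime ∧ (p % 16 = 1 ∨ p % 16 = 15) ∧
      Nonempty (ProjectiveSpecialLinearGroup (Fin 2) F ≃* ProjectiveSpecialLinearGroup (Fin 2) (ZMod p)) := by
  obtain ⟨p, hp⟩ := CharP.exists F
  obtain ⟨f, hpp, hpf⟩ := FiniteField.card F p
  haveI : Fact p.Prime := ⟨hpp⟩
  have hmod := mod_sixteen hodd h16
  have h5 : 15 ≤ Fintype.card F := by
    have h1 : 1 < Fintype.card F := Fintype.one_lt_card
    omega
  have hcard : Nat.card M = 24 := by
    rw [Nat.card_congr e.toEquiv, Nat.card_perm, Nat.card_fin]; rfl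
  have hord : ∀ g : M, orderOf g ≠ 12 := by
    intro g h
    have key : ∀ x : Equiv.Perm (Fin 4), x ^ 6 ≠ 1 → x ^ 4 = 1 := by decide +kernel
    have h' : orderOf (e g) = 12 := by rw [MulEquiv.orderOf_eq, h]
    have h6 : e g ^ 6 ≠ 1 := fun h1 => by
      have := Nat.le_of_dvd (by norm_num) (orderOf_dvd_of_pow_eq_one h1)
      omega
    have := Nat.le_of_dvd (by norm_num) (orderOf_dvd_of_pow_eq_one (key _ h6))
    omega
  have hdih : ∀ k : ℕ, ¬ Nonempty (M ≃* DihedralGroup k) := by
    rintro k ⟨ψ⟩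
    have hk : k = 12 := by
      have := Nat.card_congr ψ.toEquiv
      rw [hcard, DihedralGroup.nat_card] at this
      omega
    subst hk
    exact hord (ψ.symm (DihedralGroup.r 1)) (by rw [MulEquiv.orderOf_eq, DihedralGroup.orderOf_r_one])
  rcases CfsgLib.Classical.Dickson.odd_cases p hodd (by omega) M hM with
    h | ⟨-, k, -, h⟩ | ⟨-, -, k, -, h⟩ | ⟨F₀, _, _, hq, ⟨ψ⟩⟩ | ⟨F₀, _, _, r, -, -, hq, ⟨ψ⟩⟩ |
      ⟨-, -, ⟨ψ⟩⟩ | ⟨-, -, -, ⟨ψ⟩⟩ | ⟨hqp, -, -⟩
  · exfalso
    rw [hcard] at h
    have : 15 * 14 ≤ Fintype.card F * (Fintype.card F - 1) := Nat.mul_le_mul h5 (by omega)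
    omega
  · exact absurd h (hdih k)
  · exact absurd h (hdih k)
  · exfalso
    have hc := Nat.card_congr ψ.toEquiv
    rw [hcard, CfsgLib.Geo.PGLTwo.card_pgl', Nat.card_eq_fintype_card] at hc
    have h3 : Fintype.card F₀ ≤ 3 := by
      by_contra hle
      have : 4 * (4 ^ 2 - 1) ≤ Fintype.card F₀ * (Fintype.card F₀ ^ 2 - 1) :=
        Nat.mul_le_mul (by omega) (Nat.sub_le_sub_right (Nat.pow_le_pow_left (by omega) 2) 1)
      omega
    have : Fintype.card F₀ ^ 2 ≤ 3 ^ 2 := Nat.pow_le_pow_left h3 2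
    omega
  · exfalso
    have hc := Nat.card_congr ψ.toEquiv
    have hodd₀ : Odd (Fintype.card F₀) := by
      rw [hq] at hodd
      rcases Nat.eq_zero_or_pos r with hr | hr
      · rw [hr, pow_zero] at hq; omega
      · exact (Nat.odd_pow_iff hr.ne').1 hodd
    have h2 := two_mul_card_psl (F := F₀) hodd₀
    rw [← hc, hcard] at h2
    have hq1 : 1 < Fintype.card F₀ := Fintype.one_lt_card
    have hle : Fintype.card F₀ ≤ 4 := by
      by_contra hle
      have : 5 * (5 ^ 2 - 1) ≤ Fintype.card F₀ * (Fintype.card F₀ ^ 2 - 1) :=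
        Nat.mul_le_mul (by omega) (Nat.sub_le_sub_right (Nat.pow_le_pow_left (by omega) 2) 1)
      omega
    interval_cases Fintype.card F₀ <;> omega
  · exfalso
    have hc := Nat.card_congr ψ.toEquiv
    rw [hcard, nat_card_alternatingGroup] at hc
    simp [Nat.factorial] at hc
  · exfalso
    have hc := Nat.card_congr ψ.toEquiv
    rw [hcard, nat_card_alternatingGroup] at hc
    simp [Nat.factorial] at hc
  · refine ⟨p, hpp, hqp ▸ hmod, ?_⟩
    exact CfsgLib.Perm.nonempty_psl_congr (ZMod.ringEquivOfPrime F hpp hqp).symm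

/-- An involution centralizer of order twelve. -/
theorem psl_twelve (hodd : Odd (Fintype.card F)) {x : ProjectiveSpecialLinearGroup (Fin 2) F}
    (hx : orderOf x = 2)
    (hc : Nat.card (Subgroup.centralizer ({x} : Set (ProjectiveSpecialLinearGroup (Fin 2) F))) = 12) :
    Nonempty (ProjectiveSpecialLinearGroup (Fin 2) F ≃* ProjectiveSpecialLinearGroup (Fin 2) (ZMod 11)) ∨
      Nonempty (ProjectiveSpecialLinearGroup (Fin 2) F ≃* ProjectiveSpecialLinearGroup (Fin 2) (ZMod 13)) := by
  obtain ⟨ε, hε, -, -, h⟩ := CfsgLib.GW.Dne.PSLAut.card_centralizer_involution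
    (CfsgLib.GW.KFactsProof.two_ne_zero_of_odd' hodd) hx
  rw [hc] at h
  rcases hε with rfl | rfl
  · right
    haveI : Fact (Nat.Prime 13) := ⟨by norm_num⟩
    have hq : Fintype.card F = 13 := by omega
    exact CfsgLib.Perm.nonempty_psl_congr (K := ZMod 13)
      (ZMod.ringEquivOfPrime F (Fact.out : Nat.Prime 13) hq).symm
  · left
    haveI : Fact (Nat.Prime 11) := ⟨by norm_num⟩
    have hq : Fintype.card F = 11 := by omega
    exact CfsgLib.Perm.nonempty_psl_congr (K := ZMod 11)
      (ZMod.ringEquivOfPrime F (Fact.out : Nat.Prime 11) hq).symm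

omit [Fintype F] in
theorem fieldHom_upx (σ : F ≃+* F) (x : F) : fieldHom 2 F σ (upx x) = upx (σ x) := by
  rw [fieldHom_apply, upx_eq, upx_eq, semilin_proj]
  congr 1
  refine Subtype.ext ?_
  rw [coe_slConjHom]
  ext i j
  fin_cases i <;> fin_cases j <;> simp [upSL]

/-- An involutory field automorphism fixes at least a square root of the field. -/
theorem card_le_sq (h2 : (2 : F) ≠ 0) {σ : F ≃+* F} (hσ : σ * σ = 1) (h1 : σ ≠ 1) :
    Fintype.card F ≤ Nat.card {x : F // σ x = x} ^ 2 := by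
  obtain ⟨y, hy⟩ : ∃ y, σ y ≠ y := by
    by_contra h
    push Not at h
    exact h1 (RingEquiv.ext h)
  set d := y - σ y with hd
  have hd0 : d ≠ 0 := sub_ne_zero.2 (Ne.symm hy)
  have hinv : ∀ z, σ (σ z) = z := fun z => RingEquiv.congr_fun hσ z
  have hσd : σ d = -d := by rw [hd, map_sub, hinv, neg_sub]
  rw [pow_two, ← Nat.card_prod, ← Nat.card_eq_fintype_card]
  refine Nat.card_le_card_of_injective (fun x => ((⟨x + σ x, ?_⟩, ⟨(x - σ x) / d, ?_⟩) :
    {x : F // σ x = x} × {x : F // σ x = x})) ?_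
  · rw [map_add, hinv, add_comm]
  · rw [map_div₀, map_sub, hinv, hσd, ← neg_sub x (σ x), neg_div_neg_eq]
  · intro a b hab
    have e1 : a + σ a = b + σ b := congrArg (fun p => (p.1 : F)) hab
    have e2 : (a - σ a) / d = (b - σ b) / d := congrArg (fun p => (p.2 : F)) hab
    have e3 : a - σ a = b - σ b := (div_left_inj' hd0).1 e2
    have e4 : (2 : F) * a = 2 * b := by linear_combination e1 + e3
    exact mul_left_cancel₀ h2 e4

/-- An outer involution of `PSL(2,q)`, `16 ∣ |PSL(2,q)|`, whose centralizer has order dividing `24`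
fixes no element of order four. -/
theorem psl_outer (hodd : Odd (Fintype.card F))
    (h16 : 16 ∣ Nat.card (PSL 2 F)) {α : MulAut (PSL 2 F)} (hsq : α * α = 1)
    (hout : α ∉ Cfsg.Inn (PSL 2 F)) {C : Subgroup (PSL 2 F)} (hC : ∀ x, x ∈ C ↔ α x = x)
    (h24 : Nat.card C ∣ 24) {c : PSL 2 F} (hc : α c = c) (hc4 : orderOf c = 4) : False := by
  classical
  have h2 : (2 : F) ≠ 0 := two_ne_zero_of_odd' hodd
  have hcc : c * c ≠ 1 := fun h => by
    have h' := Nat.le_of_dvd two_pos (orderOf_dvd_of_pow_eq_one (show c ^ 2 = 1 by rw [pow_two]; exact h))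
    omega
  by_cases hf : fld α = 1
  · refine hcc (CfsgLib.GW.Deps.OuterInvol.sq_eq_one_of_commute h2 hsq hf hout hc hcc ?_
      ((Commute.refl c).mul_right (Commute.refl c)))
    rw [← pow_two c, ← pow_two, ← pow_mul, show 2 * 2 = orderOf c from hc4.symm, pow_orderOf_eq_one]
  obtain ⟨g, σ, rfl⟩ := exists_semilin α
  rw [fld_semilin] at hf
  have hσ : σ * σ = 1 := by rw [← fld_semilin g σ, ← map_mul, hsq, map_one]
  have hα : semilin g σ ≠ 1 := fun e => hout (e ▸ one_mem _)
  have hne : fieldHom 2 F σ ≠ 1 := fun e =>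
    hf (fieldHom_injective le_rfl (e.trans (map_one _).symm))
  have ho1 : orderOf (fieldHom 2 F σ) = 2 :=
    orderOf_eq_prime (by rw [pow_two, ← map_mul, hσ, map_one]) hne
  have ho2 : orderOf (innDiag 2 F g * fieldHom 2 F σ) = 2 := by
    rw [fieldHom_apply, ← semilin_split]
    exact orderOf_eq_prime (by rw [pow_two]; exact hsq) hα
  obtain ⟨k, -, hk⟩ := field_coset le_rfl σ Nat.prime_two ho1 g ho2
  have e : semilin g σ = k * fieldHom 2 F σ * k⁻¹ := by rw [← hk, fieldHom_apply, ← semilin_split]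
  let A : AddSubgroup F :=
    { carrier := {x | σ x = x}
      add_mem' := fun {x y} (hx : σ x = x) (hy : σ y = y) => show σ (x + y) = x + y by rw [map_add, hx, hy]
      zero_mem' := map_zero σ
      neg_mem' := fun {x} (hx : σ x = x) => show σ (-x) = -x by rw [map_neg, hx] }
  let j : Multiplicative A →* C :=
    ((k.toMonoidHom.comp (up (F := F))).comp A.subtype.toMultiplicative).codRestrict C fun x => by
      rw [hC]
      show semilin g σ (k (upx (x.toAdd : F))) = k (upx (x.toAdd : F))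
      rw [e, MulAut.mul_apply, MulAut.mul_apply, MulAut.inv_apply, MulEquiv.symm_apply_apply,
        fieldHom_upx, show σ (x.toAdd : F) = (x.toAdd : F) from x.toAdd.2]
  have hj : Function.Injective j := fun a b h =>
    Multiplicative.toAdd.injective (Subtype.ext (upx_injective (k.injective (congrArg Subtype.val h))))
  have hd : Nat.card A ∣ 24 := by
    have := Subgroup.card_dvd_of_injective j hj
    rw [Nat.card_congr (Multiplicative.toAdd (α := A))] at this
    exact this.trans h24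
  have hAodd : Odd (Nat.card A) := by
    refine hodd.of_dvd_nat ?_
    rw [← Nat.card_eq_fintype_card (α := F)]
    exact A.card_addSubgroup_dvd_card
  have hle : Nat.card A ≤ 3 := by
    have h3 : Nat.card A ∣ 3 :=
      (((Nat.coprime_two_right.2 hAodd).pow_right 3)).dvd_of_dvd_mul_left (hd.trans (by norm_num))
    exact Nat.le_of_dvd (by norm_num) h3
  have hq : Fintype.card F ≤ Nat.card A ^ 2 := card_le_sq h2 hσ hf
  have : Nat.card A ^ 2 ≤ 3 ^ 2 := Nat.pow_le_pow_left hle 2
  have := mod_sixteen hodd h16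
  have : 1 < Fintype.card F := Fintype.one_lt_card
  omega

end CfsgLib.Perm.SuborbitThree
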