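import Cfsg.Agent.Lib.Perm.SuborbitKernel
import Cfsg.Agent.Lib.Components.Subnormal
import Cfsg.Agent.Lib.Core.Basic

/-!
An insoluble primitive group with a soluble point stabiliser and a suborbit of length three:
the minimal normal subgroup and general lemmas.
-/

set_option autoImplicit false
set_option linter.style.haveILetI false

namespace CfsgLib.Perm.SuborbitThree

open Subgroup

variable {G : Type*} [Group G]

/-- A point stabiliser `H` of the groups to be classified. -/
structure Setting (H : Subgroup G) : Prop where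
  coatom : IsCoatom H
  normClosed : CfsgLib.ThompsonWielandt.NormClosed H
  insoluble : ¬ Group.IsSolvable G
  solvH : Group.IsSolvable H
  mate : ∃ g : G, Nat.card H = 3 * Nat.card ↥(H ⊓ H.map (MulAut.conj g).toMonoidHom)

/-- The facts about the minimal normal subgroup. -/
structure MinNormal (H L : Subgroup G) : Prop where
  normal : L.Normal
  ne_bot : L ≠ ⊥
  not_solvable : ¬ Group.IsSolvable L
  le_of_normal : ∀ N : Subgroup G, N.Normal → N ≠ ⊥ → L ≤ N
  cent : Subgroup.centralizer (L : Set G) = ⊥
  no_index_two : ∀ K : Subgroup L, K.index ≠ 2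
  card_eq : Nat.card G * Nat.card ↥(L ⊓ H) = Nat.card L * Nat.card H

/-- In a two-group a subgroup which is its own normalizer is the whole group. -/
theorem eq_of_self_normalizing [Finite G] {P R : Subgroup G} (hPR : P ≤ R) (hR : IsPGroup 2 R)
    (h : ∀ x ∈ R, x ∈ Subgroup.normalizer (P : Set G) → x ∈ P) : R = P := by
  haveI : Fact (Nat.Prime 2) := ⟨Nat.prime_two⟩
  haveI := hR.isNilpotent
  refine le_antisymm ?_ hPR
  by_contra hle
  have htop : P.subgroupOf R ≠ ⊤ := fun e => hle (Subgroup.subgroupOf_eq_top.1 e)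
  have hlt := Group.normalizerCondition_of_isNilpotent (G := R) _ (lt_top_iff_ne_top.2 htop)
  obtain ⟨x, hx, hxP⟩ := SetLike.exists_of_lt hlt
  refine hxP (h x x.2 (Subgroup.mem_normalizer_iff.2 fun y => ?_))
  have hx' := Subgroup.mem_normalizer_iff.1 hx
  constructor
  · intro hy
    exact (hx' ⟨y, hPR hy⟩).1 hy
  · intro hy
    have hyR : y ∈ R := by
      have := R.mul_mem (R.mul_mem (R.inv_mem x.2) (hPR hy)) x.2
      simpa [mul_assoc] using this
    exact (hx' ⟨y, hyR⟩).2 hy

/-- A two-subgroup of `L` lies in a Sylow two-subgroup of `L`. -/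
theorem exists_sylow_in [Finite G] {P L : Subgroup G} (hPL : P ≤ L) (hP : IsPGroup 2 P) :
    ∃ R : Subgroup G, P ≤ R ∧ R ≤ L ∧ IsPGroup 2 R ∧ ∃ m, Odd m ∧ Nat.card L = Nat.card R * m := by
  haveI : Fact (Nat.Prime 2) := ⟨Nat.prime_two⟩
  obtain ⟨Q, hQ⟩ := (hP.comap_of_injective L.subtype L.subtype_injective).exists_le_sylow
  refine ⟨(Q : Subgroup L).map L.subtype, fun x hx => ⟨⟨x, hPL hx⟩, hQ hx, rfl⟩,
    Subgroup.map_subtype_le _, Q.2.map _, (Q : Subgroup L).index, ?_, ?_⟩
  · exact Nat.odd_iff.2 (Nat.two_dvd_ne_zero.1 Q.not_dvd_index)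
  · rw [Subgroup.card_map_of_injective L.subtype_injective, Subgroup.card_mul_index]

theorem solvable_of_quotient (N : Subgroup G) [N.Normal] (h1 : Group.IsSolvable N)
    (h2 : Group.IsSolvable (G ⧸ N)) : Group.IsSolvable G :=
  Group.isSolvable_of_ker_le_range N.subtype (QuotientGroup.mk' N) (by
    rw [QuotientGroup.ker_mk', Subgroup.range_subtype])

namespace Setting

variable {H : Subgroup G} (hs : Setting H)
include hs

theorem corefree {N : Subgroup G} (hN : N.Normal) (hle : N ≤ H) : N = ⊥ := by
  by_contra hne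
  refine hs.coatom.1 (top_le_iff.1 ?_)
  have h := hs.normClosed N hle (fun x _ => by rw [Subgroup.normalizer_eq_top]; exact mem_top x) hne
  rwa [Subgroup.normalizer_eq_top] at h

theorem sup_top {N : Subgroup G} (hN : N.Normal) (hne : N ≠ ⊥) : H ⊔ N = ⊤ :=
  hs.coatom.2 _ (lt_of_le_of_ne le_sup_left fun e => hne (hs.corefree hN (e ▸ le_sup_right)))

theorem solvable_quotient (N : Subgroup G) [hN : N.Normal] (hne : N ≠ ⊥) :
    Group.IsSolvable (G ⧸ N) := by
  haveI := hs.solvH
  refine Group.isSolvable_of_surjective (f := (QuotientGroup.mk' N).comp H.subtype) ?_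
  rw [← MonoidHom.range_eq_top, MonoidHom.range_comp, Subgroup.range_subtype]
  refine top_le_iff.1 fun q _ => ?_
  obtain ⟨x, rfl⟩ := QuotientGroup.mk'_surjective N q
  have hx : x ∈ H ⊔ N := (hs.sup_top hN hne) ▸ mem_top x
  obtain ⟨h, hh, n, hn, rfl⟩ := Subgroup.mem_sup_of_normal_right.1 hx
  refine ⟨h, hh, ?_⟩
  rw [map_mul, show QuotientGroup.mk' N n = 1 from (QuotientGroup.eq_one_iff n).2 hn, mul_one]

theorem not_solvable {N : Subgroup G} (hN : N.Normal) (hne : N ≠ ⊥) : ¬ Group.IsSolvable N :=
  fun h => hs.insoluble (solvable_of_quotient N h (hs.solvable_quotient N hne))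

theorem normalizer_eq {X : Subgroup G} (hX : X ≤ H) (hn : H ≤ Subgroup.normalizer (X : Set G))
    (hne : X ≠ ⊥) : Subgroup.normalizer (X : Set G) = H :=
  le_antisymm (hs.normClosed X hX hn hne) hn

theorem centralizer_le {X : Subgroup G} (hX : X ≤ H) (hn : H ≤ Subgroup.normalizer (X : Set G))
    (hne : X ≠ ⊥) : Subgroup.centralizer (X : Set G) ≤ H :=
  le_trans (Subgroup.centralizer_le_normalizer _) (hs.normClosed X hX hn hne)

theorem exists_minNormal [Finite G] : ∃ L : Subgroup G, MinNormal H L := by
  haveI : Nontrivial G := by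
    by_contra h
    rw [not_nontrivial_iff_subsingleton] at h
    exact hs.insoluble inferInstance
  obtain ⟨L, hLn, hL1, hmin⟩ := CfsgLib.Components.exists_minimal_normal (G := G)
  haveI := hLn
  have hns := hs.not_solvable hLn hL1
  have hperf : ⁅L, L⁆ = L := by
    rcases hmin _ inferInstance (Subgroup.commutator_le_self L) with h | h
    · exfalso
      refine hns (Group.isSolvable_of_comm fun x y => Subtype.ext ?_)
      exact (Subgroup.mem_centralizer_iff.1
        (Subgroup.commutator_eq_bot_iff_le_centralizer.1 h y.2) x x.2)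
    · exact h
  have hle : ∀ N : Subgroup G, N.Normal → N ≠ ⊥ → L ≤ N := by
    intro N hN hne
    rcases hmin _ (inferInstance : (N ⊓ L).Normal) inf_le_right with h | h
    · exfalso
      haveI := hs.solvable_quotient N hne
      refine hns (Group.isSolvable_of_isSolvable_injective (f := (QuotientGroup.mk' N).comp L.subtype) ?_)
      rw [injective_iff_map_eq_one]
      intro x hx
      have hm : (x : G) ∈ N ⊓ L := ⟨(QuotientGroup.eq_one_iff (x : G)).1 hx, x.2⟩
      rw [h, Subgroup.mem_bot] at hm
      exact Subtype.ext hm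
    · exact h ▸ inf_le_left
  refine ⟨L, hLn, hL1, hns, hle, ?_, ?_, ?_⟩
  · by_contra hne
    refine hns (Group.isSolvable_of_comm fun x y => Subtype.ext ?_)
    exact (Subgroup.mem_centralizer_iff.1 (hle _ inferInstance hne y.2) x x.2)
  · intro K hK
    haveI := Subgroup.normal_of_index_eq_two hK
    have hcomm : commutator L ≤ K := by
      rw [← Subgroup.Normal.quotient_commutative_iff_commutator_le]
      have h2 : Nat.card (L ⧸ K) = 2 := hK
      haveI : Fact (Nat.Prime 2) := ⟨Nat.prime_two⟩
      haveI := isCyclic_of_prime_card h2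
      exact IsCyclic.isMulCommutative
    have htop : K = ⊤ := by
      refine top_le_iff.1 ?_
      rintro x -
      have hx : (x : G) ∈ (commutator L).map L.subtype := by
        rw [_root_.commutator_def, Subgroup.map_commutator, ← MonoidHom.range_eq_map, Subgroup.range_subtype,
          hperf]
        exact x.2
      obtain ⟨y, hy, hxy⟩ := hx
      rw [← Subtype.ext hxy]
      exact hcomm hy
    rw [htop, Subgroup.index_top] at hK
    omega
  · have h := CfsgLib.Core.card_sup_mul_card_inf H L (by rw [Subgroup.normalizer_eq_top]; exact le_top)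
    rw [hs.sup_top hLn hL1, Subgroup.card_top, inf_comm] at h
    rw [h, mul_comm]

theorem isSimple_of_top [Finite G] {L : Subgroup G} (hL : MinNormal H L) (htop : L = ⊤) :
    IsSimpleGroup G := by
  haveI : Nontrivial G := by
    by_contra h
    rw [not_nontrivial_iff_subsingleton] at h
    exact hs.insoluble inferInstance
  exact ⟨fun N hN => (em (N = ⊥)).imp id fun h => top_le_iff.1 (htop ▸ hL.le_of_normal N hN h)⟩

theorem not_comm : ¬ ∀ x y : G, x * y = y * x := fun h => hs.insoluble (Group.isSolvable_of_comm h)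

end Setting

end CfsgLib.Perm.SuborbitThree
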