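import Cfsg.Agent.Lib.Perm.SuborbitThree.QuasiLocal
import Cfsg.Agent.Lib.Perm.SuborbitThree.Linear
import Cfsg.Agent.Lib.Perm.SuborbitThree.Setting
import Cfsg.Agent.Lib.TwoGroups.RankTwoMaxClass
import Cfsg.Agent.Lib.TwoGroups.RankTwoTypes
import Cfsg.Agent.Lib.PGroups.Basic
import Cfsg.Agent.S0483

/-!
Simple groups with a self-centralizing four-group: the Sylow types and the groups.
-/

set_option autoImplicit false
set_option linter.style.haveILetI false

open scoped commutatorElement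

namespace CfsgLib.Perm.SuborbitThree

open Subgroup

variable {G : Type*} [Group G] [Finite G]

/-- A two-group `T` contains a normal two-subgroup of a group in which it has index three. -/
theorem le_of_normal_two {A T K : Subgroup G} (hT : T ≤ K) (hA : A ≤ K)
    (hn : K ≤ Subgroup.normalizer (A : Set G)) (hAp : IsPGroup 2 A) (hTp : IsPGroup 2 T)
    (h3 : Nat.card K = 3 * Nat.card T) : A ≤ T := by
  haveI : Fact (Nat.Prime 2) := ⟨Nat.prime_two⟩
  have hsup : IsPGroup 2 (T ⊔ A : Subgroup G) := hTp.to_sup_of_normal_right' hAp (hT.trans hn)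
  obtain ⟨i, hi⟩ := IsPGroup.iff_card.1 hsup
  obtain ⟨j, hj⟩ := IsPGroup.iff_card.1 hTp
  have hd : Nat.card (T ⊔ A : Subgroup G) ∣ Nat.card T := by
    have h := Subgroup.card_dvd_of_le (sup_le hT hA)
    rw [h3, hi] at h
    rw [hi]
    exact ((Nat.Coprime.pow_left i (by norm_num : (Nat.Coprime 2 3))).dvd_of_dvd_mul_left h)
  exact (le_sup_right : A ≤ T ⊔ A).trans
    (Subgroup.eq_of_le_of_card_ge (le_sup_left : T ≤ T ⊔ A) (Nat.le_of_dvd Nat.card_pos hd)).ge

/-- A nontrivial normal subgroup of even order meets a self-centralizing two-subgroup. -/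
theorem inf_ne_bot {L A : Subgroup G} (hL : L.Normal) (h2 : 2 ∣ Nat.card L) (hA : IsPGroup 2 A)
    (hC : Subgroup.centralizer (A : Set G) ≤ A) : L ⊓ A ≠ ⊥ := by
  haveI : Fact (Nat.Prime 2) := ⟨Nat.prime_two⟩
  obtain ⟨S, hAS⟩ := hA.exists_le_sylow
  obtain ⟨t, ht⟩ := exists_prime_orderOf_dvd_card' 2 h2
  rw [← Subgroup.orderOf_coe] at ht
  obtain ⟨x, hx⟩ := CfsgLib.TwoGroups.exists_conj_le_sylow S (P := Subgroup.zpowers (t : G))
    (IsPGroup.of_card (n := 1) (by rw [Nat.card_zpowers, ht, pow_one]))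
  have htS : x * (t : G) * x⁻¹ ∈ (S : Subgroup G) :=
    hx (Subgroup.mem_map_of_mem _ (Subgroup.mem_zpowers _))
  haveI := hL
  haveI hn : (L.subgroupOf (S : Subgroup G)).Normal := inferInstance
  have hne : L.subgroupOf (S : Subgroup G) ≠ ⊥ := by
    intro e
    have h1 : (⟨_, htS⟩ : (S : Subgroup G)) ∈ L.subgroupOf (S : Subgroup G) :=
      Subgroup.mem_subgroupOf.2 (hL.conj_mem _ t.2 x)
    rw [e, Subgroup.mem_bot] at h1
    have h2 : x * (t : G) * x⁻¹ = 1 := congrArg Subtype.val h1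
    rw [conj_eq_one_iff] at h2
    rw [h2, orderOf_one] at ht
    omega
  intro hbot
  refine CfsgLib.PGroups.inf_center_ne_bot S.2 hne (eq_bot_iff.2 fun z hz => ?_)
  have hzA : (z : G) ∈ A := hC (Subgroup.mem_centralizer_iff.2 fun a ha =>
    congrArg Subtype.val (Subgroup.mem_center_iff.1 hz.2 ⟨a, hAS ha⟩))
  have : (z : G) ∈ L ⊓ A := ⟨hz.1, hzA⟩
  rw [hbot, Subgroup.mem_bot] at this
  exact Subgroup.mem_bot.2 (Subtype.ext this)

/-- A Sylow two-subgroup containing a self-centralizing four-group is dihedral or quasi-dihedral. -/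
theorem types_of_four {V : Subgroup G} (hV : IsKleinFour V)
    (hC : Subgroup.centralizer (V : Set G) ≤ V) {S : Sylow 2 G} (hVS : V ≤ (S : Subgroup G)) :
    CfsgLib.TwoGroups.RankTwoTypes.IsDihOrQD (S : Subgroup G) := by
  classical
  haveI : Fact (Nat.Prime 2) := ⟨Nat.prime_two⟩
  have hV4 : Nat.card V = 4 := hV.card_four
  haveI : Nontrivial (S : Subgroup G) := by
    refine Finite.one_lt_card_iff_nontrivial.1 ?_
    have := Subgroup.card_le_of_le hVS
    omega
  have hZ : Subgroup.center (S : Subgroup G) ≠ ⊥ := by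
    haveI := S.2.center_nontrivial
    exact (Subgroup.nontrivial_iff_ne_bot _).1 inferInstance
  obtain ⟨z, hz, hz1⟩ := (Subgroup.bot_or_exists_ne_one _).resolve_left hZ
  have hzV : (z : G) ∈ V := hC (Subgroup.mem_centralizer_iff.2 fun a ha =>
    congrArg Subtype.val (Subgroup.mem_center_iff.1 hz ⟨a, hVS ha⟩))
  have hsq : ∀ x ∈ V, x * x = 1 := fun x hx => by
    haveI := hV
    exact congrArg Subtype.val (IsKleinFour.mul_self (⟨x, hx⟩ : V))
  have hinv : ∀ x : (S : Subgroup G), (x : G) ∈ V → x ≠ 1 → orderOf x = 2 := fun x hx hx1 =>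
    orderOf_eq_prime (Subtype.ext (by rw [SubmonoidClass.coe_pow, pow_two, hsq _ hx]; rfl)) hx1
  obtain ⟨v, hvV, hv1, hvz⟩ : ∃ v ∈ V, v ≠ 1 ∧ v ≠ (z : G) := by
    by_contra h
    push Not at h
    have hsub : (V : Set G) ⊆ {1, (z : G)} := fun x hx => by
      by_cases hx1 : x = 1
      · exact Or.inl hx1
      · exact Or.inr (h x hx hx1)
    have h1 : (V : Set G).ncard ≤ 2 :=
      (Set.ncard_le_ncard hsub (Set.toFinite _)).trans
        ((Set.ncard_insert_le _ _).trans (by rw [Set.ncard_singleton]))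
    rw [← Nat.card_coe_set_eq, SetLike.coe_sort_coe, hV4] at h1
    omega
  have hgen : ∀ x ∈ V, x = 1 ∨ x = (z : G) ∨ x = v ∨ x = (z : G) * v := fun x hx => by
    by_cases hx1 : x = 1
    · exact Or.inl hx1
    · exact Or.inr (CfsgLib.TwoGroups.RankTwoTypes.four_cases (fun x hx => by rw [pow_two]; exact hsq x hx)
        hV4 hzV hvV (fun e => hz1 (Subtype.ext e)) hv1 (Ne.symm hvz) x hx hx1)
  refine CfsgLib.TwoGroups.RankTwoTypes.isDihOrQD_of_centralizer_four S.2 (z := z) (v := ⟨v, hVS hvV⟩) hz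
    (hinv z hzV hz1) (hinv _ hvV fun e => hv1 (congrArg Subtype.val e))
    (fun e => hvz (congrArg Subtype.val e).symm) ?_
  have e : Subgroup.centralizer ({⟨v, hVS hvV⟩} : Set (S : Subgroup G)) = V.subgroupOf (S : Subgroup G) := by
    ext x
    rw [Subgroup.mem_centralizer_singleton_iff, Subgroup.mem_subgroupOf]
    constructor
    · intro hx
      have hxv : (x : G) * v = v * x := congrArg Subtype.val hx
      have hxz : (x : G) * z = z * x := congrArg Subtype.val (Subgroup.mem_center_iff.1 hz x)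
      refine hC (Subgroup.mem_centralizer_iff.2 fun a ha => ?_)
      rcases hgen a ha with rfl | rfl | rfl | rfl
      · rw [one_mul, mul_one]
      · exact hxz.symm
      · exact hxv.symm
      · exact ((show Commute (z : G) x from hxz.symm).mul_left hxv.symm).eq
    · intro hx
      haveI := hV
      exact Subtype.ext (congrArg Subtype.val (mul_comm_of_exponent_two IsKleinFour.exponent_two
        (⟨x, hx⟩ : V) ⟨v, hvV⟩) : (x : G) * v = v * x)
  rw [e, Nat.card_congr (Subgroup.subgroupOfEquivOfLe hVS).toEquiv, hV4]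

theorem oddCore_eq_bot [IsSimpleGroup G] (h2 : 2 ∣ Nat.card G) : Cfsg.oddCore G = ⊥ := by
  haveI : (Cfsg.oddCore G).Normal := CfsgLib.Core.normal_pPrimeCore 2 G
  refine ((inferInstance : (Cfsg.oddCore G).Normal).eq_bot_or_eq_top).resolve_right fun h => ?_
  have hc : (Nat.card (Cfsg.oddCore G)).Coprime 2 := CfsgLib.Core.coprime_card_pPrimeCore 2 G
  rw [h, Subgroup.card_top] at hc
  exact absurd (Nat.eq_one_of_dvd_coprimes hc h2 dvd_rfl) (by norm_num)

/-- A simple group with dihedral Sylow two-subgroups is `PSL(2,q)`, `q` odd, or `A₇`. -/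
theorem dihedral_simple [IsSimpleGroup G] (hnc : ¬ ∀ x y : G, x * y = y * x) {S : Sylow 2 G} {n : ℕ}
    (hn : 2 ≤ n) (hS : Nonempty ((S : Subgroup G) ≃* DihedralGroup n)) :
    (∃ (F : Type) (_ : Field F) (_ : Fintype F), Odd (Fintype.card F) ∧ 3 < Fintype.card F ∧
        Nonempty (G ≃* Matrix.ProjectiveSpecialLinearGroup (Fin 2) F)) ∨
      Nonempty (G ≃* alternatingGroup (Fin 7)) := by
  haveI : Group.IsPerfect G := by
    refine ⟨?_⟩
    rcases (inferInstance : (commutator G).Normal).eq_bot_or_eq_top with h | h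
    · exact absurd (fun x y => by
        have hm : ⁅x, y⁆ ∈ commutator G :=
          Subgroup.commutator_mem_commutator (Subgroup.mem_top x) (Subgroup.mem_top y)
        rw [h, Subgroup.mem_bot, commutatorElement_eq_one_iff_mul_comm] at hm
        exact hm) hnc
    · exact h
  have h2 : 2 ∣ Nat.card G := by
    refine dvd_trans ?_ (Subgroup.card_subgroup_dvd_card (S : Subgroup G))
    rw [Nat.card_congr hS.some.toEquiv, DihedralGroup.nat_card]
    exact dvd_mul_right 2 n
  have hO := oddCore_eq_bot (G := G) h2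
  haveI : (Cfsg.oddCore G).Normal := CfsgLib.Core.normal_pPrimeCore 2 G
  let θ : G ≃* G ⧸ Cfsg.oddCore G :=
    (QuotientGroup.quotientBot (G := G)).symm.trans (QuotientGroup.quotientMulEquivOfEq hO.symm)
  rcases Cfsg.Agent.S0483.result S n hn hS with ⟨F, iF, iF', h1, h2, ⟨e⟩⟩ | ⟨⟨e⟩⟩
  · exact Or.inl ⟨F, iF, iF', h1, h2, ⟨θ.trans e⟩⟩
  · exact Or.inr ⟨θ.trans e⟩

/-- Ring isomorphisms of the coefficients. -/
theorem nonempty_psl_three_congr {F K : Type*} [Field F] [Field K] (e : F ≃+* K) :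
    Nonempty (Matrix.ProjectiveSpecialLinearGroup (Fin 3) F ≃*
      Matrix.ProjectiveSpecialLinearGroup (Fin 3) K) := by
  let E : Matrix.SpecialLinearGroup (Fin 3) F ≃* Matrix.SpecialLinearGroup (Fin 3) K :=
    { toFun := Matrix.SpecialLinearGroup.map e.toRingHom
      invFun := Matrix.SpecialLinearGroup.map e.symm.toRingHom
      left_inv := fun A => Subtype.ext (Matrix.ext fun i j => e.symm_apply_apply (A.1 i j))
      right_inv := fun A => Subtype.ext (Matrix.ext fun i j => e.apply_symm_apply (A.1 i j))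
      map_mul' := map_mul _ }
  refine ⟨QuotientGroup.congr _ _ E ?_⟩
  ext x
  constructor
  · rintro ⟨y, hy, rfl⟩
    rw [mem_center_iff]
    intro g
    show g * E y = E y * g
    rw [← E.apply_symm_apply g, ← map_mul, ← map_mul, mem_center_iff.1 hy]
  · intro hx
    refine ⟨E.symm x, ?_, E.apply_symm_apply x⟩
    rw [SetLike.mem_coe, mem_center_iff]
    intro g
    apply E.injective
    rw [map_mul, map_mul, E.apply_symm_apply, mem_center_iff.1 hx]

theorem nonempty_psl_three {F : Type} [Field F] [Fintype F] (hF : Fintype.card F = 3)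
    {X : Type*} [Group X] (e : X ≃* Matrix.ProjectiveSpecialLinearGroup (Fin 3) F) :
    Nonempty (X ≃* Matrix.ProjectiveSpecialLinearGroup (Fin 3) (ZMod 3)) := by
  haveI : Fact (Nat.Prime 3) := ⟨Nat.prime_three⟩
  obtain ⟨θ⟩ := nonempty_psl_three_congr (K := ZMod 3)
    (ZMod.ringEquivOfPrime F (Fact.out : Nat.Prime 3) hF).symm
  exact ⟨e.trans θ⟩

end CfsgLib.Perm.SuborbitThree
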