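import Cfsg.Agent.Lib.Perm.SuborbitThree.Pair
import Cfsg.Agent.Lib.Perm.SuborbitThree.SylowTypes
import Cfsg.Agent.Lib.Perm.SuborbitThree.MEleven

/-!
Point stabiliser `S₄`: the group is `PSL(2,p)`, `p ≡ ±1 (mod 16)`, or `PSL(3,3)`.
-/

set_option autoImplicit false
set_option linter.style.haveILetI false

namespace CfsgLib.Perm.SuborbitThree

open Subgroup

theorem vFour_cent : ∀ x : Equiv.Perm (Fin 4), (∀ y ∈ vFour, x * y = y * x) → x ∈ vFour := by
  intro x h
  have h' : ∀ y, (y = 1 ∨ y = Equiv.swap 0 1 * Equiv.swap 2 3 ∨ y = Equiv.swap 0 2 * Equiv.swap 1 3 ∨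
      y = Equiv.swap 0 3 * Equiv.swap 1 2) → x * y = y * x := h
  rw [mem_vFour]
  revert h'
  clear h
  revert x
  decide +kernel

theorem vFour_trans : ∀ x ∈ vFour, ∀ y ∈ vFour, x ≠ 1 → y ≠ 1 → ∃ g : Equiv.Perm (Fin 4), g * x * g⁻¹ = y := by
  intro x hx y hy hx1 hy1
  have key : ∀ x ∈ [Equiv.swap (0 : Fin 4) 1 * Equiv.swap 2 3, Equiv.swap 0 2 * Equiv.swap 1 3,
      Equiv.swap 0 3 * Equiv.swap 1 2], ∀ y ∈ [Equiv.swap (0 : Fin 4) 1 * Equiv.swap 2 3,
      Equiv.swap 0 2 * Equiv.swap 1 3, Equiv.swap 0 3 * Equiv.swap 1 2],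
      ∃ g : Equiv.Perm (Fin 4), g * x * g⁻¹ = y := by decide +kernel
  exact key x (by simpa using (mem_vFour.1 hx).resolve_left hx1)
    y (by simpa using (mem_vFour.1 hy).resolve_left hy1)

variable {G : Type*} [Group G] [Finite G] {H : Subgroup G}

theorem case_four (hs : Setting H) (e : H ≃* Equiv.Perm (Fin 4)) :
    (∃ p : ℕ, p.Prime ∧ (p % 16 = 1 ∨ p % 16 = 15) ∧
        Nonempty (G ≃* Matrix.ProjectiveSpecialLinearGroup (Fin 2) (ZMod p))) ∨
      Nonempty (G ≃* Matrix.ProjectiveSpecialLinearGroup (Fin 3) (ZMod 3)) := by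
  classical
  haveI : Fact (Nat.Prime 2) := ⟨Nat.prime_two⟩
  have hH24 : Nat.card H = 24 := by
    rw [Nat.card_congr e.toEquiv, Nat.card_perm, Nat.card_fin]; rfl
  -- the four-group
  set ι : Equiv.Perm (Fin 4) →* G := H.subtype.comp e.symm.toMonoidHom with hι
  have hιi : Function.Injective ι := H.subtype_injective.comp e.symm.injective
  have hιH : ∀ h ∈ H, ∃ x, ι x = h := fun h hh => ⟨e ⟨h, hh⟩, by simp [hι]⟩
  set V := vFour.map ι with hVdef
  have hV4 : Nat.card V = 4 := by rw [hVdef, Subgroup.card_map_of_injective hιi, card_vFour]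
  have hV2 : ∀ x ∈ V, x * x = 1 := by
    rintro _ ⟨x, hx, rfl⟩
    rw [← map_mul, vFour_sq x hx, map_one]
  have hVK : IsKleinFour V := isKlein_of_card hV4 hV2
  have hVH : V ≤ H := by
    rintro _ ⟨x, -, rfl⟩
    exact (e.symm x).2
  have hVn : H ≤ Subgroup.normalizer (V : Set G) := by
    intro h hh
    obtain ⟨x, rfl⟩ := hιH h hh
    rw [← CfsgLib.TwoGroups.map_conj_eq_iff_mem_normalizer]
    refine Subgroup.eq_of_le_of_card_ge ?_ (card_map_conj V (ι x)).ge
    rintro _ ⟨_, ⟨y, hy, rfl⟩, rfl⟩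
    exact ⟨x * y * x⁻¹, vFour_normal.conj_mem y hy x, by simp⟩
  have hVne : V ≠ ⊥ := fun h => by rw [h, Subgroup.card_bot] at hV4; omega
  have hNV := hs.normalizer_eq hVH hVn hVne
  have hVle : V ≤ Subgroup.centralizer (V : Set G) := fun x hx =>
    Subgroup.mem_centralizer_iff.2 fun y hy => comm_of_sq hV2 hy hx
  have hCV : Subgroup.centralizer (V : Set G) = V := by
    refine le_antisymm (fun g hg => ?_) hVle
    obtain ⟨x, rfl⟩ := hιH g (hs.centralizer_le hVH hVn hVne hg)
    refine ⟨x, vFour_cent x fun y hy => hιi ?_, rfl⟩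
    rw [map_mul, map_mul]
    exact (Subgroup.mem_centralizer_iff.1 hg _ (Subgroup.mem_map_of_mem ι hy)).symm
  have hVp : IsPGroup 2 V := IsPGroup.of_card (n := 2) hV4
  -- the neighbouring stabiliser
  obtain ⟨g, hg⟩ := hs.mate
  set T := H ⊓ H.map (MulAut.conj g).toMonoidHom with hT
  have hT8 : Nat.card T = 8 := by omega
  have hTp : IsPGroup 2 T := IsPGroup.of_card (n := 3) hT8
  have hAT : V ≤ T := le_of_normal_two inf_le_left hVH hVn hVp hTp hg
  have hBT : V.map (MulAut.conj g).toMonoidHom ≤ T := by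
    refine le_of_normal_two inf_le_right (Subgroup.map_mono hVH) ?_ (hVp.map _) hTp
      (by rw [card_map_conj]; exact hg)
    rw [hs.normalizer_conj hVH hVn hVne g]
  obtain ⟨-, R, hTR, hRp⟩ := hs.exists_larger hVH hVn hVne hV2 g hT
    (fun h => by rw [h] at hT8; omega) hTp hAT hBT (by omega)
    (fun t _ ht => hCV.le ht)
  have h16 : 16 ∣ Nat.card G := by
    obtain ⟨k, hk⟩ := IsPGroup.iff_card.1 hRp
    have hlt : Nat.card T < Nat.card R := by
      refine lt_of_le_of_ne (Subgroup.card_le_of_le hTR.le) fun h => hTR.ne ?_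
      exact Subgroup.eq_of_le_of_card_ge hTR.le h.ge
    have h4 : 4 ≤ k := by
      by_contra hk4
      have : 2 ^ k ≤ 2 ^ 3 := Nat.pow_le_pow_right two_pos (by omega)
      omega
    exact (dvd_trans (pow_dvd_pow 2 h4) (hk ▸ dvd_rfl)).trans (Subgroup.card_subgroup_dvd_card R)
  -- the minimal normal subgroup is everything
  obtain ⟨L, hL⟩ := hs.exists_minNormal
  have hLn := hL.normal
  have hce := hL.card_eq
  rw [hH24] at hce
  have h2L : 2 ∣ Nat.card L := by
    have h : 16 ∣ Nat.card L * 24 := hce ▸ h16.mul_right _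
    omega
  have hLV : L ⊓ V ≠ ⊥ := inf_ne_bot hLn h2L hVp hCV.le
  have hVL : V ≤ L := by
    obtain ⟨v, ⟨hvL, hvV⟩, hv1⟩ := (Subgroup.bot_or_exists_ne_one _).resolve_left hLV
    intro w hw
    by_cases hw1 : w = 1
    · rw [hw1]; exact one_mem _
    obtain ⟨x, hx, rfl⟩ := hvV
    obtain ⟨y, hy, rfl⟩ := hw
    obtain ⟨c, rfl⟩ := vFour_trans x hx y hy (fun h => hv1 (by rw [h, map_one]))
      (fun h => hw1 (by rw [h, map_one]))
    rw [map_mul, map_mul, map_inv]
    exact hLn.conj_mem _ hvL _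
  have htop : L = ⊤ := by
    refine top_le_iff.1 ?_
    rw [← hs.sup_top hLn hL.ne_bot]
    refine sup_le ?_ le_rfl
    by_contra hHL
    obtain ⟨R', hVR', hR'L, hR'p, n, hn, hnc⟩ := exists_sylow_in hVL hVp
    set M := L ⊓ H with hM
    have hM4 : 4 ∣ Nat.card M := hV4 ▸ Subgroup.card_dvd_of_le (le_inf hVL hVH)
    have hM24 : Nat.card M ∣ 24 := hH24 ▸ Subgroup.card_dvd_of_le inf_le_right
    have hMlt : Nat.card M ≠ 24 := fun h => hHL (by
      have := Subgroup.eq_of_le_of_card_ge (inf_le_right : M ≤ H) (by rw [hH24, h])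
      exact this ▸ inf_le_left)
    -- the part of `R'` in the normalizer of `V` is `V`
    have hR'V : R' = V := by
      refine eq_of_self_normalizing hVR' hR'p fun x hx hxn => ?_
      rw [hNV] at hxn
      have h8 : Nat.card M = 4 ∨ Nat.card M = 8 ∨ Nat.card M = 12 := by
        have key : ∀ k < 25, k ∣ 24 → 4 ∣ k → k ≠ 24 → k = 4 ∨ k = 8 ∨ k = 12 := by decide
        exact key _ (Nat.lt_succ_of_le (Nat.le_of_dvd (by norm_num) hM24)) hM24 hM4 hMlt
      have hP : R' ⊓ H ≤ M := le_inf (inf_le_left.trans hR'L) inf_le_right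
      rcases h8 with h | h | h
      · exact (Subgroup.eq_of_le_of_card_ge (le_inf hVL hVH : V ≤ M) (by rw [hV4]; exact h.le)).ge (hP ⟨hx, hxn⟩)
      · -- `M` is a normal subgroup of order eight of `S₄`: impossible
        exfalso
        have hd : Nat.card G * 8 = Nat.card L * 24 := h ▸ hce
        have hMp : IsPGroup 2 M := IsPGroup.of_card (n := 3) h
        have hMn : H ≤ Subgroup.normalizer (M : Set G) :=
          fun y hy => Subgroup.mem_normalizer_iff.2 fun z => by
            constructor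
            · intro hz; exact ⟨hLn.conj_mem z hz.1 y, H.mul_mem (H.mul_mem hy hz.2) (H.inv_mem hy)⟩
            · intro hz
              have h1 := hLn.conj_mem _ hz.1 y⁻¹
              have h2 := H.mul_mem (H.mul_mem (H.inv_mem hy) hz.2) hy
              simp only [mul_assoc, inv_inv, inv_mul_cancel_left, inv_mul_cancel, mul_one] at h1 h2
              exact ⟨h1, h2⟩
        have hne : ∀ y : Equiv.Perm (Fin 4), y ∉ vFour → (y * y = 1 ∨ y ^ 4 = 1) →
            ∃ c : Equiv.Perm (Fin 4), ∃ z, z = c * y * c⁻¹ ∧ (z * y) ^ 8 ≠ 1 := by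
          intro y hy
          rw [mem_vFour] at hy
          revert hy
          revert y
          decide +kernel
        obtain ⟨w, hwM, hwV⟩ : ∃ w ∈ M, w ∉ V := by
          by_contra hc
          push Not at hc
          have := Subgroup.card_le_of_le (show M ≤ V from hc)
          omega
        obtain ⟨y, rfl⟩ := hιH w hwM.2
        have h8' : ∀ v ∈ M, v ^ 8 = 1 := fun v hv => by
          have := pow_card_eq_one' (x := (⟨v, hv⟩ : M))
          rw [h] at this
          exact congrArg Subtype.val this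
        have hy4 : y * y = 1 ∨ y ^ 4 = 1 := by
          have hy8 : y ^ 8 = 1 := hιi (by rw [map_pow, map_one]; exact h8' _ hwM)
          have key : ∀ y : Equiv.Perm (Fin 4), y ^ 8 = 1 → y * y = 1 ∨ y ^ 4 = 1 := by decide +kernel
          exact key y hy8
        obtain ⟨c, z, rfl, hcz⟩ := hne y (fun hc => hwV (Subgroup.mem_map_of_mem ι hc)) hy4
        refine hcz (hιi ?_)
        rw [map_pow, map_one]
        refine h8' _ ?_
        rw [map_mul, map_mul, map_mul, map_inv]
        exact mul_mem ((Subgroup.mem_normalizer_iff.1 (hMn (e.symm c).2) _).1 hwM) hwM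
      · have hQp : IsPGroup 2 (R' ⊓ H : Subgroup G) := hR'p.to_le inf_le_left
        obtain ⟨i, hi⟩ := IsPGroup.iff_card.1 hQp
        have hi12 : 2 ^ i ∣ 12 := hi ▸ h ▸ Subgroup.card_dvd_of_le hP
        have hi4 : 2 ^ i ∣ 4 :=
          ((Nat.Coprime.pow_left i (by norm_num : Nat.Coprime 2 3))).dvd_of_dvd_mul_left
            (show 2 ^ i ∣ 3 * 4 from hi12)
        exact (Subgroup.eq_of_le_of_card_ge (le_inf hVR' hVH : V ≤ R' ⊓ H)
          (by rw [hi, hV4]; exact Nat.le_of_dvd (by norm_num) hi4)).ge ⟨hx, hxn⟩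
    have h8 : 8 ∣ Nat.card L := by
      have hMd : Nat.card M ∣ 24 := hM24
      have h1 : 16 * Nat.card M ∣ Nat.card L * 24 := hce ▸ Nat.mul_dvd_mul_right h16 _
      obtain ⟨k, hk⟩ := hM4
      rw [hk, show Nat.card L * 24 = Nat.card L * 6 * 4 by ring, show 16 * (4 * k) = 16 * k * 4 by ring] at h1
      have h2 : 16 * k ∣ Nat.card L * 6 := Nat.dvd_of_mul_dvd_mul_right (by norm_num) h1
      have h3 : 8 ∣ Nat.card L * 3 := by
        have h4 : 16 ∣ Nat.card L * 6 := (dvd_mul_right 16 k).trans h2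
        omega
      omega
    obtain ⟨m', rfl⟩ := hn
    rw [hnc, hR'V, hV4] at h8
    omega
  haveI := hs.isSimple_of_top hL htop
  have hnc := hs.not_comm
  obtain ⟨S, hVS⟩ := hVp.exists_le_sylow
  rcases types_of_four hVK hCV.le hVS with ⟨n, hn, hd⟩ | hQ
  · rcases dihedral_simple hnc hn hd with ⟨F, _, _, hodd, -, ⟨θ⟩⟩ | ⟨⟨θ⟩⟩
    · left
      have hM : IsCoatom (H.map θ.toMonoidHom) := by
        have hiff : H.map θ.toMonoidHom = θ.mapSubgroup H := rfl
        rw [hiff]
        exact (OrderIso.isCoatom_iff θ.mapSubgroup H).2 hs.coatom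
      obtain ⟨p, hp, hp16, ⟨θ'⟩⟩ := psl_four hodd (Nat.card_congr θ.toEquiv ▸ h16) hM
        ((θ.subgroupMap H).symm.trans e)
      exact ⟨p, hp, hp16, ⟨θ.trans θ'⟩⟩
    · exfalso
      rw [Nat.card_congr θ.toEquiv, nat_card_alternatingGroup] at h16
      simp [Nat.factorial] at h16
  · right
    rcases quasi_local hnc hVK hCV hQ with ⟨F, _, _, hF, ⟨θ⟩⟩ | h11
    · exact nonempty_psl_three hF θ
    · exact (not_mEleven h11 hQ hs.coatom hVK hNV hH24).elim

end CfsgLib.Perm.SuborbitThree
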