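import Cfsg.Agent.Lib.Perm.SuborbitThree.FourTwoSylow
import Cfsg.Agent.Lib.Sporadic.MathieuElevenAut

/-!
Point stabiliser `S₄ × 2`: a subgroup of index two is `PSL(3,3)`.
-/

set_option autoImplicit false
set_option linter.style.haveILetI false

namespace CfsgLib.Perm.SuborbitThree

open Subgroup

theorem mEleven_aut_inner {K : Type*} [Group K] (h : Cfsg.Spor.IsoM11 K) (φ : MulAut K) :
    φ ∈ Cfsg.Inn K := by
  obtain ⟨e⟩ := h
  have hsub : Subsingleton (Cfsg.Out ↥Cfsg.Spor.M11) :=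
    (Nat.card_eq_one_iff_unique.1 CfsgLib.Sporadic.MElevenAut.card_out).1
  obtain ⟨m, hm⟩ : MulAut.congr e φ ∈ Cfsg.Inn ↥Cfsg.Spor.M11 :=
    (QuotientGroup.eq_one_iff _).1 (Subsingleton.elim _ 1)
  refine ⟨e.symm m, MulEquiv.ext fun k => ?_⟩
  have h2 := congrArg e.symm (DFunLike.congr_fun hm (e k))
  simpa [MulAut.congr] using h2

theorem vFour_even : ∀ y : Equiv.Perm (Fin 4), orderOf y ∣ 8 → y ^ 16 = 1 := fun _ h =>
  orderOf_dvd_iff_pow_eq_one.1 (h.trans (by norm_num))

theorem order_four_perm : orderOf (Equiv.swap (0 : Fin 4) 1 * Equiv.swap 1 2 * Equiv.swap 2 3) = 4 :=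
  orderOf_eq_prime_pow (p := 2) (n := 1) (by decide +kernel) (by decide +kernel)

variable {G : Type*} [Group G] [Finite G] {H : Subgroup G}

omit [Finite G] in
/-- A minimal normal subgroup of index two missing the central involution is simple. -/
theorem simple_of_index_two (hs : Setting H) {L : Subgroup G} [L.Normal] (hL : MinNormal H L) {w : G}
    (hw2 : w * w = 1) (hwL : w ∉ L) (hidx : L.index = 2)
    (hC : Subgroup.centralizer ({w} : Set G) = H) : IsSimpleGroup L := by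
  haveI := hs.solvH
  have hns := hL.not_solvable
  haveI : Nontrivial L := (Subgroup.nontrivial_iff_ne_bot L).2 hL.ne_bot
  refine ⟨fun N hN => ?_⟩
  by_contra hcon
  push Not at hcon
  obtain ⟨hN1, hN2⟩ := hcon
  haveI := hN
  set φ : MulAut L := MulAut.conjNormal w with hφdef
  have hφval : ∀ x : L, ((φ x : L) : G) = w * x * w⁻¹ := fun x => MulAut.conjNormal_apply w x
  have hwi : w⁻¹ = w := inv_eq_of_mul_eq_one_right hw2
  have hφφ : ∀ x : L, φ (φ x) = x := fun x => Subtype.ext (by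
    rw [hφval, hφval, show w * (w * (x : G) * w⁻¹) * w⁻¹ = w * w * x * (w⁻¹ * w⁻¹) by group, hwi, hw2,
      one_mul, mul_one])
  set W := N.map φ.toMonoidHom with hW
  haveI hWn : W.Normal := hN.map φ.toMonoidHom φ.surjective
  have hinv : ∀ K : Subgroup L, K.Normal → (∀ x ∈ K, φ x ∈ K) → (K.map L.subtype).Normal := by
    intro K hK hKφ
    refine ⟨?_⟩
    rintro _ ⟨x, hx, rfl⟩ g
    rcases em (g ∈ L) with hg | hg
    · exact ⟨⟨g, hg⟩ * x * ⟨g, hg⟩⁻¹, hK.conj_mem x hx _, rfl⟩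
    · have hgw : g * w ∈ L := (Subgroup.mul_mem_iff_of_index_two hidx).2
        ⟨fun h => absurd h hg, fun h => absurd h hwL⟩
      refine ⟨⟨g * w, hgw⟩ * φ x * ⟨g * w, hgw⟩⁻¹, hK.conj_mem _ (hKφ x hx) _, ?_⟩
      show g * w * ((φ x : L) : G) * (g * w)⁻¹ = g * (x : G) * g⁻¹
      rw [hφval, hwi, mul_inv_rev, hwi]
      calc g * w * (w * (x : G) * w) * (w * g⁻¹) = g * (w * w) * x * (w * w) * g⁻¹ := by group
        _ = g * (x : G) * g⁻¹ := by rw [hw2, mul_one, mul_one]
  have htop : ∀ K : Subgroup L, K.Normal → (∀ x ∈ K, φ x ∈ K) → K ≠ ⊥ → K = ⊤ := by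
    intro K hK hKφ hne
    have hle := hL.le_of_normal _ (hinv K hK hKφ)
      (fun h => hne ((Subgroup.map_eq_bot_iff_of_injective _ L.subtype_injective).1 h))
    refine top_le_iff.1 fun x _ => ?_
    obtain ⟨y, hy, hyx⟩ := hle x.2
    exact Subtype.ext hyx ▸ hy
  have hmemW : ∀ {x}, x ∈ W ↔ φ x ∈ N := by
    intro x
    constructor
    · rintro ⟨y, hy, rfl⟩
      show φ (φ y) ∈ N
      rwa [hφφ]
    · intro hx
      exact ⟨φ x, hx, hφφ x⟩
  have hbot : N ⊓ W = ⊥ := by
    by_contra hne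
    have h := htop (N ⊓ W) inferInstance (fun x hx => ⟨hmemW.1 hx.2, hmemW.2 (by rw [hφφ]; exact hx.1)⟩) hne
    exact hN2 (top_le_iff.1 (h ▸ inf_le_left))
  have hcomm : ∀ x ∈ N, ∀ y ∈ W, x * y = y * x := fun x hx y hy =>
    Subgroup.commute_of_normal_of_disjoint N W inferInstance inferInstance (disjoint_iff.2 hbot) x y hx hy
  have hsolv : Group.IsSolvable N := by
    let f : N →* L :=
      { toFun := fun x => (x : L) * φ x
        map_one' := by simp
        map_mul' := fun x y => by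
          have h := hcomm _ y.2 _ (hmemW.2 (by rw [hφφ]; exact x.2) : φ x ∈ W)
          rw [Subgroup.coe_mul, map_mul, mul_assoc, ← mul_assoc (y : L), h]
          group }
    have hf : Function.Injective f := by
      rw [injective_iff_map_eq_one]
      intro x hx
      have hxW : (x : L) ∈ W := by
        rw [eq_inv_of_mul_eq_one_left (show (x : L) * φ x = 1 from hx)]
        exact inv_mem (hmemW.2 (by rw [hφφ]; exact x.2))
      have : (x : L) ∈ N ⊓ W := ⟨x.2, hxW⟩
      rw [hbot, Subgroup.mem_bot] at this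
      exact Subtype.ext this
    have hrange : ∀ x, ((f x : L) : G) ∈ H := by
      intro x
      rw [← hC, Subgroup.mem_centralizer_singleton_iff]
      have hxy : (x : L) * φ x = φ x * x := hcomm _ x.2 _ (hmemW.2 (by rw [hφφ]; exact x.2))
      have h : φ (f x) = f x := by
        show φ ((x : L) * φ x) = (x : L) * φ x
        rw [map_mul, hφφ, hxy]
      have h' := congrArg Subtype.val h
      rw [hφval] at h'
      exact (mul_inv_eq_iff_eq_mul.1 h').symm
    exact Group.isSolvable_of_isSolvable_injective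
      (f := (L.subtype.comp f).codRestrict H hrange)
      (fun a b h => hf (L.subtype_injective (congrArg Subtype.val h)))
  have hsup : N ⊔ W = ⊤ := by
    refine htop _ inferInstance (fun x hx => ?_) (fun h => hN1 (le_bot_iff.1 (h ▸ le_sup_left)))
    have h1 : φ x ∈ (N ⊔ W).map φ.toMonoidHom := Subgroup.mem_map_of_mem _ hx
    have h2 : W.map φ.toMonoidHom = N := by
      ext y
      constructor
      · rintro ⟨z, hz, rfl⟩; exact hmemW.1 hz
      · intro hy; exact ⟨φ y, hmemW.2 (by rw [hφφ]; exact hy), hφφ y⟩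
    rwa [Subgroup.map_sup, ← hW, h2, sup_comm] at h1
  refine hns (solvable_of_quotient N hsolv ?_)
  haveI := hsolv
  refine Group.isSolvable_of_surjective
    (f := ((QuotientGroup.mk' N).comp φ.toMonoidHom).comp N.subtype) fun q => ?_
  obtain ⟨x, rfl⟩ := QuotientGroup.mk'_surjective N q
  obtain ⟨a, ha, b, hb, rfl⟩ := Subgroup.mem_sup_of_normal_left.1 (hsup ▸ Subgroup.mem_top x : x ∈ N ⊔ W)
  obtain ⟨c, hc, rfl⟩ := hb
  refine ⟨⟨c, hc⟩, ?_⟩
  show QuotientGroup.mk' N (φ c) = QuotientGroup.mk' N (a * φ c)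
  rw [map_mul, show QuotientGroup.mk' N a = 1 from (QuotientGroup.eq_one_iff a).2 ha, one_mul]

theorem case_four_two (hs : Setting H) (e : H ≃* Equiv.Perm (Fin 4) × Multiplicative (ZMod 2)) :
    ∃ N : Subgroup G, N.Normal ∧ N.index = 2 ∧ Subgroup.centralizer (N : Set G) = ⊥ ∧
      Nonempty (N ≃* Matrix.ProjectiveSpecialLinearGroup (Fin 3) (ZMod 3)) := by
  classical
  haveI : Fact (Nat.Prime 2) := ⟨Nat.prime_two⟩
  set ι : FT →* G := H.subtype.comp e.symm.toMonoidHom with hι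
  have M : FTModel ι H := by
    refine ⟨H.subtype_injective.comp e.symm.injective, le_antisymm ?_ fun h hh => ⟨e ⟨h, hh⟩, by simp [hι]⟩⟩
    rintro _ ⟨y, rfl⟩
    exact (e.symm y).2
  obtain ⟨⟨a, ha, hG⟩, hsimp⟩ := sylow_and_transfer hs M
  obtain ⟨L, hL⟩ := hs.exists_minNormal
  haveI := hL.normal
  have hce := hL.card_eq
  rw [M.card_H, hG] at hce
  have hH := M.card_H
  have h2L : 2 ∣ Nat.card L := by
    have h : 32 ∣ Nat.card L * 48 := ⟨a * Nat.card (L ⊓ H : Subgroup G), by rw [← hce]; ring⟩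
    omega
  have hAp : IsPGroup 2 (ftA ι) := IsPGroup.of_card (n := 3) M.card_A
  have hLA := inf_ne_bot hL.normal h2L hAp (M.cent_A hs).le
  -- conjugation inside `L`
  have hLcomm : ∀ y c : FT, ι y ∈ L → ι (c * y * c⁻¹ * y⁻¹) ∈ L := fun y c hy => by
    simp only [map_mul, map_inv]
    exact mul_mem (hL.normal.conj_mem _ hy _) (inv_mem hy)
  -- an element of two-power order outside `A`
  obtain ⟨y, hyL, hy16, hyV⟩ : ∃ y, ι y ∈ L ∧ y.1 ^ 16 = 1 ∧ y.1 ∉ vFour := by
    by_contra hcon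
    push Not at hcon
    set D := L ⊓ ftA ι with hD
    have hDp : IsPGroup 2 D := hAp.to_le inf_le_right
    have hDH : D ≤ H := inf_le_right.trans M.A_le
    have hDn : H ≤ Subgroup.normalizer (D : Set G) := fun h hh => Subgroup.mem_normalizer_iff.2 fun x => by
      have h2 := Subgroup.mem_normalizer_iff.1 (M.A_norm hh) x
      have h1 : x ∈ L ↔ h * x * h⁻¹ ∈ L := ⟨fun hx => hL.normal.conj_mem x hx h, fun hx => by
        simpa [mul_assoc] using hL.normal.conj_mem _ hx h⁻¹⟩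
      exact and_congr h1 h2
    have hkey : ∀ {R : Subgroup G}, R ≤ L → IsPGroup 2 R → ∀ x ∈ R, x ∈ H → x ∈ D := by
      intro R hRL hR x hx hxH
      obtain ⟨q, rfl⟩ := M.exists_eq hxH
      refine ⟨hRL hx, M.mem_A.2 (hcon q (hRL hx) (vFour_even _ ?_))⟩
      obtain ⟨k, hk⟩ := hR ⟨_, hx⟩
      have hq : q ^ 2 ^ k = 1 := M.inj (by rw [map_pow, map_one]; exact congrArg Subtype.val hk)
      have hd : orderOf q.1 ∣ 2 ^ k := orderOf_dvd_of_pow_eq_one (congrArg Prod.fst hq)
      have h24 : orderOf q.1 ∣ 8 * 3 := by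
        rw [show 8 * 3 = Nat.card (Equiv.Perm (Fin 4)) by rw [Nat.card_perm, Nat.card_fin]; rfl]
        exact orderOf_dvd_natCard _
      exact ((Nat.Coprime.pow_left k (by norm_num : Nat.Coprime 2 3)).coprime_dvd_left hd).dvd_of_dvd_mul_right h24
    obtain ⟨R, hDR, hRL, hRp, m, hm, hmc⟩ := exists_sylow_in (inf_le_left : D ≤ L) hDp
    have hRD : R = D := eq_of_self_normalizing hDR hRp fun x hx hxn =>
      hkey hRL hRp x hx ((hs.normalizer_eq hDH hDn hLA).le hxn)
    obtain ⟨R', hDR', hR', hR'p, k, hk, hkc⟩ :=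
      exists_sylow_in (le_inf inf_le_left hDH : D ≤ L ⊓ H) hDp
    have hR'D : R' = D :=
      le_antisymm (fun x hx => hkey (hR'.trans inf_le_left) hR'p x hx (hR' hx).2) hDR'
    rw [hRD] at hmc
    rw [hR'D] at hkc
    rw [hkc, hmc] at hce
    have hd0 : 0 < Nat.card D := Nat.card_pos
    have h' : 2 * (a * k) = 3 * m := by
      refine Nat.eq_of_mul_eq_mul_left (show 0 < 16 * Nat.card D by positivity) ?_
      calc 16 * Nat.card D * (2 * (a * k)) = 32 * a * (Nat.card D * k) := by ring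
        _ = Nat.card D * m * 48 := hce
        _ = _ := by ring
    have := Nat.odd_iff.1 hm
    omega
  -- the four-group lies in `L`
  have hVL : ∀ v ∈ vFour, ι (v, 1) ∈ L := by
    obtain ⟨c, hc, hc1⟩ := perm_split _ hyV
    have hv : ι (c * y.1 * c⁻¹ * y.1⁻¹, 1) ∈ L := by
      have h := hLcomm y (c, 1) hyL
      rwa [show ((c, 1) : FT) * y * (c, 1)⁻¹ * y⁻¹ = (c * y.1 * c⁻¹ * y.1⁻¹, 1) from
        Prod.ext rfl (by simp)] at h
    intro v hv'
    by_cases hv1 : v = 1
    · rw [hv1, show ((1 : Equiv.Perm (Fin 4)), (1 : Multiplicative (ZMod 2))) = (1 : FT) from rfl, map_one]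
      exact one_mem _
    obtain ⟨d, hd⟩ := vFour_trans _ hc v hv' hc1 hv1
    have h := hL.normal.conj_mem _ hv (ι (d, 1))
    rw [← map_inv, ← map_mul, ← map_mul] at h
    rwa [show ((d, 1) : FT) * (c * y.1 * c⁻¹ * y.1⁻¹, 1) * (d, 1)⁻¹ = (v, 1) from
      Prod.ext hd (by simp)] at h
  -- every permutation comes from `L`
  have hall : ∀ z : Equiv.Perm (Fin 4), ∃ d, ι (z, d) ∈ L := by
    intro z
    obtain ⟨c, hc⟩ := perm_gen _ hy16 hyV z
    have hq : ι ((c, 1) * y * (c, 1)⁻¹ * y⁻¹) ∈ L := hLcomm y (c, 1) hyL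
    rcases hc with h | h
    · refine ⟨(((c, 1) * y * (c, 1)⁻¹ * y⁻¹ * y⁻¹)⁻¹ : FT).2, ?_⟩
      have e' : ((z, (((c, 1) * y * (c, 1)⁻¹ * y⁻¹ * y⁻¹)⁻¹ : FT).2) : FT) =
          ((c, 1) * y * (c, 1)⁻¹ * y⁻¹ * y⁻¹)⁻¹ * (c * y.1 * c⁻¹ * y.1⁻¹ * y.1⁻¹ * z, 1) :=
        Prod.ext (by simp [mul_assoc]) (by simp)
      rw [e', map_mul, map_inv, map_mul, map_inv]
      exact mul_mem (inv_mem (mul_mem hq (inv_mem hyL))) (hVL _ h)
    · refine ⟨(((c, 1) * y * (c, 1)⁻¹ * y⁻¹)⁻¹ : FT).2, ?_⟩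
      have e' : ((z, (((c, 1) * y * (c, 1)⁻¹ * y⁻¹)⁻¹ : FT).2) : FT) =
          ((c, 1) * y * (c, 1)⁻¹ * y⁻¹)⁻¹ * (c * y.1 * c⁻¹ * y.1⁻¹ * z, 1) :=
        Prod.ext (by simp [mul_assoc]) (by simp)
      rw [e', map_mul, map_inv]
      exact mul_mem (inv_mem hq) (hVL _ h)
  -- the central involution is outside `L`
  have hwL : ι wFT ∉ L := by
    intro hw
    have hHL : H ≤ L := by
      intro h hh
      obtain ⟨⟨z, d⟩, rfl⟩ := M.exists_eq hh
      obtain ⟨d', hd'⟩ := hall z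
      have e' : ((z, d) : FT) = (z, d') * ((1, d'⁻¹ * d) : FT) := Prod.ext (by simp) (by simp)
      rw [e', map_mul]
      refine mul_mem hd' ?_
      rcases c2_cases (d'⁻¹ * d) with h' | h' <;> rw [h']
      · rw [show ((1 : Equiv.Perm (Fin 4)), (1 : Multiplicative (ZMod 2))) = (1 : FT) from rfl, map_one]
        exact one_mem _
      · exact hw
    exact hsimp (hs.isSimple_of_top hL (top_le_iff.1 (hs.sup_top hL.normal hL.ne_bot ▸ sup_le hHL le_rfl)))
  -- a section of `L ∩ H` over `S₄`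
  have huniq : ∀ {z d d'}, ι (z, d) ∈ L → ι (z, d') ∈ L → d = d' := by
    intro z d d' h h'
    have h1 := mul_mem (inv_mem h) h'
    rw [← map_inv, ← map_mul, show ((z, d) : FT)⁻¹ * (z, d') = (1, d⁻¹ * d') from
      Prod.ext (by simp) rfl] at h1
    rcases c2_cases (d⁻¹ * d') with h2 | h2
    · exact (inv_mul_eq_one.1 h2)
    · exact absurd (by rw [h2] at h1; exact h1) hwL
  choose sgn hsgn using hall
  let j : Equiv.Perm (Fin 4) →* G := MonoidHom.mk' (fun z => ι (z, sgn z)) fun z z' => by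
    rw [← map_mul, Prod.mk_mul_mk]
    congr 2
    refine huniq (hsgn _) ?_
    have := mul_mem (hsgn z) (hsgn z')
    rwa [← map_mul, Prod.mk_mul_mk] at this
  have hj : Function.Injective j := fun p q h => congrArg Prod.fst (M.inj h)
  have hjr : j.range = L ⊓ H := by
    refine le_antisymm ?_ ?_
    · rintro _ ⟨z, rfl⟩
      exact ⟨hsgn z, M.mem _⟩
    · rintro x ⟨hxL, hxH⟩
      obtain ⟨⟨z, d⟩, rfl⟩ := M.exists_eq hxH
      exact ⟨z, congrArg ι (Prod.ext rfl (huniq (hsgn z) hxL))⟩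
  have hM24 : Nat.card (L ⊓ H : Subgroup G) = 24 := by
    rw [← hjr, ← Nat.card_congr (MonoidHom.ofInjective hj).toEquiv, Nat.card_perm, Nat.card_fin]; rfl
  rw [hM24] at hce
  have hidx : L.index = 2 := by
    have h := L.card_mul_index
    rw [hG] at h
    refine Nat.eq_of_mul_eq_mul_left (Nat.card_pos (α := L)) ?_
    omega
  have hL16 : Nat.card L = 16 * a := by omega
  haveI := simple_of_index_two hs hL M.w_sq hwL hidx (M.cent_w hs)
  have hnc : ¬ ∀ x y : L, x * y = y * x := fun h => hL.not_solvable (Group.isSolvable_of_comm h)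
  -- the four-group of `L`
  have hVle : ftV ι ≤ L := by
    rintro _ ⟨⟨v, d⟩, hv, rfl⟩
    rw [SetLike.mem_coe, Subgroup.mem_prod, Subgroup.mem_bot] at hv
    rw [show d = 1 from hv.2]
    exact hVL v hv.1
  set V := (ftV ι).subgroupOf L with hV
  have hV4 : Nat.card V = 4 := by
    rw [hV, Nat.card_congr (Subgroup.subgroupOfEquivOfLe hVle).toEquiv, M.card_V]
  have hVK : IsKleinFour V := isKlein_of_card hV4 fun x hx =>
    Subtype.ext (FTModel.A_sq _ (FTModel.V_le_A (Subgroup.mem_subgroupOf.1 hx)))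
  have hCV : Subgroup.centralizer (V : Set L) = V := by
    refine le_antisymm (fun x hx => ?_) fun x hx => Subgroup.mem_centralizer_iff.2 fun y hy =>
      Subtype.ext (comm_of_sq FTModel.A_sq (FTModel.V_le_A (Subgroup.mem_subgroupOf.1 hy))
        (FTModel.V_le_A (Subgroup.mem_subgroupOf.1 hx)))
    have hxA : (x : G) ∈ ftA ι := (M.cent_V hs).le (Subgroup.mem_centralizer_iff.2 fun v hv =>
      congrArg Subtype.val (Subgroup.mem_centralizer_iff.1 hx ⟨v, hVle hv⟩ (Subgroup.mem_subgroupOf.2 hv)))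
    obtain ⟨⟨z, d⟩, hzd⟩ := M.exists_eq (M.A_le hxA)
    rw [hV, Subgroup.mem_subgroupOf, ← hzd, M.mem_V]
    have hz : z ∈ vFour := M.mem_A.1 (hzd ▸ hxA)
    exact ⟨hz, huniq (hzd ▸ x.2) (hVL z hz)⟩
  obtain ⟨S, hVS⟩ := (IsPGroup.of_card (p := 2) (n := 2) hV4).exists_le_sylow
  have h16 : 16 ∣ Nat.card L := hL16 ▸ dvd_mul_right 16 a
  set φ : MulAut L := MulAut.conjNormal (ι wFT) with hφ
  have hφout : φ ∉ Cfsg.Inn L := by
    rintro ⟨t, ht⟩
    refine hwL ?_
    have h1 : (t : G)⁻¹ * ι wFT ∈ Subgroup.centralizer (L : Set G) := by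
      refine Subgroup.mem_centralizer_iff.2 fun x hx => ?_
      have h2 := congrArg Subtype.val (DFunLike.congr_fun ht ⟨x, hx⟩)
      rw [hφ, MulAut.conjNormal_apply] at h2
      change (t : G) * x * (t : G)⁻¹ = _ at h2
      calc x * ((t : G)⁻¹ * ι wFT) = (t : G)⁻¹ * ((t : G) * x * (t : G)⁻¹) * ι wFT := by group
        _ = (t : G)⁻¹ * (ι wFT * x * (ι wFT)⁻¹) * ι wFT := by rw [h2]
        _ = (t : G)⁻¹ * ι wFT * x := by group
    rw [hL.cent, Subgroup.mem_bot, inv_mul_eq_one] at h1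
    exact h1 ▸ t.2
  rcases types_of_four hVK hCV.le hVS with ⟨n, hn, hd⟩ | hQ
  · exfalso
    rcases dihedral_simple hnc hn hd with ⟨F, _, _, hodd, -, ⟨θ⟩⟩ | ⟨⟨θ⟩⟩
    · set α := MulAut.congr θ φ with hα
      have hαapp : ∀ x, α x = θ (φ (θ.symm x)) := fun x => rfl
      set C := ((H.subgroupOf L).map θ.toMonoidHom) with hC
      have hfix : ∀ x : L, φ x = x ↔ (x : G) ∈ H := by
        intro x
        rw [← M.cent_w hs, Subgroup.mem_centralizer_singleton_iff]
        constructor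
        · intro h
          have h' := congrArg Subtype.val h
          rw [hφ, MulAut.conjNormal_apply] at h'
          exact (mul_inv_eq_iff_eq_mul.1 h').symm
        · intro h
          refine Subtype.ext ?_
          rw [hφ, MulAut.conjNormal_apply, ← h, mul_inv_cancel_right]
      have hmem : ∀ x, x ∈ C ↔ α x = x := by
        intro x
        rw [hC, Subgroup.mem_map_equiv, Subgroup.mem_subgroupOf, ← hfix, hαapp]
        exact ⟨fun h => by rw [h, θ.apply_symm_apply], fun h => θ.injective (by rw [h, θ.apply_symm_apply])⟩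
      have hC24 : Nat.card C = 24 := by
        rw [hC, Subgroup.card_map_of_injective θ.injective, ← Subgroup.inf_subgroupOf_left,
          Nat.card_congr (Subgroup.subgroupOfEquivOfLe inf_le_left).toEquiv, hM24]
      set c₀ : L := ⟨j (Equiv.swap 0 1 * Equiv.swap 1 2 * Equiv.swap 2 3), hsgn _⟩ with hc₀
      refine psl_outer hodd (Nat.card_congr θ.toEquiv ▸ h16) (α := α) ?_ ?_ hmem (hC24 ▸ dvd_rfl)
        ((hmem _).1 (Subgroup.mem_map_of_mem _ (show c₀ ∈ H.subgroupOf L from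
          Subgroup.mem_subgroupOf.2 (M.mem _)))) ?_
      · refine MulEquiv.ext fun x => ?_
        rw [MulAut.mul_apply, hαapp, hαapp, θ.symm_apply_apply, MulAut.one_apply, ← MulAut.mul_apply,
          hφ, ← map_mul, M.w_sq, map_one, MulAut.one_apply, θ.apply_symm_apply]
      · rintro ⟨t, ht⟩
        refine hφout ⟨θ.symm t, MulEquiv.ext fun x => θ.injective ?_⟩
        have h2 := DFunLike.congr_fun ht (θ x)
        rw [hαapp, θ.symm_apply_apply] at h2
        rw [← h2, MulAut.conj_apply, MulAut.conj_apply, map_mul, map_mul, map_inv, θ.apply_symm_apply]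
      · rw [MulEquiv.toMonoidHom_eq_coe, MonoidHom.coe_coe, MulEquiv.orderOf_eq, ← Subgroup.orderOf_coe]
        show orderOf (j _) = 4
        rw [orderOf_injective j hj, order_four_perm]
    · rw [Nat.card_congr θ.toEquiv, nat_card_alternatingGroup] at h16
      simp [Nat.factorial] at h16
  · rcases quasi_local hnc hVK hCV hQ with ⟨F, _, _, hF, ⟨θ⟩⟩ | h11
    · exact ⟨L, hL.normal, hidx, hL.cent, nonempty_psl_three hF θ⟩
    · exact absurd (mEleven_aut_inner h11 φ) hφout

end CfsgLib.Perm.SuborbitThree
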