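import Cfsg.Agent.Lib.Perm.SuborbitThree.Setting
import Cfsg.Agent.Lib.Perm.Simple168Max
import Cfsg.Agent.Lib.Known.CpQuotient
import Cfsg.Agent.S3331

/-!
Point stabilisers of order three and six: the group is `A₅`.
-/

set_option autoImplicit false
set_option linter.style.haveILetI false

namespace CfsgLib.Perm.SuborbitThree

open Subgroup

variable {G : Type*} [Group G] [Finite G] {H : Subgroup G}

theorem card_psl_seven :
    Nat.card (Matrix.ProjectiveSpecialLinearGroup (Fin 2) (ZMod 7)) = 168 := by
  haveI : Fact (Nat.Prime 7) := ⟨by norm_num⟩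
  have h := CfsgLib.Known.CpQuot.card_psl_two_mul (F := ZMod 7) (by rw [ZMod.card]; decide)
  rw [ZMod.card] at h
  omega

theorem isSimple_psl_seven :
    IsSimpleGroup (Matrix.ProjectiveSpecialLinearGroup (Fin 2) (ZMod 7)) := by
  haveI : Fact (Nat.Prime 7) := ⟨by norm_num⟩
  exact Matrix.ProjectiveSpecialLinearGroup.rank_two_simple (by rw [Nat.card_zmod]; norm_num)

theorem case_three (hs : Setting H) {X : Subgroup G} (hXH : X ≤ H) (hX : Nat.card X = 3)
    (hn : H ≤ Subgroup.normalizer (X : Set G))
    (hC : ∀ h ∈ H, h ∈ Subgroup.centralizer (X : Set G) → h ∈ X)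
    (hcard : Nat.card H = 3 ∨ Nat.card H = 6) : Nonempty (G ≃* alternatingGroup (Fin 5)) := by
  haveI : Fact (Nat.Prime 3) := ⟨Nat.prime_three⟩
  haveI : Fact (Nat.Prime 7) := ⟨by norm_num⟩
  have hne : X ≠ ⊥ := fun e => by rw [e, Subgroup.card_bot] at hX; omega
  haveI : IsCyclic X := isCyclic_of_prime_card hX
  letI := IsCyclic.commGroup (α := X)
  have hXX : X ≤ Subgroup.centralizer (X : Set G) := fun x hx => Subgroup.mem_centralizer_iff.2
    fun y hy => congrArg Subtype.val (mul_comm (⟨y, hy⟩ : X) ⟨x, hx⟩)
  have hCX : Subgroup.centralizer (X : Set G) = X :=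
    le_antisymm (fun g hg => hC g (hs.centralizer_le hXH hn hne hg) hg) hXX
  rcases Cfsg.Agent.S3331.result X hX hCX with
    ⟨N, hN, hnil, -, hq⟩ | ⟨N, hN, hcomm, -, ⟨e⟩⟩ | ⟨⟨e⟩⟩
  · exfalso
    haveI := hnil
    refine hs.insoluble (solvable_of_quotient N inferInstance ?_)
    rcases hq with hq | ⟨⟨e⟩⟩
    · haveI := isCyclic_of_prime_card hq
      exact Group.isSolvable_of_comm fun a b => (IsCyclic.commGroup (α := G ⧸ N)).mul_comm a b
    · haveI : Group.IsSolvable (Equiv.Perm (Fin 3)) := by
        refine solvable_of_quotient (alternatingGroup (Fin 3)) ?_ ?_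
        · haveI : IsCyclic (alternatingGroup (Fin 3)) := isCyclic_of_prime_card (p := 3) (by
            rw [nat_card_alternatingGroup]; simp [Nat.factorial])
          exact Group.isSolvable_of_comm fun a b => (IsCyclic.commGroup (α := alternatingGroup (Fin 3))).mul_comm a b
        · haveI : Fact (Nat.Prime 2) := ⟨Nat.prime_two⟩
          have h2 : Nat.card (Equiv.Perm (Fin 3) ⧸ alternatingGroup (Fin 3)) = 2 := by
            have h := Subgroup.card_eq_card_quotient_mul_card_subgroup (alternatingGroup (Fin 3))
            rw [nat_card_alternatingGroup, Nat.card_perm, Nat.card_fin] at h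
            simp [Nat.factorial] at h
            omega
          haveI := isCyclic_of_prime_card h2
          exact Group.isSolvable_of_comm fun a b =>
            (IsCyclic.commGroup (α := Equiv.Perm (Fin 3) ⧸ alternatingGroup (Fin 3))).mul_comm a b
      exact Group.isSolvable_of_isSolvable_injective (f := e.toMonoidHom) e.injective
  · have hbot : N = ⊥ := by
      by_contra h
      exact hs.not_solvable hN h (Group.isSolvable_of_comm fun a b => hcomm.1.1 a b)
    subst hbot
    exact ⟨(QuotientGroup.quotientBot (G := G)).symm.trans e⟩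
  · exfalso
    haveI := isSimple_psl_seven
    haveI : IsSimpleGroup G := e.isSimpleGroup
    have hG : Nat.card G = 168 := (Nat.card_congr e.toEquiv).trans card_psl_seven
    rcases hcard with h3 | h6
    · -- the number of Sylow three-subgroups would be `56`
      obtain ⟨P, hP⟩ := (IsPGroup.of_card (p := 3) (n := 1) (by rw [pow_one]; exact hX)).exists_le_sylow
      have hPX : (P : Subgroup G) = X := by
        refine (Subgroup.eq_of_le_of_card_ge hP ?_).symm
        rw [hX, P.card_eq_multiplicity, hG, show (168 : ℕ) = 3 ^ 1 * 56 by norm_num,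
          Nat.factorization_mul (by norm_num) (by norm_num)]
        simp [Nat.Prime.factorization_self Nat.prime_three,
          Nat.factorization_eq_zero_of_not_dvd (by norm_num : ¬ 3 ∣ 56)]
      have h1 := card_sylow_modEq_one 3 G
      rw [P.card_eq_index_normalizer,
        show ((P : Sylow 3 G) : Set G) = (X : Set G) from congrArg (fun K : Subgroup G => (K : Set G)) hPX,
        hs.normalizer_eq hXH hn hne] at h1
      have h2 := H.card_mul_index
      rw [h3, hG] at h2
      rw [show H.index = 56 by omega] at h1
      exact absurd h1 (by decide)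
    · rcases Simple168.coatom_cases hG hs.coatom with ⟨P, hP⟩ | h
      · have h7 : 7 ∣ Nat.card H := by
          rw [hP]
          refine dvd_trans ?_ (Subgroup.card_dvd_of_le Subgroup.le_normalizer)
          exact Sylow.dvd_card_of_dvd_card P (by rw [hG]; norm_num)
        omega
      · omega

end CfsgLib.Perm.SuborbitThree
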