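import Cfsg.Agent.Lib.Perm.SuborbitThree.SylowTypes
import Cfsg.Agent.Lib.Perm.SuborbitThree.MEleven
import Cfsg.Agent.Lib.Perm.SuborbitThree.AutSmall
import Cfsg.Agent.Lib.Perm.SuborbitThree.CaseThree
import Cfsg.Agent.Lib.GW.Deps.DihedralShape
import Cfsg.Agent.Lib.TwoGroups.QdSimpleNormal
import Cfsg.Agent.Lib.TwoGroups.DihedralFusion

/-!
Point stabiliser dihedral of order twelve: `S₅`, `PGL(2,7)`, `PSL(2,11)` or `PSL(2,13)`.
-/

set_option autoImplicit false
set_option linter.style.haveILetI false

namespace CfsgLib.Perm.SuborbitThree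

open Subgroup DihedralGroup

theorem six_split : ∀ y : DihedralGroup 6, y ≠ 1 →
    y = r 3 ∨ y * y = r 2 ∨ y * y = r 4 ∨ r 1 * y * r 5 * y⁻¹ = r 2 ∨ r 1 * y * r 5 * y⁻¹ = r 4 := by
  decide

theorem six_cent : ∀ y : DihedralGroup 6, y * r 2 = r 2 * y → y * y * y = r 3 ∨ y = 1 ∨ y = r 2 ∨ y = r 4 := by
  decide

theorem six_refl : ∀ y : DihedralGroup 6, (∀ i, y = r i → False) → r 1 * y * r 5 * y⁻¹ = r 2 := by
  decide

theorem six_rot_two : ∀ i : ZMod 6, (r i : DihedralGroup 6) ^ 4 = 1 → r i = 1 ∨ r i = r 3 := by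
  decide

theorem six_cover : ∀ x y : DihedralGroup 6, (∀ i, y = r i → False) →
    ∃ i < 6, x = r 1 ^ i ∨ x = y * r 1 ^ i := by
  decide

theorem six_four : ∀ y : DihedralGroup 6, y * sr 0 = sr 0 * y → y = 1 ∨ y = r 3 ∨ y = sr 0 ∨ y = sr 3 := by
  decide

variable {G : Type*} [Group G] [Finite G] {H : Subgroup G}

theorem case_twelve (hs : Setting H) (e : H ≃* DihedralGroup 6) :
    Nonempty (G ≃* Equiv.Perm (Fin 5)) ∨
      Nonempty (G ≃* GL (Fin 2) (ZMod 7) ⧸ Subgroup.center (GL (Fin 2) (ZMod 7))) ∨
      Nonempty (G ≃* Matrix.ProjectiveSpecialLinearGroup (Fin 2) (ZMod 11)) ∨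
      Nonempty (G ≃* Matrix.ProjectiveSpecialLinearGroup (Fin 2) (ZMod 13)) := by
  classical
  haveI : Fact (Nat.Prime 2) := ⟨Nat.prime_two⟩
  haveI : Fact (Nat.Prime 3) := ⟨Nat.prime_three⟩
  have hH12 : Nat.card H = 12 := by rw [Nat.card_congr e.toEquiv, DihedralGroup.nat_card]
  set ι : DihedralGroup 6 →* G := H.subtype.comp e.symm.toMonoidHom with hι
  have hιi : Function.Injective ι := H.subtype_injective.comp e.symm.injective
  have hιH : ∀ h ∈ H, ∃ x, ι x = h := fun h hh => ⟨e ⟨h, hh⟩, by simp [hι]⟩
  have hιmem : ∀ x, ι x ∈ H := fun x => (e.symm x).2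
  have hconjH : ∀ (a : DihedralGroup 6) {K : Subgroup G}, (∀ q, ι q ∈ K → ∀ b, ι (b * q * b⁻¹) ∈ K) →
      (∀ x, x ∈ K → x ∈ H) → ι a ∈ Subgroup.normalizer (K : Set G) := by
    intro a K hK hKH
    refine Subgroup.mem_normalizer_iff.2 fun x => ⟨fun hx => ?_, fun hx => ?_⟩
    · obtain ⟨q, rfl⟩ := hιH x (hKH x hx)
      simpa using hK q hx a
    · obtain ⟨q, hq⟩ := hιH _ (hKH _ hx)
      have := hK q (hq ▸ hx) a⁻¹
      simp [hq] at this
      simpa [mul_assoc] using this
  -- the central involution
  set z := ι (r 3) with hz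
  have hz2 : orderOf z = 2 := by
    rw [hz, orderOf_injective ι hιi]
    exact orderOf_eq_prime (by decide) (by decide)
  have hzz : z * z = 1 := by rw [← pow_two, ← hz2, pow_orderOf_eq_one]
  set Z := Subgroup.zpowers z with hZ
  have hZH : Z ≤ H := Subgroup.zpowers_le.2 (hιmem _)
  have hzc : ∀ h ∈ H, h * z = z * h := by
    intro h hh
    obtain ⟨x, rfl⟩ := hιH h hh
    have key : ∀ x : DihedralGroup 6, x * r 3 = r 3 * x := by decide
    rw [hz, ← map_mul, ← map_mul, key]
  have hZc : Subgroup.centralizer (Z : Set G) = Subgroup.centralizer ({z} : Set G) := by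
    rw [hZ, Subgroup.zpowers_eq_closure, Subgroup.centralizer_closure]
  have hCz : Subgroup.centralizer ({z} : Set G) = H := by
    refine le_antisymm ?_ fun h hh => Subgroup.mem_centralizer_singleton_iff.2 (hzc h hh)
    rw [← hZc]
    refine hs.centralizer_le hZH (fun h hh => ?_) (fun hb => ?_)
    · exact Subgroup.centralizer_le_normalizer _ (by
        rw [hZc]; exact Subgroup.mem_centralizer_singleton_iff.2 (hzc h hh))
    · rw [hZ, Subgroup.zpowers_eq_bot] at hb
      rw [hb, orderOf_one] at hz2
      omega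
  -- the subgroup of order three
  set X := Subgroup.zpowers (ι (r 2)) with hX
  have hXH : X ≤ H := Subgroup.zpowers_le.2 (hιmem _)
  have ho3 : orderOf (ι (r 2)) = 3 := by
    rw [orderOf_injective ι hιi]
    exact orderOf_eq_prime (by decide) (by decide)
  have hX3 : Nat.card X = 3 := by rw [hX, Nat.card_zpowers, ho3]
  have hXne : X ≠ ⊥ := fun hb => by rw [hb, Subgroup.card_bot] at hX3; omega
  have hXn : H ≤ Subgroup.normalizer (X : Set G) := by
    intro h hh
    obtain ⟨a, rfl⟩ := hιH h hh
    refine hconjH a (fun q hq b => ?_) fun x hx => hXH hx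
    obtain ⟨k, hk⟩ := Subgroup.mem_zpowers_iff.1 hq
    rw [← map_zpow] at hk
    have key : ∀ b : DihedralGroup 6, b * r 2 * b⁻¹ = r 2 ∨ b * r 2 * b⁻¹ = r 2 * r 2 := by decide
    rw [← hιi hk, ← conj_zpow, map_zpow]
    refine zpow_mem ?_ k
    rcases key b with h' | h' <;> rw [h']
    · exact Subgroup.mem_zpowers _
    · rw [map_mul]; exact mul_mem (Subgroup.mem_zpowers _) (Subgroup.mem_zpowers _)
  have hr4 : (r 4 : DihedralGroup 6) * r 4 = r 2 := by decide
  have hXmem : ∀ {K : Subgroup G} (y : DihedralGroup 6), ι y ∈ K →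
      (y = r 2 ∨ y = r 4) → X ≤ K := by
    intro K y hy hc
    refine Subgroup.zpowers_le.2 ?_
    rcases hc with rfl | rfl
    · exact hy
    · rw [← hr4, map_mul]; exact mul_mem hy hy
  obtain ⟨L, hL⟩ := hs.exists_minNormal
  haveI := hL.normal
  have hce := hL.card_eq
  rw [hH12] at hce
  have hcomm_mem : ∀ y, ι y ∈ L → ι (r 1 * y * r 5 * y⁻¹) ∈ L := by
    intro y hy
    rw [map_mul, map_mul, map_mul, map_inv, show (r 5 : DihedralGroup 6) = (r 1)⁻¹ by decide, map_inv]
    exact mul_mem (hL.normal.conj_mem _ hy _) (inv_mem hy)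
  by_cases hzL : z ∈ L
  · -- `z ∈ L`: the group is simple
    right; right
    have hHL : H ≤ L := by
      by_cases hrot : ∃ y, ι y ∈ L ∧ ∀ i, y = r i → False
      · obtain ⟨y, hy, hyr⟩ := hrot
        have h2 : ι (r 2) ∈ L := six_refl y hyr ▸ hcomm_mem y hy
        have h1 : ι (r 1) ∈ L := by
          rw [show (r 1 : DihedralGroup 6) = r 3 * (r 2)⁻¹ by decide, map_mul, map_inv]
          exact mul_mem hzL (inv_mem h2)
        intro h hh
        obtain ⟨x, rfl⟩ := hιH h hh
        obtain ⟨i, -, rfl | rfl⟩ := six_cover x y hyr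
        · rw [map_pow]; exact pow_mem h1 i
        · rw [map_mul, map_pow]; exact mul_mem hy (pow_mem h1 i)
      · exfalso
        push Not at hrot
        obtain ⟨R, hZR, hRL, hRp, m, hm, hmc⟩ := exists_sylow_in (L := L)
          (Subgroup.zpowers_le.2 hzL) (IsPGroup.of_card (n := 1) (by rw [Nat.card_zpowers, hz2, pow_one]))
        have hRZ : R = Z := by
          refine eq_of_self_normalizing hZR hRp fun x hx hxn => ?_
          have hxz : x * z * x⁻¹ = z := by
            have h := (Subgroup.mem_normalizer_iff.1 hxn z).1 (Subgroup.mem_zpowers z)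
            obtain ⟨k, hk⟩ := Subgroup.mem_zpowers_iff.1 h
            rcases Int.even_or_odd' k with ⟨j, rfl | rfl⟩
            · exfalso
              rw [zpow_mul, zpow_two, hzz, one_zpow, eq_comm, conj_eq_one_iff] at hk
              rw [hk, orderOf_one] at hz2
              omega
            · rw [zpow_add, zpow_mul, zpow_two, hzz, one_zpow, one_mul, zpow_one] at hk
              exact hk.symm
          have hxH : x ∈ H := hCz ▸ Subgroup.mem_centralizer_singleton_iff.2
            (mul_inv_eq_iff_eq_mul.1 hxz)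
          obtain ⟨y, rfl⟩ := hιH x hxH
          obtain ⟨i, rfl, -⟩ := hrot y (hRL hx)
          obtain ⟨k, hk⟩ := hRp ⟨_, hx⟩
          have hd : orderOf (r i : DihedralGroup 6) ∣ 2 ^ k := orderOf_dvd_of_pow_eq_one
            (hιi (by rw [map_pow, map_one]; exact congrArg Subtype.val hk))
          have hd4 : orderOf (r i : DihedralGroup 6) ∣ 4 := by
            have h12 : orderOf (r i : DihedralGroup 6) ∣ 4 * 3 := by
              rw [show 4 * 3 = Nat.card (DihedralGroup 6) by rw [DihedralGroup.nat_card]]
              exact orderOf_dvd_natCard _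
            exact ((Nat.Coprime.pow_left k (by norm_num : Nat.Coprime 2 3)).coprime_dvd_left hd).dvd_of_dvd_mul_right h12
          rcases six_rot_two i (by
            obtain ⟨c, hc⟩ := hd4
            have h4 : (r i : DihedralGroup 6) ^ 4 = 1 := by rw [hc, pow_mul, pow_orderOf_eq_one, one_pow]
            exact h4) with h | h <;> rw [h]
          · rw [map_one]; exact one_mem _
          · exact Subgroup.mem_zpowers _
        rw [hRZ, hZ, Nat.card_zpowers, hz2] at hmc
        have hS2 : ∀ S : Sylow 2 L, IsCyclic (S : Subgroup L) := fun S => by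
          obtain ⟨k, hk⟩ := IsPGroup.iff_card.1 S.2
          have hdd : 2 ^ k ∣ 2 * m := hk ▸ hmc ▸ Subgroup.card_subgroup_dvd_card (S : Subgroup L)
          have h2 : 2 ^ k ∣ 2 :=
            ((Nat.Coprime.pow_left k (Nat.coprime_two_left.2 hm))).dvd_of_dvd_mul_right hdd
          rcases (Nat.dvd_prime Nat.prime_two).1 h2 with h | h
          · haveI : Subsingleton (S : Subgroup L) := (Nat.card_eq_one_iff_unique.1 (hk.trans h)).1
            exact isCyclic_of_subsingleton
          · exact isCyclic_of_prime_card (hk.trans h)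
        obtain ⟨K, hK⟩ := CfsgLib.Signalizer.index_two_of_cyclic_sylow
          (by rw [hmc]; exact even_two_mul m) (default : Sylow 2 L) (hS2 _)
        exact hL.no_index_two K hK
    have htop : L = ⊤ := top_le_iff.1 (hs.sup_top hL.normal hL.ne_bot ▸ sup_le hHL le_rfl)
    haveI := hs.isSimple_of_top hL htop
    have hnc := hs.not_comm
    have hidx := no_index_two hnc
    -- the four-group
    set s := ι (sr 0) with hsdef
    set V := Subgroup.closure ({z, s} : Set G) with hV
    have hVι : V = (Subgroup.closure ({r 3, sr 0} : Set (DihedralGroup 6))).map ι := by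
      rw [hV, MonoidHom.map_closure, Set.image_insert_eq, Set.image_singleton]
    have hW : ∀ y ∈ Subgroup.closure ({r 3, sr 0} : Set (DihedralGroup 6)),
        y = 1 ∨ y = r 3 ∨ y = sr 0 ∨ y = sr 3 := by
      intro y hy
      refine six_four y ?_
      induction hy using Subgroup.closure_induction with
      | mem x hx => rcases hx with rfl | rfl <;> decide
      | one => simp
      | mul x y _ _ hx hy => rw [mul_assoc, hy, ← mul_assoc, hx, mul_assoc]
      | inv x _ hx => exact (Commute.inv_left hx).eq
    have hin : r 3 ∈ Subgroup.closure ({r 3, sr 0} : Set (DihedralGroup 6)) ∧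
        sr 0 ∈ Subgroup.closure ({r 3, sr 0} : Set (DihedralGroup 6)) :=
      ⟨Subgroup.subset_closure (Or.inl rfl), Subgroup.subset_closure (Or.inr rfl)⟩
    have hW4 : Nat.card (Subgroup.closure ({r 3, sr 0} : Set (DihedralGroup 6))) = 4 := by
      have hset : ((Subgroup.closure ({r 3, sr 0} : Set (DihedralGroup 6))) : Set (DihedralGroup 6)) =
          ↑({1, r 3, sr 0, sr 3} : Finset (DihedralGroup 6)) := by
        ext y
        simp only [Finset.coe_insert, Finset.coe_singleton, Set.mem_insert_iff, Set.mem_singleton_iff,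
          SetLike.mem_coe]
        refine ⟨hW y, ?_⟩
        rintro (rfl | rfl | rfl | rfl)
        · exact one_mem _
        · exact hin.1
        · exact hin.2
        · rw [show (sr 3 : DihedralGroup 6) = sr 0 * r 3 by decide]; exact mul_mem hin.2 hin.1
      rw [← SetLike.coe_sort_coe, Nat.card_coe_set_eq, hset, Set.ncard_coe_finset]
      decide
    have hVK : IsKleinFour V := isKlein_of_card
      (by rw [hVι, Subgroup.card_map_of_injective hιi, hW4])
      (by
        rw [hVι]
        rintro _ ⟨y, hy, rfl⟩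
        rw [← map_mul, ← map_one ι]
        congr 1
        rcases hW y hy with rfl | rfl | rfl | rfl <;> decide)
    have hCV : Subgroup.centralizer (V : Set G) ≤ V := by
      intro x hx
      rw [hV, Subgroup.centralizer_closure, Subgroup.mem_centralizer_iff] at hx
      have hxH : x ∈ H := hCz ▸ Subgroup.mem_centralizer_singleton_iff.2 (hx z (Or.inl rfl)).symm
      obtain ⟨y, rfl⟩ := hιH x hxH
      have h := six_four y (hιi (by rw [map_mul, map_mul]; exact (hx s (Or.inr rfl)).symm))
      rw [hVι]
      refine Subgroup.mem_map_of_mem ι ?_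
      rcases h with rfl | rfl | rfl | rfl
      · exact one_mem _
      · exact hin.1
      · exact hin.2
      · rw [show (sr 3 : DihedralGroup 6) = sr 0 * r 3 by decide]; exact mul_mem hin.2 hin.1
    obtain ⟨S, hVS⟩ := (IsPGroup.of_card (p := 2) (n := 2) hVK.card_four).exists_le_sylow
    -- all involutions conjugate: the Sylow subgroup has order four
    have hsmall : (∀ x y : G, orderOf x = 2 → orderOf y = 2 → IsConj x y) →
        Nat.card (S : Subgroup G) ∣ 12 := by
      intro hall
      haveI : Nontrivial (S : Subgroup G) := by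
        refine Finite.one_lt_card_iff_nontrivial.1 ?_
        have := Subgroup.card_le_of_le hVS
        have := hVK.card_four
        omega
      haveI := S.2.center_nontrivial
      obtain ⟨w, hw1⟩ := exists_ne (1 : Subgroup.center (S : Subgroup G))
      obtain ⟨k, hk⟩ := S.2.to_subgroup (Subgroup.center (S : Subgroup G)) w
      obtain ⟨u, hu⟩ : ∃ u : Subgroup.center (S : Subgroup G), orderOf u = 2 := by
        refine exists_prime_orderOf_dvd_card' 2 ?_
        obtain ⟨j, hj⟩ := IsPGroup.iff_card.1 (S.2.to_subgroup (Subgroup.center (S : Subgroup G)))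
        rw [hj]
        refine dvd_pow_self 2 fun h0 => hw1 ?_
        rw [h0, pow_zero] at hj
        exact (Nat.card_eq_one_iff_unique.1 hj).1.elim _ _
      obtain ⟨c, hc⟩ := isConj_iff.1 (hall ((u : (S : Subgroup G)) : G) z
        (by rw [Subgroup.orderOf_coe, Subgroup.orderOf_coe, hu]) hz2)
      have hle : (S : Subgroup G).map (MulAut.conj c).toMonoidHom ≤ H := by
        rw [← hCz]
        rintro _ ⟨x, hx, rfl⟩
        rw [Subgroup.mem_centralizer_singleton_iff]
        have hxu : x * ((u : (S : Subgroup G)) : G) = ((u : (S : Subgroup G)) : G) * x :=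
          congrArg Subtype.val (Subgroup.mem_center_iff.1 u.2 ⟨x, hx⟩)
        show c * x * c⁻¹ * z = z * (c * x * c⁻¹)
        rw [← hc]
        calc c * x * c⁻¹ * (c * _ * c⁻¹) = c * (x * ((u : (S : Subgroup G)) : G)) * c⁻¹ := by group
          _ = _ := by rw [hxu]; group
      rw [← card_map_conj (S : Subgroup G) c, ← hH12]
      exact Subgroup.card_dvd_of_le hle
    rcases types_of_four hVK hCV hVS with ⟨n, hn, hd⟩ | hQ
    · obtain ⟨e₀⟩ := hd
      obtain ⟨k, f, hk, hkc, hf, hfS⟩ := CfsgLib.TwoGroups.Dihedral.exists_model hn e₀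
      have hS12 := hsmall (CfsgLib.TwoGroups.Dihedral.all_conj_of_no_index_two hf hfS hk hidx)
      rcases dihedral_simple hnc hn ⟨e₀⟩ with ⟨F, _, _, hodd, -, ⟨θ⟩⟩ | ⟨⟨θ⟩⟩
      · have hc : Nat.card (Subgroup.centralizer ({θ z} : Set _)) = 12 := by
          rw [← hH12, ← hCz]
          refine (Nat.card_congr ?_).symm
          exact
            { toFun := fun x => ⟨θ x.1, by
                rw [Subgroup.mem_centralizer_singleton_iff, ← map_mul, ← map_mul,
                  Subgroup.mem_centralizer_singleton_iff.1 x.2]⟩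
              invFun := fun y => ⟨θ.symm y.1, by
                rw [Subgroup.mem_centralizer_singleton_iff]
                apply θ.injective
                rw [map_mul, map_mul, θ.apply_symm_apply]
                exact Subgroup.mem_centralizer_singleton_iff.1 y.2⟩
              left_inv := fun x => by simp
              right_inv := fun y => by simp }
        exact (psl_twelve hodd (by rw [MulEquiv.orderOf_eq, hz2]) hc).imp
          (fun ⟨φ⟩ => ⟨θ.trans φ⟩) (fun ⟨φ⟩ => ⟨θ.trans φ⟩)
      · exfalso
        have h8 : 8 ∣ Nat.card (S : Subgroup G) := by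
          have h2 : Nat.Coprime 8 (S : Subgroup G).index :=
            Nat.Coprime.pow_left 3 ((Nat.Prime.coprime_iff_not_dvd Nat.prime_two).2 S.not_dvd_index)
          refine h2.dvd_of_dvd_mul_right ?_
          rw [(S : Subgroup G).card_mul_index, Nat.card_congr θ.toEquiv, nat_card_alternatingGroup]
          simp [Nat.factorial]
        exact absurd (h8.trans hS12) (by norm_num)
    · exfalso
      have hS12 := hsmall fun x y hx hy =>
        CfsgLib.TwoGroups.QdSimple.isConj_involutions (Or.inl hQ) hidx hx hy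
      obtain ⟨n, hn, hc, -⟩ := hQ
      rw [hc] at hS12
      have h8 : 2 ^ 3 ∣ 12 := (pow_dvd_pow 2 (show 3 ≤ n + 1 by omega)).trans hS12
      norm_num at h8
  · -- `z ∉ L`: `L` is `A₅` or `PSL(2,7)`, of index two
    have hLH : L ⊓ H ≠ ⊥ := by
      intro hb
      refine hL.not_solvable (Group.isSolvable_of_comm fun a b => ?_)
      let φ : L →* L := (MulAut.conjNormal (H := L) z).toMonoidHom
      have hfpf : MonoidHom.FixedPointFree φ := by
        intro x hx
        have h : z * (x : G) * z⁻¹ = x := by
          rw [← MulAut.conjNormal_apply]; exact congrArg Subtype.val hx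
        have hm : (x : G) ∈ L ⊓ H := ⟨x.2, hCz ▸ Subgroup.mem_centralizer_singleton_iff.2
          (mul_inv_eq_iff_eq_mul.1 h).symm⟩
        rw [hb, Subgroup.mem_bot] at hm
        exact Subtype.ext hm
      have hinv : Function.Involutive φ := by
        intro x
        refine Subtype.ext ?_
        show ((MulAut.conjNormal z (MulAut.conjNormal z x) : L) : G) = x
        rw [MulAut.conjNormal_apply, MulAut.conjNormal_apply,
          show z * (z * (x : G) * z⁻¹) * z⁻¹ = (z * z) * x * (z * z)⁻¹ by group, hzz, one_mul, inv_one,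
          mul_one]
      exact (hfpf.commute_all_of_involutive hinv a b).eq
    have hXL : X ≤ L := by
      obtain ⟨x, ⟨hxL, hxH⟩, hx1⟩ := (Subgroup.bot_or_exists_ne_one _).resolve_left hLH
      obtain ⟨y, rfl⟩ := hιH x hxH
      rcases six_split y (fun h => hx1 (by rw [h, map_one])) with h | h | h | h | h
      · exact absurd (by rw [hz, ← h]; exact hxL) hzL
      · exact hXmem _ (by rw [map_mul]; exact mul_mem hxL hxL) (Or.inl h)
      · exact hXmem _ (by rw [map_mul]; exact mul_mem hxL hxL) (Or.inr h)
      · exact hXmem _ (hcomm_mem y hxL) (Or.inl h)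
      · exact hXmem _ (hcomm_mem y hxL) (Or.inr h)
    set XL := X.subgroupOf L with hXLdef
    have hXL3 : Nat.card XL = 3 := by
      rw [hXLdef, Nat.card_congr (Subgroup.subgroupOfEquivOfLe hXL).toEquiv, hX3]
    have hCX : Subgroup.centralizer (XL : Set L) = XL := by
      refine le_antisymm (fun x hx => ?_) fun x hx => ?_
      · rw [Subgroup.mem_centralizer_iff] at hx
        have hxc : (x : G) ∈ Subgroup.centralizer (X : Set G) := Subgroup.mem_centralizer_iff.2
          fun w hw => congrArg Subtype.val (hx ⟨w, hXL hw⟩ (Subgroup.mem_subgroupOf.2 hw))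
        obtain ⟨y, hy⟩ := hιH _ (hs.centralizer_le hXH hXn hXne hxc)
        have hcomm : y * r 2 = r 2 * y := hιi (by
          rw [map_mul, map_mul, hy]
          exact (Subgroup.mem_centralizer_iff.1 hxc _ (Subgroup.mem_zpowers _)).symm)
        rw [hXLdef, Subgroup.mem_subgroupOf, ← hy]
        rcases six_cent y hcomm with h | rfl | rfl | rfl
        · refine absurd ?_ hzL
          rw [hz, ← h, map_mul, map_mul, hy]
          exact mul_mem (mul_mem x.2 x.2) x.2
        · rw [map_one]; exact one_mem _
        · exact Subgroup.mem_zpowers _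
        · rw [show (r 4 : DihedralGroup 6) = r 2 * r 2 by decide, map_mul]
          exact mul_mem (Subgroup.mem_zpowers _) (Subgroup.mem_zpowers _)
      · haveI : IsCyclic XL := isCyclic_of_prime_card hXL3
        letI := IsCyclic.commGroup (α := XL)
        exact Subgroup.mem_centralizer_iff.2 fun w hw =>
          congrArg Subtype.val (mul_comm (⟨w, hw⟩ : XL) ⟨x, hx⟩)
    -- the index
    set M := L ⊓ H with hM
    have hM3 : 3 ∣ Nat.card M := hX3 ▸ Subgroup.card_dvd_of_le (le_inf hXL hXH)
    have hM12 : Nat.card M ∣ 12 := hH12 ▸ Subgroup.card_dvd_of_le inf_le_right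
    have hMne : Nat.card M ≠ 12 := fun h => hzL (by
      have := Subgroup.eq_of_le_of_card_ge (inf_le_right : M ≤ H) (by rw [hH12, h])
      exact (this.ge (hιmem (r 3))).1)
    have hMc : Nat.card M = 3 ∨ Nat.card M = 6 := by
      have key : ∀ k < 13, k ∣ 12 → 3 ∣ k → k ≠ 12 → k = 3 ∨ k = 6 := by decide
      exact key _ (Nat.lt_succ_of_le (Nat.le_of_dvd (by norm_num) hM12)) hM12 hM3 hMne
    -- the embedding in the automorphism group
    have hemb : ∀ {Q : Type} [Group Q] [Finite Q], (L ≃* Q) → Nat.card (MulAut Q) = 2 * Nat.card Q →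
        Nonempty (G ≃* MulAut Q) := by
      intro Q _ _ eQ hcard
      obtain ⟨R, -, ⟨θ⟩⟩ := CfsgLib.GW.Deps.Shapes.exists_autRange L hL.cent eQ
      have hle : Nat.card G ≤ Nat.card (MulAut Q) := by
        rw [Nat.card_congr θ.toEquiv]; exact Subgroup.card_le_card_group R
      rw [hcard, ← Nat.card_congr eQ.toEquiv] at hle
      have hLpos : 0 < Nat.card L := Nat.card_pos
      rcases hMc with h3 | h6
      · rw [h3] at hce
        nlinarith
      · rw [h6] at hce
        have hR : R = ⊤ := Subgroup.eq_top_of_card_eq R (by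
          rw [← Nat.card_congr θ.toEquiv, hcard, ← Nat.card_congr eQ.toEquiv]
          omega)
        exact ⟨θ.trans ((MulEquiv.subgroupCongr hR).trans Subgroup.topEquiv)⟩
    rcases Cfsg.Agent.S3331.result XL hXL3 hCX with
      ⟨N, hN, hnil, -, hq⟩ | ⟨N, hN, hcomm, hN2, ⟨eN⟩⟩ | ⟨⟨eL⟩⟩
    · exfalso
      haveI := hnil
      refine hL.not_solvable (solvable_of_quotient N inferInstance ?_)
      rcases hq with hq | ⟨⟨eq⟩⟩
      · haveI := isCyclic_of_prime_card hq
        exact Group.isSolvable_of_comm fun a b => (IsCyclic.commGroup (α := L ⧸ N)).mul_comm a b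
      · haveI : Group.IsSolvable (Equiv.Perm (Fin 3)) :=
          CfsgLib.Known.GLFourTwo.isSolvable_of_card_lt_sixty _ (Equiv.Perm (Fin 3)) rfl
            (by rw [Nat.card_perm, Nat.card_fin]; decide)
        exact Group.isSolvable_of_isSolvable_injective (f := eq.toMonoidHom) eq.injective
    · left
      haveI := hN
      have hNp : IsPGroup 2 N := fun x => ⟨1, Subtype.ext (by
        rw [pow_one, SubmonoidClass.coe_pow]; exact hN2 x x.2)⟩
      have hcore : Cfsg.pCore 2 L = ⊥ := by
        by_contra hne
        haveI : (Cfsg.pCore 2 L).Characteristic := CfsgLib.Core.characteristic_pCore 2 L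
        haveI : Finite (Cfsg.pCore 2 L) := inferInstance
        haveI := (CfsgLib.Core.isPGroup_pCore 2 L).isNilpotent
        have hne' : (Cfsg.pCore 2 L).map L.subtype ≠ ⊥ := fun h =>
          hne ((Subgroup.map_eq_bot_iff_of_injective _ L.subtype_injective).1 h)
        refine hs.not_solvable inferInstance hne' ?_
        exact Group.isSolvable_of_surjective
          (f := ((Cfsg.pCore 2 L).equivMapOfInjective L.subtype L.subtype_injective).toMonoidHom)
          ((Cfsg.pCore 2 L).equivMapOfInjective L.subtype L.subtype_injective).surjective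
      have hNb : N = ⊥ := eq_bot_iff.2 (hcore ▸ CfsgLib.Core.le_pCore hNp)
      subst hNb
      obtain ⟨hc, ⟨β⟩⟩ := aut_alt_five
      obtain ⟨θ⟩ := hemb ((QuotientGroup.quotientBot (G := L)).symm.trans eN)
        (by rw [hc, nat_card_alternatingGroup]; simp [Nat.factorial])
      exact ⟨θ.trans β⟩
    · right; left
      obtain ⟨hc, ⟨β⟩⟩ := aut_psl_seven
      obtain ⟨θ⟩ := hemb eL (by rw [hc, card_psl_seven])
      exact ⟨θ.trans β⟩

end CfsgLib.Perm.SuborbitThree
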