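import Cfsg.Agent.Lib.Perm.SuborbitThree.CoreSetup
import Cfsg.Agent.Lib.Blocks.Principal
import Cfsg.Agent.Lib.ZStar.PrincipalBlock

/-!
The order equation for an involution centralizer over `GL(2,3)`: characters of the principal
`2`-block are constant on the coset of the kernel.
-/

set_option autoImplicit false
set_option linter.style.haveILetI false
set_option quotPrecheck false

namespace CfsgLib.Perm.SuborbitThree

open Cfsg Subgroup CfsgLib.Blocks.GLTwoThreeCentralizer CfsgLib.Char CfsgLib.CharIntegral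
open scoped _root_.Classical ComplexConjugate

theorem fn_qneg_cross : ∀ i, ∀ q ∈ invs, fn i (qmul qneg q) = 0 ∧ fn i (qmul q qneg) = 0 := by
  decide +kernel

theorem qneg_mem_invs : qneg ∈ invs := by decide +kernel

variable {G : Type*} [Group G] [Fintype G] {t : G}
variable {π : Subgroup.centralizer ({t} : Set G) →* GLT}

local notation "CC" => Subgroup.centralizer ({t} : Set G)

/-- The class functions pulled back to the centralizer. -/
noncomputable def lfn (π : Subgroup.centralizer ({t} : Set G) →* GLT) (i : Fin 5) :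
    Subgroup.centralizer ({t} : Set G) → ℂ :=
  fun x => toC (fn i (pt π x))

omit [Fintype G] in
theorem isGen_lfn (i : Fin 5) : Cfsg.IsGeneralizedCharacter CC (lfn π i) :=
  IsGen.comp π (isGen_fn i)

/-- The mean of a function on the coset of the kernel through the involution. -/
noncomputable def cosetMean (π : Subgroup.centralizer ({t} : Set G) →* GLT) (f : G → ℂ) : ℂ :=
  (Nat.card π.ker : ℂ)⁻¹ * ∑ o : π.ker, f (t * ((o : Subgroup.centralizer ({t} : Set G)) : G))

namespace GLCover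

variable (K : GLCover t π)
include K

omit K in
theorem kerCast_ne : (Nat.card π.ker : ℂ) ≠ 0 := Nat.cast_ne_zero.2 Nat.card_pos.ne'

theorem special_of_power {x : CC} {k : ℕ} (hk : pt π (x ^ k) = qneg) : (x : G) ∈ specialSet t := by
  rw [← K.pt_t, pt_eq_iff] at hk
  set o := (x ^ k)⁻¹ * tC t
  set n := Nat.card π.ker
  have hon : o ^ n = 1 := by
    exact congrArg Subtype.val (pow_card_eq_one' (x := (⟨o, hk⟩ : π.ker)))
  have hx : x ^ k = tC t * o⁻¹ := by rw [mul_inv_rev, inv_inv, mul_inv_cancel_left]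
  refine ⟨k * n, ?_⟩
  have hc : Commute (tC t) o⁻¹ := tC_commute _
  have h : x ^ (k * n) = tC t := by
    rw [pow_mul, hx, hc.mul_pow, inv_pow, hon, inv_one, mul_one]
    obtain ⟨m, hm⟩ := K.odd_ker
    rw [show n = 2 * m + 1 from hm, pow_succ, pow_mul, pow_two, K.t_sq, one_pow, one_mul]
  exact congrArg Subtype.val h

theorem lfn_support (i : Fin 5) (x : CC) (hx : (x : G) ∉ specialSet t) : lfn π i x = 0 := by
  by_contra hne
  have hf : fn i (pt π x) ≠ 0 := fun h => hne (by rw [lfn, h, map_zero])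
  rcases fn_support i _ (pt_mem x) hf with h | h | h | h
  · exact hx (K.special_of_power (k := 1) (by rwa [pow_one]))
  · exact hx (K.special_of_power (k := 2) (by rwa [pow_two, pt_mul]))
  · exact hx (K.special_of_power (k := 3) (by rwa [pow_succ', pow_two, pt_mul, pt_mul]))
  · exact hx (K.special_of_power (k := 4) (by rwa [pow_succ', pow_succ', pow_two, pt_mul, pt_mul, pt_mul]))

theorem sum_lfn [Fintype CC] (f : Qd → Rt) :
    ∑ x : CC, toC (f (pt π x)) = (Nat.card π.ker : ℂ) * toC (∑ p ∈ els, f p) := by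
  rw [← map_sum, K.sum_pt f, map_nsmul, nsmul_eq_mul]

theorem inner_lfn (i j : Fin 5) : Cfsg.classInner (lfn π i) (lfn π j) = (gram i j : ℂ) := by
  have h0 := (kerCast_ne (π := π))
  unfold Cfsg.classInner
  rw [K.card_cent, Finset.sum_congr rfl (fun x _ => show lfn π i x * conj (lfn π j x) =
      toC ((fun p => fn i p * star (fn j p)) (pt π x)) by rw [lfn, lfn, toC_star, map_mul]),
    K.sum_lfn (fun p => fn i p * star (fn j p)), fn_gram, map_intCast]
  push_cast
  field_simp

theorem inner_lfn_const (i : Fin 5) (x : ℂ) (f : CC → ℂ)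
    (hf : ∀ c : CC, ∑ o : π.ker, f (c * (o : CC)) = (Nat.card π.ker : ℂ) * x) :
    Cfsg.classInner (lfn π i) f = (means i : ℂ) * conj x := by
  have h0 := (kerCast_ne (π := π))
  unfold Cfsg.classInner
  rw [K.card_cent]
  have key : ∑ c : CC, lfn π i c * conj (f c) = ∑ c : CC, lfn π i c * conj x := by
    have h1 : ∀ o : π.ker, ∑ c : CC, lfn π i c * conj (f c) =
        ∑ c : CC, lfn π i c * conj (f (c * (o : CC))) := fun o => by
      refine (Fintype.sum_equiv (Equiv.mulRight (o : CC)) _ _ fun c => ?_).symm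
      simp only [Equiv.coe_mulRight, lfn]
      rw [show pt π (c * (o : CC)) = pt π c from (pt_eq_iff.2 (by simp)).symm]
    refine mul_left_cancel₀ h0 ?_
    calc _ = ∑ _o : π.ker, ∑ c : CC, lfn π i c * conj (f c) := by
          rw [Finset.sum_const, Finset.card_univ, nsmul_eq_mul, Nat.card_eq_fintype_card]
      _ = ∑ c : CC, lfn π i c * conj (∑ o : π.ker, f (c * (o : CC))) := by
          rw [Finset.sum_congr rfl fun o _ => h1 o, Finset.sum_comm]
          simp only [map_sum, Finset.mul_sum]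
      _ = _ := by
          rw [Finset.mul_sum]
          refine Finset.sum_congr rfl fun c _ => ?_
          rw [hf c, map_mul, map_natCast]
          ring
  rw [key, ← Finset.sum_mul, Finset.sum_congr rfl (fun c _ => show lfn π i c = toC (fn i (pt π c)) from rfl),
    K.sum_lfn, fn_means, map_intCast]
  push_cast
  field_simp

theorem inner_lfn_one (i : Fin 5) :
    Cfsg.classInner (lfn π i) (fun _ => (1 : ℂ)) = (means i : ℂ) := by
  rw [K.inner_lfn_const i 1 _ fun c => by simp [Nat.card_eq_fintype_card], map_one, mul_one]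

theorem coef_lfn (χ : Cfsg.IrrCharacter G) :
    ∑ i, (coefAt i : ℂ) * Cfsg.classInner (lfn π i) (fun x : CC => (χ : G → ℂ) x) =
      conj (cosetMean π (χ : G → ℂ)) := by
  have h0 := (kerCast_ne (π := π))
  unfold Cfsg.classInner
  rw [K.card_cent]
  simp only [← mul_assoc, mul_comm _ ((48 * Nat.card π.ker : ℕ) : ℂ)⁻¹]
  simp only [mul_assoc, ← Finset.mul_sum]
  simp only [Finset.mul_sum _ _ (coefAt _ : ℂ), ← mul_assoc]
  rw [Finset.sum_comm]
  simp only [← Finset.sum_mul]
  have hfun : ∀ x : CC, ∑ i, (coefAt i : ℂ) * lfn π i x = if pt π x = qneg then 48 else 0 := by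
    intro x
    have h := congrArg toC (fn_coefAt _ (pt_mem (π := π) x))
    rw [map_sum] at h
    simp only [map_mul, map_intCast] at h
    refine h.trans ?_
    rw [apply_ite toC, map_ofNat, map_zero]
  simp only [hfun, ite_mul, zero_mul, ← Finset.sum_filter]
  have hre : ∑ x ∈ Finset.univ.filter (fun x : CC => pt π x = qneg), (48 : ℂ) * conj ((χ : G → ℂ) x) =
      ∑ o : π.ker, (48 : ℂ) * conj ((χ : G → ℂ) (t * ((o : CC) : G))) := by
    refine Finset.sum_bij' (fun x hx => ⟨(tC t)⁻¹ * x, pt_eq_iff.1 (K.pt_t.trans (Finset.mem_filter.1 hx).2.symm)⟩)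
      (fun o _ => tC t * (o : CC)) (fun _ _ => Finset.mem_univ _) (fun o _ => ?_) (fun x _ => by simp)
      (fun o _ => by simp) (fun x _ => ?_)
    · refine Finset.mem_filter.2 ⟨Finset.mem_univ _, ?_⟩
      rw [← K.pt_t]
      exact (pt_eq_iff.2 (by simp)).symm
    · congr 3
      simp [tC]
  rw [hre, cosetMean, map_mul, map_inv₀, map_natCast, map_sum, ← Finset.mul_sum, Nat.cast_mul, mul_inv]
  field_simp
  norm_num

/-- Outside the principal `2`-block the coset sum vanishes. -/
theorem cosetMean_eq_zero {M : Ideal AlgInt} [M.IsPrime] (hM : IsPModular 2 M)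
    {χ : Cfsg.IrrCharacter G} (hχ : χ ∉ Cfsg.principalBlock M G) :
    cosetMean π (χ : G → ℂ) = 0 := by
  haveI : Fact (Nat.Prime 2) := ⟨Nat.prime_two⟩
  have := Fintype.ofFinite (Cfsg.IrrCharacter CC)
  have hx : ∃ k : ℕ, orderOf t = 2 ^ k := ⟨1, by rw [K.order_t, pow_one]⟩
  have h := CfsgLib.Blocks.blockPart_principal_translate hM hx χ (y := (1 : CC)) (by simp)
  rw [if_neg hχ, CfsgLib.Blocks.blockPart_eq,
    finsum_mem_eq_finite_toFinset_sum _ (Set.toFinite _)] at h
  set θ : CC → ℂ := fun c => (χ : G → ℂ) (t * (c : G))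
  have hθ : IsClassFunction CC θ := CfsgLib.Blocks.isClassFunction_translate χ
  have hmem : ∀ ψ : Cfsg.IrrCharacter CC, ψ ∈ Cfsg.principalBlock M CC ↔
      ∀ n ∈ π.ker, (ψ : CC → ℂ) n = (ψ : CC → ℂ) 1 := fun ψ => by
    rw [CfsgLib.Blocks.mem_principalBlock_iff_of_isPSolvable hM
      (CfsgLib.Core.isPSolvable_of_isSolvable K.solvable), K.core_eq]
  have hsum : ∀ ψ : Cfsg.IrrCharacter CC, ∑ o : π.ker, (ψ : CC → ℂ) (o : CC) =
      if ψ ∈ Cfsg.principalBlock M CC then (Nat.card π.ker : ℂ) * (ψ : CC → ℂ) 1 else 0 := by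
    intro ψ
    split_ifs with hψ
    · rw [Finset.sum_congr rfl fun (o : π.ker) _ => (hmem ψ).1 hψ o o.2, Finset.sum_const,
        Finset.card_univ, nsmul_eq_mul, Nat.card_eq_fintype_card]
    · rw [hmem] at hψ
      have h0 := (CfsgLib.Blocks.omega_avgElt_eq_or π.ker ψ).resolve_right fun h1 =>
        hψ ((CfsgLib.Blocks.omega_avgElt_eq_one_iff π.ker ψ).1 h1)
      rw [CfsgLib.Blocks.omega_avgElt, div_eq_zero_iff, mul_eq_zero] at h0
      rcases h0 with (h0 | h0) | h0
      · exact absurd h0 (inv_ne_zero (kerCast_ne (π := π)))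
      · exact h0
      · exact absurd h0 (Char.IsIrr.apply_one_ne_zero ψ.2)
  have key : ∑ o : π.ker, θ (o : CC) = 0 := by
    rw [Finset.sum_congr rfl fun (o : π.ker) _ => Char.classFunction_apply_eq_sum hθ (o : CC),
      Finset.sum_comm]
    simp only [← Finset.mul_sum, hsum, mul_ite, mul_zero, ← Finset.sum_filter]
    have : ∑ ψ ∈ (Set.toFinite (Cfsg.principalBlock M CC)).toFinset,
        classInner θ (ψ : CC → ℂ) * (ψ : CC → ℂ) 1 = 0 := h
    rw [show Finset.univ.filter (fun ψ : Cfsg.IrrCharacter CC =>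
      ψ ∈ Cfsg.principalBlock M CC) = (Set.toFinite (Cfsg.principalBlock M CC)).toFinset by ext; simp]
    rw [← mul_zero (Nat.card π.ker : ℂ), ← this, Finset.mul_sum]
    exact Finset.sum_congr rfl fun ψ _ => by ring
  rw [cosetMean]
  exact mul_eq_zero_of_right _ key

/-- In the principal `2`-block the values on the coset are constant. -/
theorem apply_coset_eq {M : Ideal AlgInt} [M.IsPrime] (hM : IsPModular 2 M)
    {χ : Cfsg.IrrCharacter G} (hχ : χ ∈ Cfsg.principalBlock M G) (o : π.ker) :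
    (χ : G → ℂ) (t * ((o : CC) : G)) = (χ : G → ℂ) t := by
  haveI : Fact (Nat.Prime 2) := ⟨Nat.prime_two⟩
  exact CfsgLib.Blocks.apply_mul_eq_of_mem_principalBlock hM ⟨1, by rw [K.order_t, pow_one]⟩ hχ
    (N := π.ker) (Nat.two_dvd_ne_zero.2 (Nat.odd_iff.1 K.odd_ker)) o.2

theorem apply_coset_of_mean_ne (χ : Cfsg.IrrCharacter G) (h : cosetMean π (χ : G → ℂ) ≠ 0) :
    (∀ o : π.ker, (χ : G → ℂ) (t * ((o : CC) : G)) = (χ : G → ℂ) t) ∧
      cosetMean π (χ : G → ℂ) = (χ : G → ℂ) t := by
  obtain ⟨M, hM⟩ := CfsgLib.ZStar.exists_isPModular Nat.prime_two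
  haveI : M.IsPrime := hM.2.1.isPrime
  have hχ : χ ∈ Cfsg.principalBlock M G := by
    by_contra hc
    exact h (K.cosetMean_eq_zero hM hc)
  have hc := K.apply_coset_eq hM hχ
  refine ⟨hc, ?_⟩
  rw [cosetMean, Finset.sum_congr rfl fun o _ => hc o, Finset.sum_const, Finset.card_univ,
    nsmul_eq_mul, ← mul_assoc, Nat.card_eq_fintype_card,
    inv_mul_cancel₀ (by exact_mod_cast Fintype.card_pos.ne'), one_mul]

theorem pair_sum (i : Fin 5) (I : Finset CC) (hI : ∀ x, x ∈ I ↔ IsConj t (x : G)) :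
    ∑ x ∈ I, ∑ y ∈ I, lfn π i (x * y) =
      (Nat.card π.ker : ℂ) ^ 2 * toC (∑ p ∈ invs, ∑ q ∈ invs, fn i (qmul p q)) := by
  have hord : ∀ x : CC, x ∈ I ↔ x * x = 1 ∧ x ≠ 1 := fun x => by
    rw [hI]
    constructor
    · intro h
      obtain ⟨c, hc⟩ := isConj_iff.1 h
      have ho : orderOf x = 2 := by
        rw [← Subgroup.orderOf_coe, ← hc, show c * t * c⁻¹ = MulAut.conj c t from rfl,
          MulEquiv.orderOf_eq, K.order_t]
      exact ⟨by rw [← pow_two, ← ho, pow_orderOf_eq_one],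
        fun e => by rw [e, orderOf_one] at ho; omega⟩
    · rintro ⟨h2, h1⟩
      refine K.one_class _ ?_
      rw [Subgroup.orderOf_coe]
      exact orderOf_eq_prime (by rwa [pow_two]) h1
  have hfib : ∀ p ∈ invs, p ≠ qneg →
      (I.filter fun x => pt π x = p).card = Nat.card π.ker := by
    intro p hp hne
    rw [← K.card_fibre (Finset.mem_filter.1 hp).1]
    congr 1
    ext x
    simp only [Finset.mem_filter, Finset.mem_univ, true_and, and_iff_right_iff_imp]
    intro hx
    refine (hord x).2 ⟨(K.reflection (hx ▸ hp) (hx ▸ hne)).1, fun e => ?_⟩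
    rw [e, pt_one] at hx
    exact (Finset.mem_filter.1 hp).2.1 hx.symm
  have hmap : ∀ x ∈ I, pt π x ∈ invs := fun x hx =>
    (K.eq_of_involution ((hord x).1 hx).1 ((hord x).1 hx).2).1
  have hw : ∀ f : Qd → ℂ, f qneg = 0 →
      ∑ x ∈ I, f (pt π x) = (Nat.card π.ker : ℂ) * ∑ p ∈ invs, f p := by
    intro f hf
    rw [Finset.mul_sum, ← Finset.sum_fiberwise_of_maps_to (g := pt π) hmap]
    refine Finset.sum_congr rfl fun p hp => ?_
    rw [Finset.sum_congr rfl (fun x hx => show f (pt π x) = f p by rw [(Finset.mem_filter.1 hx).2]),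
      Finset.sum_const, nsmul_eq_mul]
    by_cases hne : p = qneg
    · subst hne; rw [hf, mul_zero, mul_zero]
    · rw [hfib p hp hne]
  have hrow : ∀ x ∈ I, ∑ y ∈ I, lfn π i (x * y) =
      (Nat.card π.ker : ℂ) * ∑ q ∈ invs, toC (fn i (qmul (pt π x) q)) := by
    intro x hx
    rw [← hw (fun q => toC (fn i (qmul (pt π x) q))) (by
      rw [(fn_qneg_cross i _ (hmap x hx)).2, map_zero])]
    refine Finset.sum_congr rfl fun y _ => ?_
    rw [lfn, pt_mul]
  rw [Finset.sum_congr rfl hrow, ← Finset.mul_sum, hw (fun p => ∑ q ∈ invs, toC (fn i (qmul p q))) ?_]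
  · simp only [map_sum, pow_two, mul_assoc]
  · exact Finset.sum_eq_zero fun q hq => by rw [(fn_qneg_cross i q hq).1, map_zero]

end GLCover

end CfsgLib.Perm.SuborbitThree
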