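import Cfsg.Agent.Lib.Blocks.GLTwoThreeCentralizer.Local
import Cfsg.Agent.Lib.Blocks.GLTwoThreeCentralizer.Main
import Cfsg.Agent.Lib.Blocks.PrincipalPSolvable
import Cfsg.Agent.Lib.Core.PLengthTwoMaximal
import Cfsg.Agent.Lib.Known.GLFourTwoFacts
import Cfsg.Agent.Lib.Core.Basic

/-!
An involution centralizer mapping onto `GL(2,3)` with odd kernel `O` inverted by a reflection.
-/

set_option autoImplicit false
set_option linter.style.haveILetI false
set_option quotPrecheck false

namespace CfsgLib.Perm.SuborbitThree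

open Cfsg Subgroup CfsgLib.Blocks.GLTwoThreeCentralizer

/-- The eighth power. -/
def qeighth (p : Qd) : Qd :=
  qmul (qmul (qmul p p) (qmul p p)) (qmul (qmul p p) (qmul p p))

/-- The commutator of an element of order three with an element `q`, with inverse `r`. -/
def qtwist (p q r : Qd) : Qd := qmul p (qmul q (qmul (qmul p p) r))

theorem twist_spec : ∀ p ∈ els, p ≠ qone → qmul p (qmul p p) = qone →
    ∃ q ∈ els, qmul q (qmul q (qmul q q)) = qone ∧ qtwist p q (qmul q (qmul q q)) ≠ qone ∧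
      qeighth (qtwist p q (qmul q (qmul q q))) = qone := by
  decide +kernel

/-- Two elements of order four anticommuting, each a product of two reflections. -/
theorem quat_spec : ∃ a b c d : Qd, a ∈ invs ∧ b ∈ invs ∧ c ∈ invs ∧ d ∈ invs ∧ a ≠ qneg ∧
    b ≠ qneg ∧ c ≠ qneg ∧ d ≠ qneg ∧
    qmul (qmul a b) (qmul a b) = qneg ∧
    qmul (qmul a b) (qmul c d) = qmul qneg (qmul (qmul c d) (qmul a b)) :=
  ⟨(1, 0, 0, 2), (0, 1, 1, 0), (1, 1, 0, 2), (2, 0, 2, 1), by decide +kernel, by decide +kernel,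
    by decide +kernel, by decide +kernel, by decide +kernel, by decide +kernel, by decide +kernel,
    by decide +kernel, by decide +kernel, by decide +kernel⟩

open scoped _root_.Classical ComplexConjugate

/-- A centralizer lying over `GL(2,3)`. -/
structure GLCover {G : Type*} [Group G] (t : G)
    (π : Subgroup.centralizer ({t} : Set G) →* GLT) : Prop where
  order_t : orderOf t = 2
  one_class : ∀ x : G, orderOf x = 2 → IsConj t x
  sylow : Nat.card G % 32 = 16
  surj : Function.Surjective π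
  odd_ker : Odd (Nat.card π.ker)
  fpf : ∃ s : Subgroup.centralizer ({t} : Set G), s * s = 1 ∧ tup (π s) ∈ invs ∧
    tup (π s) ≠ qneg ∧ ∀ o ∈ π.ker, s * o = o * s → o = 1

variable {G : Type*} [Group G] [Finite G] {t : G}
variable {π : Subgroup.centralizer ({t} : Set G) →* GLT}

local notation "CC" => Subgroup.centralizer ({t} : Set G)

/-- The entries of the image. -/
def pt (π : Subgroup.centralizer ({t} : Set G) →* GLT) (x : Subgroup.centralizer ({t} : Set G)) : Qd :=
  tup (π x)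

omit [Finite G] in
theorem pt_mul (x y : CC) : pt π (x * y) = qmul (pt π x) (pt π y) := by
  simp [pt, tup_mul]

omit [Finite G] in
theorem pt_one : pt π 1 = qone := by simp [pt, tup_one]

omit [Finite G] in
theorem pt_mem (x : CC) : pt π x ∈ els := tup_mem _

omit [Finite G] in
theorem pt_eq_iff {x y : CC} : pt π x = pt π y ↔ x⁻¹ * y ∈ π.ker := by
  rw [MonoidHom.mem_ker, map_mul, map_inv, inv_mul_eq_one]
  exact ⟨fun h => tup_injective h, fun h => congrArg tup h⟩

namespace GLCover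

variable (K : GLCover t π)
include K

omit [Finite G] in
theorem exists_pt {p : Qd} (hp : p ∈ els) : ∃ x, pt π x = p := by
  obtain ⟨A, hA⟩ := exists_tup hp
  obtain ⟨x, rfl⟩ := K.surj A
  exact ⟨x, hA⟩

omit [Finite G] in
theorem t_sq : tC t * tC t = 1 := Subtype.ext (by
  show t * t = 1
  rw [← pow_two, ← K.order_t, pow_orderOf_eq_one])

theorem eq_one_of_sq {o : CC} (ho : o ∈ π.ker) (h : o * o = 1) : o = 1 := by
  have hd := orderOf_dvd_natCard (⟨o, ho⟩ : ↥π.ker)
  rw [Subgroup.orderOf_mk] at hd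
  rcases (Nat.dvd_prime Nat.prime_two).1 (orderOf_dvd_of_pow_eq_one (show o ^ 2 = 1 by rw [pow_two]; exact h)) with e | e
  · exact orderOf_eq_one_iff.1 e
  · rw [e] at hd
    exact absurd K.odd_ker (Nat.not_odd_iff_even.2 (even_iff_two_dvd.2 hd))

theorem pt_t : pt π (tC t) = qneg := by
  refine (central_eq _ (pt_mem _) fun q hq => ?_).resolve_left fun h => ?_
  · obtain ⟨x, rfl⟩ := K.exists_pt hq
    rw [← pt_mul, ← pt_mul, tC_commute]
  · have hm : tC t ∈ π.ker := by
      rw [MonoidHom.mem_ker]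
      exact tup_injective (h.trans tup_one.symm)
    exact tC_ne_one K.order_t (K.eq_one_of_sq hm K.t_sq)

omit K in
/-- The odd kernel is abelian and inverted by the given reflection. -/
theorem inverted_base {s : CC} (hs : s * s = 1) (hfix : ∀ o ∈ π.ker, s * o = o * s → o = 1) :
    ∀ o ∈ π.ker, s * o * s = o⁻¹ := by
  set N := π.ker
  have hmem : ∀ o ∈ N, s * o * s ∈ N := fun o ho => by
    have h := (MonoidHom.normal_ker π).conj_mem o ho s
    rwa [inv_eq_of_mul_eq_one_right hs] at h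
  let σ : N → N := fun o => ⟨s * o * s, hmem o o.2⟩
  let f : N → N := fun o => o⁻¹ * σ o
  have hσσ : ∀ o : N, σ (σ o) = o := fun o => Subtype.ext (by
    show s * (s * (o : CC) * s) * s = o
    rw [mul_assoc s (o : CC) s, ← mul_assoc s s, hs, one_mul, mul_assoc, hs, mul_one])
  have hσmul : ∀ a b : N, σ (a * b) = σ a * σ b := fun a b => Subtype.ext (by
    show s * ((a : CC) * b) * s = s * a * s * (s * b * s)
    rw [mul_assoc (s * (a : CC)) s, ← mul_assoc s (s * (b : CC)) s, ← mul_assoc s s, hs, one_mul]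
    simp only [mul_assoc])
  have hinj : Function.Injective f := by
    intro a b hab
    have h1 : σ (b * a⁻¹) = b * a⁻¹ := by
      have h2 : σ (b * a⁻¹) * σ a = σ b := by rw [← hσmul, inv_mul_cancel_right]
      have h3 : σ a = a * b⁻¹ * σ b := by
        have := congrArg (fun x => a * x) hab
        simpa [f, mul_assoc] using this
      rw [h3] at h2
      have h4 := congrArg (fun x => x * (σ b)⁻¹) h2
      simp only [mul_inv_cancel_right, mul_inv_cancel, ← mul_assoc] at h4
      rw [mul_assoc, mul_eq_one_iff_eq_inv, mul_inv_rev, inv_inv] at h4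
      exact h4
    have h5 : (b * a⁻¹ : N) = 1 := Subtype.ext (hfix _ (b * a⁻¹).2 (by
      have h6 := congrArg Subtype.val h1
      change s * ((b * a⁻¹ : N) : CC) * s = _ at h6
      nth_rewrite 2 [← h6]
      rw [mul_assoc (s * _), hs, mul_one]))
    exact (eq_of_mul_inv_eq_one h5).symm
  intro o ho
  obtain ⟨a, ha⟩ := Finite.injective_iff_surjective.1 hinj ⟨o, ho⟩
  have h : σ ⟨o, ho⟩ = (⟨o, ho⟩ : N)⁻¹ := by
    rw [← ha]
    show σ (a⁻¹ * σ a) = (a⁻¹ * σ a)⁻¹
    rw [hσmul, hσσ, mul_inv_rev, inv_inv]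
    congr 1
    exact eq_inv_of_mul_eq_one_left (by
      rw [← hσmul, inv_mul_cancel]
      exact Subtype.ext (by show s * 1 * s = 1; rw [mul_one, hs]))
  exact congrArg Subtype.val h

theorem kernel_comm : ∀ a ∈ π.ker, ∀ b ∈ π.ker, a * b = b * a := by
  obtain ⟨s, hs, -, -, hfix⟩ := K.fpf
  have hinv := inverted_base hs hfix
  intro a ha b hb
  have h := hinv (a * b) (mul_mem ha hb)
  rw [mul_inv_rev, ← hinv a ha, ← hinv b hb] at h
  have h' : s * (a * b) * s = s * (b * a) * s := by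
    rw [h]
    calc s * b * s * (s * a * s) = s * b * (s * s) * a * s := by simp only [mul_assoc]
      _ = _ := by rw [hs, mul_one]; simp only [mul_assoc]
  exact mul_left_cancel (mul_right_cancel h')

/-- Every preimage of a reflection is an involution inverting the kernel. -/
theorem reflection {x : CC} (hx : pt π x ∈ invs) (hne : pt π x ≠ qneg) :
    x * x = 1 ∧ ∀ o ∈ π.ker, x * o * x⁻¹ = o⁻¹ := by
  obtain ⟨s, hs, hsi, hsn, hfix⟩ := K.fpf
  have hinv := inverted_base hs hfix
  have hcomm := K.kernel_comm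
  obtain ⟨-, hstd⟩ : True ∧ ∀ p ∈ invs, p ≠ qneg → ∃ c ∈ els, qmul c (1, 0, 0, 2) = qmul p c :=
    ⟨trivial, fun p hp h => (noncentral_conj p hp).resolve_left h⟩
  obtain ⟨c₁, hc₁, e1⟩ := hstd _ hsi hsn
  obtain ⟨c₂, hc₂, e2⟩ := hstd _ hx hne
  obtain ⟨d₁, rfl⟩ := K.exists_pt hc₁
  obtain ⟨d₂, rfl⟩ := K.exists_pt hc₂
  obtain ⟨r, hr⟩ := K.exists_pt (p := ((1, 0, 0, 2) : Qd)) (Finset.mem_filter.1 reflection_mem.1).1
  change _ = qmul (pt π s) _ at e1
  rw [← hr, ← pt_mul, ← pt_mul, pt_eq_iff] at e1 e2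
  -- `x` is a conjugate of `s` times an element of the kernel
  have hstep : ∀ (d u w : CC), (d * r)⁻¹ * (u * d) ∈ π.ker → (∀ o ∈ π.ker, w * o * w⁻¹ = o⁻¹) →
      (w = r → ∀ o ∈ π.ker, u * o * u⁻¹ = o⁻¹) ∧ (w = u → ∀ o ∈ π.ker, r * o * r⁻¹ = o⁻¹) := by
    intro d u w hk hw
    have hn : ∀ (g : CC) (o : CC), o ∈ π.ker → g * o * g⁻¹ ∈ π.ker :=
      fun g o ho => (MonoidHom.normal_ker π).conj_mem o ho g
    obtain ⟨n, hnK, hu⟩ : ∃ n ∈ π.ker, u = d * r * n * d⁻¹ :=
      ⟨_, hk, by group⟩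
    have hkey : ∀ o ∈ π.ker, u * (d * o * d⁻¹) * u⁻¹ = d * (r * o * r⁻¹) * d⁻¹ := by
      intro o ho
      rw [hu]
      calc _ = d * r * (n * o * n⁻¹) * r⁻¹ * d⁻¹ := by group
        _ = _ := by rw [hcomm n hnK o ho, mul_inv_cancel_right]; group
    constructor <;> intro hwe o ho <;> subst hwe
    · have h := hkey (d⁻¹ * o * d) (by simpa using hn d⁻¹ o ho)
      rw [show d * (d⁻¹ * o * d) * d⁻¹ = o by group, hw _ (by simpa using hn d⁻¹ o ho)] at h
      rw [h]; group
    · have h := hkey o ho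
      rw [hw _ (hn d o ho)] at h
      have : r * o * r⁻¹ = d⁻¹ * (d * o * d⁻¹)⁻¹ * d := by rw [h]; group
      rw [this]; group
  have hsinv : ∀ o ∈ π.ker, s * o * s⁻¹ = o⁻¹ := fun o ho => by
    rw [inv_eq_of_mul_eq_one_right hs]; exact hinv o ho
  have hrinv := (hstep d₁ s s e1 hsinv).2 rfl
  have hxinv := (hstep d₂ x r e2 hrinv).1 rfl
  refine ⟨?_, hxinv⟩
  have hxx : x * x ∈ π.ker := by
    rw [MonoidHom.mem_ker, map_mul]
    refine tup_injective ?_
    rw [tup_mul, tup_one]
    exact (Finset.mem_filter.1 hx).2.2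
  refine K.eq_one_of_sq hxx ?_
  have h := hxinv _ hxx
  rw [show x * (x * x) * x⁻¹ = x * x by group] at h
  nth_rewrite 2 [h]
  rw [mul_inv_cancel]

theorem eq_t_of_qneg {x : CC} (hx : pt π x = qneg) (hx2 : x * x = 1) : x = tC t := by
  rw [← K.pt_t, pt_eq_iff] at hx
  have h := K.eq_one_of_sq hx (by
    have hc : tC t * x⁻¹ = x⁻¹ * tC t := tC_commute x⁻¹
    calc x⁻¹ * tC t * (x⁻¹ * tC t) = x⁻¹ * (tC t * x⁻¹) * tC t := by simp only [mul_assoc]
      _ = (x * x)⁻¹ * (tC t * tC t) := by rw [hc, mul_inv_rev]; simp only [mul_assoc]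
      _ = 1 := by rw [hx2, K.t_sq, inv_one, one_mul])
  exact inv_mul_eq_one.1 h

theorem eq_of_involution {x : CC} (hx : x * x = 1) (h1 : x ≠ 1) :
    pt π x ∈ invs ∧ (pt π x = qneg → x = tC t) := by
  refine ⟨Finset.mem_filter.2 ⟨pt_mem x, fun h => h1 ?_, ?_⟩, fun h => K.eq_t_of_qneg h hx⟩
  · refine K.eq_one_of_sq ?_ hx
    rw [MonoidHom.mem_ker]
    exact tup_injective (h.trans tup_one.symm)
  · rw [← pt_mul, hx, pt_one]

theorem card_fibre {p : Qd} (hp : p ∈ els) [Fintype CC] :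
    (Finset.univ.filter fun x : CC => pt π x = p).card = Nat.card π.ker := by
  obtain ⟨x₀, rfl⟩ := K.exists_pt hp
  rw [← Fintype.card_subtype, ← Nat.card_eq_fintype_card]
  exact Nat.card_congr
    { toFun := fun x => ⟨x₀⁻¹ * x.1, pt_eq_iff.1 x.2.symm⟩
      invFun := fun o => ⟨x₀ * o.1, (pt_eq_iff.2 (by simpa using o.2)).symm⟩
      left_inv := fun x => by simp
      right_inv := fun o => by simp }

theorem sum_pt {M : Type*} [AddCommMonoid M] [Fintype CC] (f : Qd → M) :
    ∑ x : CC, f (pt π x) = Nat.card π.ker • ∑ p ∈ els, f p := by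
  rw [Finset.smul_sum, ← Finset.sum_fiberwise_of_maps_to (g := pt π) (fun x _ => pt_mem x)]
  refine Finset.sum_congr rfl fun p hp => ?_
  rw [Finset.sum_congr rfl (fun x hx => show f (pt π x) = f p by rw [(Finset.mem_filter.1 hx).2]),
    Finset.sum_const, K.card_fibre hp]

theorem card_cent : Nat.card CC = 48 * Nat.card π.ker := by
  have h := π.ker.card_mul_index
  rw [Subgroup.index_ker, MonoidHom.range_eq_top.2 K.surj, Subgroup.card_top, card_GLT] at h
  omega

theorem solvable : Group.IsSolvable CC := by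
  haveI : Group.IsSolvable GLT :=
    CfsgLib.Known.GLFourTwo.isSolvable_of_card_lt_sixty _ GLT rfl (by rw [card_GLT]; norm_num)
  haveI : Group.IsSolvable π.ker := Group.isSolvable_of_comm fun a b => Subtype.ext (K.kernel_comm a a.2 b b.2)
  exact Group.isSolvable_of_ker_le_range π.ker.subtype π (by rw [Subgroup.range_subtype])

/-- The kernel is the largest odd normal subgroup. -/
theorem core_eq : Cfsg.pPrimeCore 2 CC = π.ker := by
  haveI := K.solvable
  refine le_antisymm ?_ (CfsgLib.Core.le_pPrimeCore (Nat.coprime_two_right.2 K.odd_ker))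
  haveI : (Cfsg.pPrimeCore 2 CC).Normal := CfsgLib.Core.normal_pPrimeCore 2 CC
  set N := (Cfsg.pPrimeCore 2 CC).map π with hN
  haveI : N.Normal := Subgroup.Normal.map inferInstance π K.surj
  have hodd : Odd (Nat.card N) := (Nat.coprime_two_right.1
    (CfsgLib.Core.coprime_card_pPrimeCore 2 CC)).of_dvd_nat (Subgroup.card_map_dvd _ _)
  intro x hx
  rw [MonoidHom.mem_ker]
  by_contra hne
  set A := π x
  have hA : A ∈ N := mem_map_of_mem π hx
  have hordodd : ∀ B ∈ N, Odd (orderOf B) := fun B hB =>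
    hodd.of_dvd_nat (Subgroup.orderOf_mk B hB ▸ orderOf_dvd_natCard (⟨B, hB⟩ : N))
  have hA3 : A * (A * A) = 1 := by
    have h3 : orderOf A ∣ 3 := by
      have h48 : orderOf A ∣ Nat.card GLT := orderOf_dvd_natCard A
      rw [card_GLT, show (48 : ℕ) = 16 * 3 by norm_num] at h48
      exact ((Nat.coprime_two_right.2 (hordodd A hA)).pow_right 4).dvd_of_dvd_mul_left h48
    rw [← pow_two, ← pow_succ', ← orderOf_dvd_iff_pow_eq_one]
    exact h3
  obtain ⟨q, hq, hqq, hne', h8⟩ := twist_spec (tup A) (tup_mem _)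
    (fun h => hne (tup_injective (h.trans tup_one.symm)))
    (by rw [← tup_mul, ← tup_mul, hA3, tup_one])
  obtain ⟨B, hB⟩ := exists_tup hq
  have hBB : B * (B * (B * B)) = 1 :=
    tup_injective (by rw [tup_mul, tup_mul, tup_mul, hB, hqq, tup_one])
  have hBi : B⁻¹ = B * (B * B) := inv_eq_of_mul_eq_one_right hBB
  set Cm := A * (B * (A * A * B⁻¹)) with hCm
  have hCN : Cm ∈ N := by
    refine mul_mem hA ?_
    rw [← mul_assoc]
    exact Subgroup.Normal.conj_mem inferInstance (A * A) (mul_mem hA hA) B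
  have hc : tup Cm = qtwist (tup A) q (qmul q (qmul q q)) := by
    rw [qtwist, hCm, hBi, tup_mul, tup_mul, tup_mul, tup_mul, tup_mul, tup_mul, hB]
  have h8' : Cm ^ 2 ^ 3 = 1 := by
    refine tup_injective ?_
    rw [show Cm ^ 2 ^ 3 = (Cm * Cm * (Cm * Cm)) * (Cm * Cm * (Cm * Cm)) by
      simp only [← pow_two, ← pow_mul]; norm_num, tup_mul, tup_mul, tup_mul, hc, tup_one]
    exact h8
  have h1 : orderOf Cm = 1 :=
    Nat.eq_one_of_dvd_coprimes ((Nat.coprime_two_right.2 (hordodd Cm hCN)).pow_right 3)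
      dvd_rfl (orderOf_dvd_of_pow_eq_one h8')
  rw [orderOf_eq_one_iff.1 h1, tup_one] at hc
  exact hne' hc.symm

end GLCover

end CfsgLib.Perm.SuborbitThree
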