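import Cfsg.Agent.Lib.Perm.SuborbitThree.CoreOrder
import Mathlib.LinearAlgebra.Eigenspace.Triangularizable
import Mathlib.LinearAlgebra.Trace

/-!
The kernel over `GL(2,3)` is trivial: a character of degree ten or twelve would leave no room for it.
-/

set_option autoImplicit false
set_option linter.style.haveILetI false
set_option quotPrecheck false

namespace CfsgLib.Perm.SuborbitThree

open Cfsg Subgroup CfsgLib.Blocks.GLTwoThreeCentralizer CfsgLib.Char CfsgLib.CharIntegral
open scoped _root_.Classical ComplexConjugate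

/-- The arithmetic of the two triple sums with an unknown odd cofactor. -/
theorem cover_arith {N o3 : ℕ} {P U : ℤ} (hP : P ≠ 0) (hS : -1 - P ≠ 0) (hU : U ≠ 0)
    (hZ : 1 - U ≠ 0) (h16 : N % 32 = 16) (ho : Odd o3)
    (hA : (1 : ℚ) + 4 / ((-1 - P : ℤ) : ℚ) + 9 / (P : ℚ) = 4608 * (o3 : ℚ) / (N : ℚ))
    (hW : 9 / (P : ℚ) + 4 / ((-1 - P : ℤ) : ℚ) + 9 / (U : ℚ) + 16 / ((1 - U : ℤ) : ℚ) =
      -(4608 * (o3 : ℚ) / (N : ℚ))) :
    P = -11 ∧ U = 45 ∨ P = -27 ∧ U = 13 := by
  have hN : (N : ℚ) ≠ 0 := Nat.cast_ne_zero.2 (by omega)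
  have hPq : (P : ℚ) ≠ 0 := Int.cast_ne_zero.2 hP
  have hSq : ((-1 - P : ℤ) : ℚ) ≠ 0 := Int.cast_ne_zero.2 hS
  have hUq : (U : ℚ) ≠ 0 := Int.cast_ne_zero.2 hU
  have hZq : ((1 - U : ℤ) : ℚ) ≠ 0 := Int.cast_ne_zero.2 hZ
  have e1 : (N : ℤ) * (P + 3) ^ 2 = 4608 * o3 * P * (P + 1) := by
    have h := hA
    field_simp at h
    push_cast at h
    have : (N : ℚ) * ((P : ℚ) + 3) ^ 2 = 4608 * o3 * P * (P + 1) := by linear_combination -h
    exact_mod_cast this
  have e2 : (U + 3) ^ 2 * (P * (P + 1)) = 2 * (P + 3) ^ 2 * (U * (U - 1)) := by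
    have h : 9 / (U : ℚ) + 16 / ((1 - U : ℤ) : ℚ) - 1 =
        -2 * (1 + 4 / ((-1 - P : ℤ) : ℚ) + 9 / (P : ℚ)) := by linear_combination hW + hA
    field_simp at h
    push_cast at h
    have : ((U : ℚ) + 3) ^ 2 * (P * (P + 1)) = 2 * ((P : ℚ) + 3) ^ 2 * (U * (U - 1)) := by
      linear_combination -h
    exact_mod_cast this
  obtain ⟨n, hn, hno⟩ : ∃ n : ℕ, N = 16 * n ∧ Odd n :=
    ⟨N / 16, by omega, Nat.odd_iff.2 (by omega)⟩
  have hnz : Odd (n : ℤ) := by exact_mod_cast hno
  have hoz : Odd (o3 : ℤ) := by exact_mod_cast ho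
  have e3 : (n : ℤ) * (P + 3) ^ 2 = 288 * o3 * P * (P + 1) := by
    have h : (16 : ℤ) * ((n : ℤ) * (P + 3) ^ 2) = 16 * (288 * o3 * P * (P + 1)) := by
      rw [hn] at e1; push_cast at e1; linear_combination e1
    linarith
  have hev : ∀ x : ℤ, Even ((n : ℤ) * x ^ 2) → Even x := fun x hx => by
    rcases Int.even_mul.1 hx with h | h
    · exact absurd hnz (Int.not_odd_iff_even.2 h)
    · exact (Int.even_pow.1 h).1
  obtain ⟨a, ha⟩ := hev (P + 3) ⟨144 * o3 * P * (P + 1), by rw [e3]; ring⟩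
  have hP1 : P = 2 * a - 3 := by omega
  subst hP1
  have e4 : (n : ℤ) * a ^ 2 = 144 * o3 * (2 * a - 3) * (a - 1) := by linarith
  obtain ⟨b, hb⟩ := hev a ⟨72 * o3 * (2 * a - 3) * (a - 1), by rw [e4]; ring⟩
  have hb1 : a = 2 * b := by omega
  subst hb1
  have e5 : (n : ℤ) * b ^ 2 = 36 * o3 * (4 * b - 3) * (2 * b - 1) := by linarith
  obtain ⟨u, hu⟩ := hev b ⟨18 * o3 * (4 * b - 3) * (2 * b - 1), by rw [e5]; ring⟩
  have hu1 : b = 2 * u := by omega
  subst hu1
  have e6 : (n : ℤ) * u ^ 2 = 9 * o3 * (8 * u - 3) * (4 * u - 1) := by linarith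
  have huodd : Odd u := by
    by_contra h
    have hodd : Odd ((n : ℤ) * u ^ 2) := by
      rw [e6]
      exact ((show Odd (9 : ℤ) by decide).mul hoz).mul ⟨4 * u - 2, by ring⟩ |>.mul ⟨2 * u - 1, by ring⟩
    exact h (Int.odd_pow.1 (Int.odd_mul.1 hodd).2 |>.resolve_right (by norm_num))
  have hbranch : (U * (8 * u - 1) + (8 * u - 3)) * (U * (8 * u + 6) - 9 * (8 * u - 2)) = 0 := by
    linear_combination -e2
  rcases mul_eq_zero.1 hbranch with h | h
  · exfalso
    have hd : (8 * u - 1) ∣ (2 : ℤ) := ⟨U + 1, by linear_combination -h⟩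
    have h1 := Int.le_of_dvd (by norm_num) hd
    have h2 := Int.le_of_dvd (by norm_num) ((Int.neg_dvd).2 hd)
    obtain ⟨k, hk⟩ := huodd
    omega
  · have hd : (8 * u + 6) ∣ (72 : ℤ) := ⟨9 - U, by linear_combination h⟩
    have h1 := Int.le_of_dvd (by norm_num) hd
    have h2 := Int.le_of_dvd (by norm_num) ((Int.neg_dvd).2 hd)
    obtain ⟨k, hk⟩ := huodd
    have h3 : -5 ≤ k := by omega
    have h4 : k ≤ 4 := by omega
    subst hk
    interval_cases k <;> omega

section Operators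

variable {V : Type*} [AddCommGroup V] [Module ℂ V] [FiniteDimensional ℂ V]

/-- Two anticommuting invertible operators live on an even dimension. -/
theorem even_finrank_of_anticomm (A B : Module.End ℂ V) (hA : IsUnit A) (hB : IsUnit B)
    (h : A * B = -(B * A)) : Even (Module.finrank ℂ V) := by
  have hd := congrArg LinearMap.det h
  have hA0 := (hA.map LinearMap.det).ne_zero
  have hB0 := (hB.map LinearMap.det).ne_zero
  rw [← neg_one_smul ℂ (B * A), LinearMap.det_smul, map_mul, map_mul, mul_comm (LinearMap.det B)] at hd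
  have h1 : (-1 : ℂ) ^ Module.finrank ℂ V = 1 :=
    mul_right_cancel₀ (mul_ne_zero hA0 hB0) (by rw [one_mul]; exact hd.symm)
  exact (neg_one_pow_eq_one_iff_even (by norm_num : (-1 : ℂ) ≠ 1)).1 h1

/-- In dimension two the only operators commuting with two such are scalars. -/
theorem scalar_of_anticomm (A B T : Module.End ℂ V) (hA : IsUnit A) (hB : IsUnit B)
    (h : A * B = -(B * A)) (h2 : Module.finrank ℂ V = 2) (hTA : T * A = A * T) (hTB : T * B = B * T) :
    ∃ μ : ℂ, ∀ y, T y = μ • y := by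
  haveI : Nontrivial V := Module.nontrivial_of_finrank_pos (R := ℂ) (by omega)
  obtain ⟨μ, hμ⟩ := Module.End.exists_eigenvalue T
  set E := Module.End.eigenspace T μ
  have hinv : ∀ X : Module.End ℂ V, T * X = X * T → ∀ y ∈ E, X y ∈ E := fun X hX y hy => by
    rw [Module.End.mem_eigenspace_iff] at hy ⊢
    rw [show T (X y) = X (T y) from LinearMap.congr_fun hX y, hy, map_smul]
  set A' := A.restrict (hinv A hTA)
  set B' := B.restrict (hinv B hTB)
  have hi : ∀ (X : Module.End ℂ V) (hX : T * X = X * T), IsUnit X → IsUnit (X.restrict (hinv X hX)) := by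
    intro X hX hu
    rw [Module.End.isUnit_iff] at hu ⊢
    have hinj : Function.Injective (X.restrict (hinv X hX)) := fun a b hab =>
      Subtype.ext (hu.1 (congrArg Subtype.val hab))
    exact ⟨hinj, LinearMap.injective_iff_surjective.1 hinj⟩
  have he := even_finrank_of_anticomm A' B' (hi A hTA hA) (hi B hTB hB) (LinearMap.ext fun y => Subtype.ext (by
    show A (B y) = -(B (A y))
    exact LinearMap.congr_fun h (y : V)))
  have hpos : 0 < Module.finrank ℂ E := by
    haveI : Nontrivial E := Submodule.nontrivial_iff_ne_bot.2 hμ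
    exact Module.finrank_pos
  have hle := Submodule.finrank_le E
  obtain ⟨k, hk⟩ := he
  have htop : E = ⊤ := Submodule.eq_top_of_finrank_eq (by omega)
  exact ⟨μ, fun y => Module.End.mem_eigenspace_iff.1 (htop ▸ Submodule.mem_top : y ∈ E)⟩

/-- The trace of an idempotent is the dimension of its range. -/
theorem trace_idem (E : Module.End ℂ V) (h : E * E = E) :
    LinearMap.trace ℂ V E = (Module.finrank ℂ (LinearMap.range E) : ℂ) :=
  LinearMap.IsProj.trace ⟨fun x => LinearMap.mem_range_self E x, fun x ⟨y, hy⟩ => by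
    rw [← hy]; exact LinearMap.congr_fun h y⟩

theorem eq_zero_of_trace_idem (E : Module.End ℂ V) (h : E * E = E)
    (h0 : LinearMap.trace ℂ V E = 0) : E = 0 := by
  rw [trace_idem E h, Nat.cast_eq_zero, Submodule.finrank_eq_zero, LinearMap.range_eq_bot] at h0
  exact h0

end Operators

variable {G : Type*} [Group G] [Fintype G] {t : G}
variable {π : Subgroup.centralizer ({t} : Set G) →* GLT}

local notation "CC" => Subgroup.centralizer ({t} : Set G)

namespace GLCover

variable (K : GLCover t π)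
include K

/-- A small character with constant values on the coset forces constant means. -/
theorem const_of_small [IsSimpleGroup G] (hne : π.ker ≠ ⊥) {x : ℕ} (hx : x ≠ 0)
    (χ : Cfsg.IrrCharacter G) (hdeg : (χ : G → ℂ) 1 = ((x + 8 : ℕ) : ℂ))
    (hχt : (χ : G → ℂ) t = (x : ℂ))
    (hcoset : ∀ o : π.ker, (χ : G → ℂ) (t * ((o : CC) : G)) = (χ : G → ℂ) t) (c : CC) :
    ∑ o : π.ker, (χ : G → ℂ) ((c * (o : CC) : CC) : G) = (Nat.card π.ker : ℂ) * (x : ℂ) := by
  obtain ⟨f, ρ, hρirr, hρ⟩ := χ.2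
  have hχ : ∀ g, (χ : G → ℂ) g = LinearMap.trace ℂ (Fin f → ℂ) (ρ g) := fun g => (congrFun hρ g).symm
  have hf : f = x + 8 := by
    have h := hχ 1
    rw [hdeg, map_one, LinearMap.trace_one, Module.finrank_fin_fun] at h
    exact_mod_cast h.symm
  have h0 := (kerCast_ne (π := π))
  -- the representation is faithful
  have hfaith : ∀ g, ρ g = 1 → g = 1 := by
    rcases IsSimpleGroup.eq_bot_or_eq_top_of_normal ρ.ker inferInstance with h | h
    · exact fun g hg => mem_bot.1 (h ▸ (MonoidHom.mem_ker.2 hg))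
    · exfalso
      have h1 : ρ t = 1 := MonoidHom.mem_ker.1 (h ▸ mem_top t)
      have h2 := hχ t
      rw [hχt, h1, LinearMap.trace_one, Module.finrank_fin_fun, hf] at h2
      have : x = x + 8 := by exact_mod_cast h2
      omega
  set σ : CC →* Module.End ℂ (Fin f → ℂ) := ρ.comp (Subgroup.subtype _)
  have hσtr : ∀ d : CC, LinearMap.trace ℂ (Fin f → ℂ) (σ d) = (χ : G → ℂ) (d : G) := fun d => (hχ _).symm
  set E : Module.End ℂ (Fin f → ℂ) := (Nat.card π.ker : ℂ)⁻¹ • ∑ o : π.ker, σ (o : CC) with hE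
  have hEfix : ∀ o : π.ker, σ (o : CC) * E = E := by
    intro o
    rw [hE, mul_smul_comm, Finset.mul_sum]
    congr 1
    exact Fintype.sum_equiv (Equiv.mulLeft o) _ _ fun p => by simp [map_mul]
  have hEE : E * E = E := by
    nth_rewrite 1 [hE]
    rw [smul_mul_assoc, Finset.sum_mul, Finset.sum_congr rfl fun o _ => hEfix o, Finset.sum_const,
      Finset.card_univ, ← Nat.card_eq_fintype_card, ← Nat.cast_smul_eq_nsmul ℂ, smul_smul,
      inv_mul_cancel₀ h0, one_smul]
  have hcomm : ∀ d : CC, σ d * E = E * σ d := by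
    intro d
    rw [hE, mul_smul_comm, smul_mul_assoc, Finset.mul_sum, Finset.sum_mul]
    congr 1
    refine Fintype.sum_equiv
      ((MulAut.conjNormal d : MulAut π.ker)).toEquiv _ _ fun o => ?_
    rw [← map_mul, ← map_mul]
    congr 1
    show d * (o : CC) = ((MulAut.conjNormal d o : π.ker) : CC) * d
    rw [MulAut.conjNormal_apply, inv_mul_cancel_right]
  have htrE : ∀ d : CC, LinearMap.trace ℂ (Fin f → ℂ) (σ d * E) =
      (Nat.card π.ker : ℂ)⁻¹ * ∑ o : π.ker, (χ : G → ℂ) ((d * (o : CC) : CC) : G) := by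
    intro d
    rw [hE, mul_smul_comm, map_smul, Finset.mul_sum, map_sum, smul_eq_mul]
    congr 1
    exact Finset.sum_congr rfl fun o _ => by rw [← map_mul, hσtr]
  have hconst : ∀ d : CC, (∀ o : π.ker, (χ : G → ℂ) ((d * (o : CC) : CC) : G) = (x : ℂ)) →
      LinearMap.trace ℂ (Fin f → ℂ) (σ d * E) = (x : ℂ) := by
    intro d hd
    rw [htrE, Finset.sum_congr rfl fun o _ => hd o, Finset.sum_const, Finset.card_univ,
      ← Nat.card_eq_fintype_card, nsmul_eq_mul, ← mul_assoc, inv_mul_cancel₀ h0, one_mul]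
  set w := Module.finrank ℂ (LinearMap.range E)
  have hw : LinearMap.trace ℂ (Fin f → ℂ) E = (w : ℂ) := trace_idem E hEE
  have hsq : ∀ {r : CC}, r * r = 1 → σ r * σ r = 1 := fun {r} hr => by rw [← map_mul, hr, map_one]
  have htE : LinearMap.trace ℂ (Fin f → ℂ) (σ (tC t) * E) = (x : ℂ) :=
    hconst _ fun o => by rw [← hχt, ← hcoset o]; rfl
  have hR2 := hsq K.t_sq
  set R := σ (tC t)
  -- the minus part of the complement
  set Q : Module.End ℂ (Fin f → ℂ) := (2⁻¹ : ℂ) • ((1 - R) * (1 - E)) with hQ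
  have hQcomm : ∀ d : CC, σ d * Q = Q * σ d := by
    intro d
    have h1 : σ d * R = R * σ d := by rw [← map_mul, ← map_mul, tC_commute]
    rw [hQ, mul_smul_comm, smul_mul_assoc]
    congr 1
    have h2 : σ d * (1 - R) = (1 - R) * σ d := by rw [mul_sub, sub_mul, h1, mul_one, one_mul]
    have h3 : σ d * (1 - E) = (1 - E) * σ d := by rw [mul_sub, sub_mul, hcomm d, mul_one, one_mul]
    rw [← mul_assoc, h2, mul_assoc, h3, mul_assoc]
  have hQQ : Q * Q = Q := by
    have hm : (1 - R) * (1 - R) = (2 : ℂ) • (1 - R) := by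
      rw [two_smul, sub_mul, one_mul, mul_sub, mul_one, hR2]; abel
    have hn : (1 - E) * (1 - E) = 1 - E := by
      rw [sub_mul, one_mul, mul_sub, mul_one, hEE]; abel
    have hswap : (1 - E) * (1 - R) = (1 - R) * (1 - E) := by
      rw [sub_mul, sub_mul, one_mul, one_mul, mul_sub, mul_sub, mul_one, mul_one, hcomm (tC t)]; abel
    rw [hQ, smul_mul_smul_comm, mul_assoc, ← mul_assoc (1 - E), hswap, mul_assoc (1 - R) (1 - E), hn,
      ← mul_assoc, hm, smul_mul_assoc, smul_smul]
    norm_num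
  have hQtr : LinearMap.trace ℂ (Fin f → ℂ) Q = ((f : ℂ) - w) / 2 := by
    rw [hQ, map_smul, sub_mul, one_mul, mul_sub, mul_one, map_sub, map_sub, map_sub, LinearMap.trace_one,
      Module.finrank_fin_fun, hw, htE, hσtr, show ((tC t : CC) : G) = t from rfl, hχt, smul_eq_mul]
    ring
  set Y := LinearMap.range Q with hY
  have hQy : ∀ y ∈ Y, Q y = y := by
    rintro _ ⟨y, rfl⟩
    exact LinearMap.congr_fun hQQ y
  have hYdim : ((f : ℂ) - w) / 2 = (Module.finrank ℂ Y : ℂ) := hQtr.symm.trans (trace_idem Q hQQ)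
  have hinv : ∀ d : CC, ∀ y ∈ Y, σ d y ∈ Y := fun d y hy =>
    ⟨σ d y, by
      have h := LinearMap.congr_fun (hQcomm d) y
      rw [Module.End.mul_apply, Module.End.mul_apply, hQy y hy] at h
      exact h.symm⟩
  have hE0 : ∀ y ∈ Y, E y = 0 := by
    intro y hy
    have h : E * Q = 0 := by
      have h2 : E * (1 - R) = (1 - R) * E := by rw [mul_sub, sub_mul, ← hcomm (tC t), mul_one, one_mul]
      rw [hQ, mul_smul_comm, ← mul_assoc, h2, mul_assoc, mul_sub E, mul_one, hEE, sub_self, mul_zero,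
        smul_zero]
    rw [← hQy y hy, ← Module.End.mul_apply, h, LinearMap.zero_apply]
  have hRy : ∀ y ∈ Y, R y = -y := by
    intro y hy
    have h : R * Q = -Q := by
      have h2 : R * (1 - R) = -(1 - R) := by rw [mul_sub, mul_one, hR2]; abel
      rw [hQ, mul_smul_comm, ← mul_assoc, h2]
      exact LinearMap.ext fun y => by simp only [LinearMap.smul_apply, Module.End.mul_apply, LinearMap.neg_apply, smul_neg]
    rw [← hQy y hy, ← Module.End.mul_apply, h, LinearMap.neg_apply]
  set τ : CC →* Module.End ℂ Y :=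
    { toFun := fun d => (σ d).restrict (hinv d)
      map_one' := LinearMap.ext fun y => Subtype.ext (by show σ 1 (y : Fin f → ℂ) = y; rw [map_one]; rfl)
      map_mul' := fun a b => LinearMap.ext fun y => Subtype.ext (by
        show σ (a * b) (y : Fin f → ℂ) = σ a (σ b y)
        rw [map_mul]; rfl) }
  have hτt : τ (tC t) = -1 := LinearMap.ext fun y => Subtype.ext (hRy y y.2)
  have hYne : Module.finrank ℂ Y ≠ 0 := by
    intro h
    rw [h, Nat.cast_zero, div_eq_zero_iff, sub_eq_zero] at hYdim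
    have hwf : f = w := by
      rcases hYdim with h' | h'
      · exact_mod_cast h'
      · norm_num at h'
    have h1E : (1 : Module.End ℂ (Fin f → ℂ)) - E = 0 := eq_zero_of_trace_idem _
      (by rw [sub_mul, one_mul, mul_sub, mul_one, hEE]; abel)
      (by rw [map_sub, LinearMap.trace_one, Module.finrank_fin_fun, hw, hwf, sub_self])
    refine hne ((Subgroup.eq_bot_iff_forall _).2 fun o ho => ?_)
    have hfix := hEfix ⟨o, ho⟩
    rw [← sub_eq_zero.1 h1E, mul_one] at hfix
    exact Subtype.ext (hfaith _ hfix)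
  -- two anticommuting operators
  obtain ⟨qa, qb, qc, qd, ha, hb, hc', hd, ha', hb', hc'', hd', hsqab, hq⟩ := quat_spec
  obtain ⟨a, rfl⟩ := K.exists_pt (Finset.mem_filter.1 ha).1
  obtain ⟨b, rfl⟩ := K.exists_pt (Finset.mem_filter.1 hb).1
  obtain ⟨c₀, rfl⟩ := K.exists_pt (Finset.mem_filter.1 hc').1
  obtain ⟨d, rfl⟩ := K.exists_pt (Finset.mem_filter.1 hd).1
  obtain ⟨hai, hainv⟩ := K.reflection ha ha'
  obtain ⟨hbi, hbinv⟩ := K.reflection hb hb'
  obtain ⟨hci, hcinv⟩ := K.reflection hc' hc''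
  obtain ⟨hdi, hdinv⟩ := K.reflection hd hd'
  have hcen : ∀ u v : CC, (∀ o ∈ π.ker, u * o * u⁻¹ = o⁻¹) → (∀ o ∈ π.ker, v * o * v⁻¹ = o⁻¹) →
      ∀ o ∈ π.ker, o * (u * v) = u * v * o := by
    intro u v hu hv o ho
    have h : u * v * o * (u * v)⁻¹ = o := by
      calc _ = u * (v * o * v⁻¹) * u⁻¹ := by group
        _ = o := by rw [hv o ho, hu _ (inv_mem ho), inv_inv]
    nth_rewrite 1 [← h]
    rw [inv_mul_cancel_right]
  have hab : (a * b) * (c₀ * d) = tC t * ((c₀ * d) * (a * b)) := by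
    set X := a * b with hX
    set W := c₀ * d with hW
    obtain ⟨e, he, hXW⟩ : ∃ e ∈ π.ker, X * W = tC t * (W * X) * e := by
      refine ⟨(tC t * (W * X))⁻¹ * (X * W), pt_eq_iff.1 ?_, by group⟩
      rw [hX, hW]
      simp only [pt_mul, K.pt_t]
      exact hq.symm
    obtain ⟨o₁, ho₁, hXX⟩ : ∃ o₁ ∈ π.ker, X * X = tC t * o₁ :=
      ⟨(tC t)⁻¹ * (X * X), pt_eq_iff.1 (by rw [hX]; simp only [pt_mul, K.pt_t]; exact hsqab.symm), by group⟩
    have hXe := hcen a b hainv hbinv
    have hWe := hcen c₀ d hcinv hdinv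
    have h1 : X * X * W = W * (X * X) * (e * e) :=
      calc X * X * W = X * (tC t * (W * X) * e) := by rw [mul_assoc, hXW]
        _ = tC t * (X * W) * (X * e) := by
          rw [← mul_assoc X, ← mul_assoc X, ← tC_commute X]; simp only [mul_assoc]
        _ = (tC t * tC t) * (W * X) * (e * X * e) := by rw [hXW]; simp only [mul_assoc]
        _ = W * (X * X) * (e * e) := by rw [hX, hXe e he, K.t_sq, one_mul]; simp only [mul_assoc]
    have h2 : W * (X * X) = X * X * W := by
      rw [hXX, ← mul_assoc, ← tC_commute W, mul_assoc, ← hWe o₁ ho₁, ← mul_assoc]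
    rw [← h2] at h1
    have h3 : e = 1 := K.eq_one_of_sq he (mul_eq_left.1 h1.symm)
    rw [hXW, h3, mul_one]
  set A := τ (a * b)
  set B := τ (c₀ * d)
  have hAB : A * B = -(B * A) := by
    rw [← map_mul, hab, map_mul, hτt, map_mul]
    exact LinearMap.ext fun y => by simp only [Module.End.mul_apply, LinearMap.neg_apply, Module.End.one_apply, A, B]
  have hAo : ∀ o ∈ π.ker, τ o * A = A * τ o := fun o ho => by
    rw [← map_mul, ← map_mul, hcen a b hainv hbinv o ho]
  have hBo : ∀ o ∈ π.ker, τ o * B = B * τ o := fun o ho => by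
    rw [← map_mul, ← map_mul, hcen c₀ d hcinv hdinv o ho]
  have hunit : ∀ u : CC, IsUnit (τ u) := fun u => (Group.isUnit u).map τ
  have hfourab : ∀ o ∈ π.ker, τ o * τ o = 1 → τ o = 1 := by
    intro o ho h2
    have hn : τ o ^ Nat.card π.ker = 1 := by
      rw [← map_pow, show o ^ Nat.card π.ker = 1 from
        congrArg Subtype.val (pow_card_eq_one' (x := (⟨o, ho⟩ : π.ker))), map_one]
    obtain ⟨m, hm⟩ := K.odd_ker
    rw [hm, pow_succ, pow_mul, pow_two, h2, one_pow, one_mul] at hn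
    exact hn
  have hw_le : w ≤ x := by
    have hYnat : f = w + 2 * Module.finrank ℂ Y := by
      have h2 : (f : ℂ) = ((w + 2 * Module.finrank ℂ Y : ℕ) : ℂ) := by
        push_cast; linear_combination 2 * hYdim
      exact_mod_cast h2
    by_contra hlt
    obtain ⟨k, hk⟩ := even_finrank_of_anticomm A B (hunit _) (hunit _) hAB
    have hY2 : Module.finrank ℂ Y = 2 := by omega
    have htriv : ∀ o ∈ π.ker, τ o = 1 := by
      intro o ho
      obtain ⟨μ, hμ⟩ := scalar_of_anticomm A B (τ o) (hunit _) (hunit _)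
        hAB hY2 (hAo o ho) (hBo o ho)
      have h1 : τ a * τ o = τ o * τ a := LinearMap.ext fun y => by
        show τ a (τ o y) = τ o (τ a y)
        rw [hμ, hμ, map_smul]
      refine hfourab o ho ?_
      have h2 : τ (a * o * a⁻¹) = τ o := by
        rw [map_mul, map_mul, h1, mul_assoc, ← map_mul τ a, mul_inv_cancel, map_one, mul_one]
      rw [hainv o ho] at h2
      calc τ o * τ o = τ o * τ o⁻¹ := by rw [h2]
        _ = 1 := by rw [← map_mul, mul_inv_cancel, map_one]
    have hYbot : Y = ⊥ := by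
      rw [Submodule.eq_bot_iff]
      intro y hy
      have h := hE0 y hy
      rw [hE, LinearMap.smul_apply, LinearMap.sum_apply, Finset.sum_congr rfl fun (o : π.ker) _ => show
          σ (o : CC) y = y from congrArg Subtype.val (LinearMap.congr_fun (htriv o o.2) ⟨y, hy⟩),
        Finset.sum_const, Finset.card_univ, ← Nat.card_eq_fintype_card, ← Nat.cast_smul_eq_nsmul ℂ,
        smul_smul, inv_mul_cancel₀ h0, one_smul] at h
      exact h
    rw [hYbot, finrank_bot] at hY2
    omega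
  -- every reflection fixes the image
  have hfixr : ∀ r : CC, r * r = 1 →
      (∀ o : π.ker, (χ : G → ℂ) ((r * (o : CC) : CC) : G) = (x : ℂ)) → σ r * E = E := by
    intro r hr hv
    have hR := hsq hr
    set S : Module.End ℂ (Fin f → ℂ) := (2⁻¹ : ℂ) • ((1 - σ r) * E) with hS
    have hSS : S * S = S := by
      have hm : (1 - σ r) * (1 - σ r) = (2 : ℂ) • (1 - σ r) := by
        rw [two_smul, sub_mul, one_mul, mul_sub, mul_one, hR]; abel
      have hswap : E * (1 - σ r) = (1 - σ r) * E := by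
        rw [mul_sub, sub_mul, mul_one, one_mul, hcomm r]
      rw [hS, smul_mul_smul_comm, mul_assoc, ← mul_assoc E, hswap, mul_assoc (1 - σ r) E, hEE,
        ← mul_assoc, hm, smul_mul_assoc, smul_smul]
      norm_num
    have hStr : LinearMap.trace ℂ (Fin f → ℂ) S = ((w : ℂ) - x) / 2 := by
      rw [hS, map_smul, sub_mul, one_mul, map_sub, hw, hconst r hv, smul_eq_mul]; ring
    rw [trace_idem S hSS] at hStr
    have hS0 : S = 0 := by
      refine eq_zero_of_trace_idem S hSS ?_
      rw [trace_idem S hSS]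
      have h2 : ((2 * Module.finrank ℂ (LinearMap.range S) + x : ℕ) : ℂ) = (w : ℂ) := by
        push_cast; linear_combination 2 * hStr
      have h3 : 2 * Module.finrank ℂ (LinearMap.range S) + x = w := by exact_mod_cast h2
      norm_cast
      omega
    rw [hS, smul_eq_zero_iff_right (by norm_num), sub_mul, one_mul, sub_eq_zero] at hS0
    exact hS0.symm
  have hrefl : ∀ r : CC, pt π r ∈ invs → pt π r ≠ qneg → σ r * E = E := by
    intro r hr hne'
    refine hfixr r (K.reflection hr hne').1 fun o => ?_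
    have hro : pt π (r * (o : CC)) = pt π r := (pt_eq_iff.2 (by simp)).symm
    have h2 := (K.reflection (hro.symm ▸ hr) (hro.symm ▸ hne')).1
    have h1 : r * (o : CC) ≠ 1 := fun e' => by
      rw [e', pt_one] at hro
      exact (Finset.mem_filter.1 hr).2.1 hro.symm
    have ho : orderOf ((r * (o : CC) : CC) : G) = 2 := by
      rw [Subgroup.orderOf_coe]
      exact orderOf_eq_prime (by rwa [pow_two]) h1
    obtain ⟨g, hg⟩ := isConj_iff.1 (K.one_class _ ho)
    rw [← hg, Char.IsIrr.isClassFunction χ.2, hχt]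
  have hTfix : σ (tC t) * E = E := hfixr _ K.t_sq fun o => by rw [← hχt, ← hcoset o]; rfl
  have hinvfix : ∀ u : CC, pt π u ∈ invs → σ u * E = E := by
    intro u hu
    by_cases hz : pt π u = qneg
    · obtain ⟨o, ho, rfl⟩ : ∃ o ∈ π.ker, u = tC t * o :=
        ⟨(tC t)⁻¹ * u, pt_eq_iff.1 (K.pt_t.trans hz.symm), by group⟩
      rw [map_mul, mul_assoc, hEfix ⟨o, ho⟩, hTfix]
    · exact hrefl u hu hz
  have hall : σ c * E = E := by
    obtain ⟨p, q, hp, hq', hpq⟩ := exists_els_product (pt_mem (π := π) c)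
    obtain ⟨a₁, b₁, ha₁, hb₁, hp'⟩ := exists_invProd hp
    obtain ⟨a₂, b₂, ha₂, hb₂, hq''⟩ := exists_invProd hq'
    obtain ⟨u₁, rfl⟩ := K.exists_pt (Finset.mem_filter.1 ha₁).1
    obtain ⟨v₁, rfl⟩ := K.exists_pt (Finset.mem_filter.1 hb₁).1
    obtain ⟨u₂, rfl⟩ := K.exists_pt (Finset.mem_filter.1 ha₂).1
    obtain ⟨v₂, rfl⟩ := K.exists_pt (Finset.mem_filter.1 hb₂).1
    rw [← hp', ← hq'', ← pt_mul, ← pt_mul, ← pt_mul, pt_eq_iff] at hpq
    have hfac : c = u₁ * v₁ * (u₂ * v₂) * ((u₁ * v₁ * (u₂ * v₂))⁻¹ * c) := by group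
    rw [hfac, map_mul, map_mul, map_mul, map_mul, mul_assoc _ (σ _) E, hEfix ⟨_, hpq⟩, mul_assoc,
      mul_assoc (σ u₂), hinvfix v₂ hb₂, hinvfix u₂ ha₂, mul_assoc, hinvfix v₁ hb₁, hinvfix u₁ ha₁]
  have hwx : w = x := by
    have h := htE
    rw [hTfix, hw] at h
    exact_mod_cast h
  have h := htrE c
  rw [hall, hw, hwx] at h
  rw [h, ← mul_assoc, mul_inv_cancel₀ h0, one_mul]

/-- The kernel is trivial. -/
theorem ker_eq_bot [IsSimpleGroup G] : π.ker = ⊥ := by
  by_contra hne
  have := Fintype.ofFinite (Cfsg.IrrCharacter G)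
  have h0 := (kerCast_ne (π := π))
  have hTI := specialSet_ti (G := G) K.order_t
  have hS := K.lfn_support
  have hcl : ∀ i, Cfsg.IsClassFunction CC (lfn π i) := fun i => IsGen.isClassFunction (isGen_lfn i)
  set F : Fin 5 → G → ℂ := fun i => Cfsg.indFun CC (lfn π i) with hF
  have hgen : ∀ i, Cfsg.IsGeneralizedCharacter G (F i) := fun i => IsGen.indFun (isGen_lfn i)
  choose m hm using fun i => IsGen.exists_sum (hgen i)
  have hdot : ∀ i j, dotZ (m i) (m j) = gram i j := fun i j => by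
    have h := Exceptional.ti_indFun_inner hTI (hS i) (hcl j) (hS j)
    rw [K.inner_lfn i j] at h
    change Cfsg.classInner (F i) (F j) = _ at h
    rw [hm i, hm j, classInner_sum_right] at h
    simp only [classInner_smul_right, classInner_sum_irr, map_intCast] at h
    rw [← Int.cast_inj (α := ℂ), ← h, dotZ]
    push_cast
    exact Finset.sum_congr rfl fun χ _ => mul_comm _ _
  have hcoef : ∀ i χ, ((m i χ : ℤ) : ℂ) =
      Cfsg.classInner (lfn π i) (fun x : CC => (χ : Cfsg.IrrCharacter G).1 x) := fun i χ => by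
    rw [← frobenius_reciprocity CC (lfn π i) (IsIrr.isClassFunction χ.2)]
    change _ = Cfsg.classInner (F i) _
    rw [hm i, classInner_sum_irr]
  have htriv : ∀ i, m i (trivChar G) = means i := fun i => by
    rw [← Int.cast_inj (α := ℂ), hcoef, ← K.inner_lfn_one i]
    rfl
  choose dN hdN0 hdN using fun χ : Cfsg.IrrCharacter G => IsIrr.exists_degree χ.2
  set d : Cfsg.IrrCharacter G → ℤ := fun χ => dN χ with hd
  have hdC : ∀ χ : Cfsg.IrrCharacter G, (χ : G → ℂ) 1 = (d χ : ℂ) := fun χ => by simp [hd, hdN χ]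
  have hzero : ∀ i, ∑ χ, m i χ * d χ = 0 := fun i => by
    have h : F i 1 = 0 := Exceptional.indFun_eq_zero_of_support (hS i) fun y => by
      simp only [mul_one, inv_mul_cancel]
      rintro ⟨k, hk⟩
      rw [one_pow] at hk
      have ht := K.order_t
      rw [← hk, orderOf_one] at ht
      norm_num at ht
    rw [hm i, Finset.sum_apply] at h
    simp only [Pi.smul_apply, smul_eq_mul, hdC] at h
    exact_mod_cast h
  let V : Vecs (Cfsg.IrrCharacter G) (trivChar G) d :=
    { a := m 0, a' := m 1, b := m 2, b' := m 3, w := m 4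
      d0 := fun χ => by simpa [hd] using (hdN0 χ).ne'
      d_o := by
        have h := hdC (trivChar G)
        rw [trivChar_apply] at h
        exact_mod_cast h.symm
      ao := htriv 0, a'o := htriv 1, bo := htriv 2, b'o := htriv 3, wo := htriv 4
      aa := hdot 0 0, aa' := hdot 0 1, ab := hdot 0 2, ab' := hdot 0 3, aw := hdot 0 4
      a'a' := hdot 1 1, a'b := hdot 1 2, a'b' := hdot 1 3, a'w := hdot 1 4
      bb := hdot 2 2, bb' := hdot 2 3, bw := hdot 2 4
      b'b' := hdot 3 3, b'w := hdot 3 4, ww := hdot 4 4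
      za := hzero 0, za' := hzero 1, zb := hzero 2, zb' := hzero 3, zw := hzero 4 }
  have hmean : ∀ χ : Cfsg.IrrCharacter G, cosetMean π (χ : G → ℂ) = (V.col χ : ℂ) := fun χ => by
    have h := K.coef_lfn χ
    rw [Fin.sum_univ_five, ← hcoef 0 χ, ← hcoef 1 χ, ← hcoef 2 χ, ← hcoef 3 χ, ← hcoef 4 χ] at h
    rw [← Complex.conj_conj (cosetMean π (χ : G → ℂ)), ← h]
    simp [coefAt, Vecs.col, V, map_ofNat]
    ring
  obtain ⟨P, U, hP, hS', hU, hZ, hA, hW, hsupp, ⟨j, hj1, hjd, hjc⟩, ⟨z, hz1, hzd, hzc⟩⟩ :=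
    V.triples_data
  have hval : ∀ χ, V.col χ ≠ 0 → (∀ o : π.ker, (χ : G → ℂ) (t * ((o : CC) : G)) = (χ : G → ℂ) t) ∧
      (χ : G → ℂ) t = (V.col χ : ℂ) := fun χ hχ => by
    obtain ⟨h1, h2⟩ := K.apply_coset_of_mean_ne χ (by rw [hmean]; exact_mod_cast hχ)
    exact ⟨h1, by rw [← h2, hmean]⟩
  -- pair sums
  set Kt := classFinset t
  set k : ℕ := (CC).index with hk
  set o := Nat.card π.ker
  have hside : ∀ i, (∀ χ, m i χ ≠ 0 → V.col χ ≠ 0) →
      ∑ x ∈ Kt, ∑ y ∈ Kt, F i (x * y) = (k : ℂ) ^ 2 * ((V.triple (m i) : ℚ) : ℂ) := by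
    intro i hi
    rw [hm i]
    simp only [Finset.sum_apply, Pi.smul_apply, smul_eq_mul]
    simp only [Vecs.triple, Rat.cast_sum, Rat.cast_mul, Rat.cast_div, Rat.cast_pow, Rat.cast_intCast]
    rw [Finset.mul_sum]
    rw [Finset.sum_congr rfl (fun x _ => Finset.sum_comm), Finset.sum_comm]
    refine Finset.sum_congr rfl fun χ _ => ?_
    simp only [← Finset.mul_sum]
    rw [mul_left_comm]
    by_cases h : m i χ = 0
    · simp [h]
    congr 1
    rw [Finset.sum_comm, ← hdC, ← (hval χ (hi χ h)).2]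
    have hy : ∀ y ∈ Kt, ∑ x ∈ Kt, (χ : G → ℂ) (x * y) =
        (k : ℂ) * (χ : G → ℂ) t / (χ : G → ℂ) 1 * (χ : G → ℂ) t := by
      intro y hy
      rw [pair_class_sum χ t y]
      congr 1
      exact (isClassFunction_iff_isConj.1 (IsIrr.isClassFunction χ.2) _ _
        (mem_classFinset.1 hy)).symm
    rw [Finset.sum_congr rfl hy, Finset.sum_const, card_classFinset, nsmul_eq_mul]
    ring
  have hHside : ∀ i, ∑ x ∈ Kt, ∑ y ∈ Kt, F i (x * y) =
      (k : ℂ) * ((o : ℂ) ^ 2 * toC (∑ p ∈ invs, ∑ q ∈ invs, fn i (qmul p q))) := by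
    intro i
    have h := Exceptional.ti_involution_pair_sum hTI specialSet_subset
      (specialSet_inv K.order_t) (hS i) K.order_t K.order_t
    rw [finsum_mem_eq_toFinset_sum, finsum_mem_eq_toFinset_sum] at h
    have e1 : {p : G × G | IsConj t p.1 ∧ IsConj t p.2}.toFinset = Kt ×ˢ Kt := by
      ext p; simp [Kt, mem_classFinset]
    set I := Finset.univ.filter fun x : CC => IsConj t (x : G) with hI
    have e2 : {p : CC × CC | IsConj t (p.1 : G) ∧ IsConj t (p.2 : G)}.toFinset = I ×ˢ I := by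
      ext p; simp [hI]
    rw [e1, e2, Finset.sum_product, Finset.sum_product] at h
    refine h.trans ?_
    congr 1
    exact K.pair_sum i I fun x => by simp [hI]
  have hk0 : (k : ℂ) ≠ 0 := Nat.cast_ne_zero.2 Subgroup.index_ne_zero_of_finite
  have hN : (Nat.card G : ℚ) = 48 * o * k := by
    rw [← (CC).card_mul_index, K.card_cent, hk]; push_cast; ring
  have htriple : ∀ i (M : ℤ), (∀ χ, m i χ ≠ 0 → V.col χ ≠ 0) →
      ∑ p ∈ invs, ∑ q ∈ invs, fn i (qmul p q) = (M : Rt) →
      V.triple (m i) = (48 * M : ℚ) * ((o ^ 3 : ℕ) : ℚ) / (Nat.card G : ℚ) := by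
    intro i M hi hM
    have h := (hside i hi).symm.trans (hHside i)
    rw [hM, map_intCast, sq, mul_assoc] at h
    have h2 : (k : ℚ) * V.triple (m i) = (o : ℚ) ^ 2 * (M : ℚ) := by
      have h3 := mul_left_cancel₀ hk0 h
      exact_mod_cast h3
    have : (k : ℚ) ≠ 0 := Nat.cast_ne_zero.2 Subgroup.index_ne_zero_of_finite
    have ho0 : (o : ℚ) ≠ 0 := Nat.cast_ne_zero.2 Nat.card_pos.ne'
    rw [hN]
    field_simp
    push_cast
    linear_combination (o : ℚ) * h2
  have hcases := cover_arith hP hS' hU hZ K.sylow (K.odd_ker.pow (n := 3))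
    (by rw [← hA, htriple 0 96 (fun χ h => hsupp χ (Or.inl h)) (by rw [fn_pairs_alpha]; rfl)]; push_cast; ring)
    (by rw [← hW, htriple 4 (-96) (fun χ h => hsupp χ (Or.inr h)) (by rw [fn_pairs_omega]; rfl)]
        push_cast; ring)
  -- the small character
  have hfinal : ∀ (χ : Cfsg.IrrCharacter G) (x : ℕ), x ≠ 0 → d χ = ((x + 8 : ℕ) : ℤ) →
      V.col χ = (x : ℤ) → ∀ i, m i χ = means i * x := by
    intro χ x hx hdχ hcolχ i
    obtain ⟨h1, h2⟩ := hval χ (by omega)
    have hχt : (χ : G → ℂ) t = (x : ℂ) := by rw [h2, hcolχ, Int.cast_natCast]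
    have hdeg : (χ : G → ℂ) 1 = ((x + 8 : ℕ) : ℂ) := by rw [hdC, hdχ, Int.cast_natCast]
    have h := K.inner_lfn_const i (x : ℂ) (fun c : CC => (χ : G → ℂ) c)
      (fun c => K.const_of_small hne hx χ hdeg hχt h1 c)
    rw [← hcoef, map_natCast] at h
    exact_mod_cast h
  have hpos : ∀ χ, 0 < d χ := fun χ => by simp [hd, hdN0 χ]
  rcases hcases with ⟨rfl, rfl⟩ | ⟨rfl, rfl⟩
  · have haj : V.a j = 1 := by
      rcases mul_self_eq_one_iff.1 hj1 with h | h
      · exact h
      · rw [h] at hjd; have := hpos j; omega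
    rw [haj] at hjd hjc
    have h := hfinal j 2 (by norm_num) (by push_cast; omega) (by omega) 0
    change V.a j = _ at h
    rw [haj] at h
    simp [means] at h
  · have hwz : V.w z = -1 := by
      rcases mul_self_eq_one_iff.1 hz1 with h | h
      · rw [h] at hzd; have := hpos z; omega
      · exact h
    rw [hwz] at hzd hzc
    have h := hfinal z 4 (by norm_num) (by push_cast; omega) (by omega) 4
    change V.w z = _ at h
    rw [hwz] at h
    simp [means] at h

end GLCover

end CfsgLib.Perm.SuborbitThree
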