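import Mathlib.GroupTheory.Transfer
import Mathlib.GroupTheory.IndexNormal
import Mathlib.GroupTheory.PGroup

/-!
Transfer of an involution centralized by a two-group, read on the cosets the two-group fixes.
-/

set_option autoImplicit false
set_option linter.style.haveILetI false

namespace CfsgLib.Perm.SuborbitThree

open Subgroup MulAction
open scoped _root_.Classical

variable {G : Type*} [Group G] [Finite G]

/-- If, at every coset fixed by the two-group `T ≤ C(u)`, the involution `u` reads `φ u ≠ 1`,
then the transfer of `u` is not one. -/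
theorem transfer_ne_one {A : Type*} [CommGroup A] [Finite A] {P : Subgroup G} (φ : P →* A)
    (hodd : ¬ 2 ∣ P.index) {T : Subgroup G} (hT : IsPGroup 2 T) {u : G} (hu : u * u = 1) (huP : u ∈ P)
    (huT : u ∈ T) (hTu : ∀ t ∈ T, t * u = u * t) (hne : φ ⟨u, huP⟩ ≠ 1)
    (h : ∀ g : G, (∀ t ∈ T, g⁻¹ * t * g ∈ P) → ∀ hg : g⁻¹ * u * g ∈ P, φ ⟨_, hg⟩ = φ ⟨u, huP⟩) :
    MonoidHom.transfer φ u ≠ 1 := by
  classical
  haveI : Fact (Nat.Prime 2) := ⟨Nat.prime_two⟩
  have : Fintype (G ⧸ P) := Fintype.ofFinite _
  have : Fintype (Quotient (MulAction.orbitRel (zpowers u) (G ⧸ P))) := Fintype.ofFinite _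
  -- the value at a coset
  let F : G ⧸ P → A := fun x => if hx : x.out⁻¹ * u * x.out ∈ P then φ ⟨_, hx⟩ else 1
  have hfix : ∀ x : G ⧸ P, u • x = x ↔ x.out⁻¹ * u * x.out ∈ P := by
    intro x
    conv_lhs => rw [← QuotientGroup.out_eq' x, MulAction.Quotient.smul_mk, QuotientGroup.eq]
    rw [smul_eq_mul, ← P.inv_mem_iff]
    constructor <;> intro h' <;> [skip; rw [← P.inv_mem_iff] at h'] <;>
      simpa [mul_assoc, inv_eq_of_mul_eq_one_right hu] using h'
  have hF2 : ∀ x, F x ^ 2 = 1 := by
    intro x
    by_cases hx : x.out⁻¹ * u * x.out ∈ P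
    · simp only [F, dif_pos hx]
      rw [← map_pow]
      refine (congrArg φ (Subtype.ext ?_)).trans (map_one φ)
      show ((⟨_, hx⟩ : P) ^ 2 : P).1 = 1
      rw [SubmonoidClass.coe_pow, pow_two]
      calc x.out⁻¹ * u * x.out * (x.out⁻¹ * u * x.out) = x.out⁻¹ * (u * u) * x.out := by group
        _ = 1 := by rw [hu, mul_one, inv_mul_cancel]
    · simp [F, dif_neg hx]
  -- the transfer as a product over cosets
  have hu2 : u ^ 2 = 1 := by rw [pow_two, hu]
  have key : MonoidHom.transfer φ u = ∏ x : G ⧸ P, F x := by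
    rw [MonoidHom.transfer_eq_prod_quotient_orbitRel_zpowers_quot]
    refine (Finset.prod_bij_ne_one (fun x _ _ => (Quotient.mk'' x :
      Quotient (MulAction.orbitRel (zpowers u) (G ⧸ P)))) (fun _ _ _ => Finset.mem_univ _) ?_ ?_ ?_).symm
    · intro x₁ _ h₁ x₂ _ h₂ he
      have hx₂ : u • x₂ = x₂ := (hfix x₂).2 (by by_contra hx; exact h₂ (dif_neg hx))
      obtain ⟨⟨w, hw⟩, rfl⟩ := Quotient.exact he
      obtain ⟨k, rfl⟩ := Subgroup.mem_zpowers_iff.1 hw
      show (u ^ k) • x₂ = x₂
      exact MulAction.mem_stabilizer_iff.1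
        (zpow_mem (show u ∈ MulAction.stabilizer G x₂ from hx₂) k)
    · intro q _ hq
      have hdvd : Function.minimalPeriod (u • ·) q.out ∣ 2 := by
        refine Function.IsPeriodicPt.minimalPeriod_dvd ?_
        show u • u • q.out = q.out
        rw [smul_smul, hu, one_smul]
      rcases (Nat.dvd_prime Nat.prime_two).mp hdvd with h1 | h1
      · have hx : q.out.out⁻¹ * u * q.out.out ∈ P := by
          refine (hfix q.out).1 ?_
          have := Function.isPeriodicPt_minimalPeriod (u • ·) q.out
          rw [h1] at this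
          exact this
        refine ⟨q.out, Finset.mem_univ _, ?_, Quotient.out_eq' q⟩
        simp only [F, dif_pos hx]
        intro hc
        refine hq ?_
        rw [← hc]
        congr 1
        exact Subtype.ext (by simp [h1])
      · exfalso
        refine hq ?_
        refine (congrArg φ (Subtype.ext ?_)).trans (map_one φ)
        simp [h1, hu2]
    · intro x _ hx
      have hxP : x.out⁻¹ * u * x.out ∈ P := by by_contra h'; exact hx (dif_neg h')
      have hxfix : u • x = x := (hfix x).2 hxP
      set q : Quotient (MulAction.orbitRel (zpowers u) (G ⧸ P)) := Quotient.mk'' x with hq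
      have hout : q.out = x := by
        obtain ⟨⟨w, hw⟩, hw'⟩ := Quotient.exact (Quotient.out_eq' q : Quotient.mk'' q.out = Quotient.mk'' x)
        obtain ⟨k, rfl⟩ := Subgroup.mem_zpowers_iff.1 hw
        rw [← hw']
        exact MulAction.mem_stabilizer_iff.1
          (zpow_mem (show u ∈ MulAction.stabilizer G x from hxfix) k)
      have h1 : Function.minimalPeriod (u • ·) x = 1 :=
        Function.minimalPeriod_eq_one_iff_isFixedPt.2 hxfix
      simp only [F, dif_pos hxP]
      congr 1
      exact Subtype.ext (by simp [hout, h1])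
  -- the fibres
  set c := φ ⟨u, huP⟩ with hc
  have hinv : ∀ (t : T) (x : G ⧸ P), F (t • x) = F x := by
    intro t x
    have hm : ((t : G) * x.out)⁻¹ * (t • x).out ∈ P := by
      rw [← QuotientGroup.eq, QuotientGroup.out_eq']
      show (((t : G) * x.out : G) : G ⧸ P) = (t : G) • x
      conv_rhs => rw [← QuotientGroup.out_eq' x, MulAction.Quotient.smul_mk]
      rfl
    set p := ((t : G) * x.out)⁻¹ * (t • x).out with hp
    have hout : (t • x).out = (t : G) * x.out * p := by rw [hp, mul_inv_cancel_left]
    have e : (t • x).out⁻¹ * u * (t • x).out = p⁻¹ * (x.out⁻¹ * u * x.out) * p := by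
      rw [hout]
      calc ((t : G) * x.out * p)⁻¹ * u * ((t : G) * x.out * p)
          = p⁻¹ * (x.out⁻¹ * ((t : G)⁻¹ * (u * t)) * x.out) * p := by group
        _ = _ := by rw [← hTu t t.2, inv_mul_cancel_left]
    by_cases hx : x.out⁻¹ * u * x.out ∈ P
    · have hx' : (t • x).out⁻¹ * u * (t • x).out ∈ P := e ▸ mul_mem (mul_mem (inv_mem hm) hx) hm
      simp only [F, dif_pos hx, dif_pos hx']
      rw [show (⟨_, hx'⟩ : P) = (⟨p, hm⟩ : P)⁻¹ * ⟨_, hx⟩ * ⟨p, hm⟩ from Subtype.ext e, map_mul, map_mul,
        map_inv, mul_comm, mul_inv_cancel_left]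
    · have hx' : ¬ (t • x).out⁻¹ * u * (t • x).out ∈ P := by
        rw [e]
        intro h'
        refine hx ?_
        have := mul_mem (mul_mem hm h') (inv_mem hm)
        simpa [mul_assoc] using this
      simp only [F, dif_neg hx, dif_neg hx']
  have hFfix : ∀ x : G ⧸ P, (∀ t : T, t • x = x) → F x = c := by
    intro x hx
    have hmem : ∀ t ∈ T, x.out⁻¹ * t * x.out ∈ P := by
      intro t ht
      have e : t • x = x := hx ⟨t, ht⟩
      conv_lhs at e => rw [← QuotientGroup.out_eq' x, MulAction.Quotient.smul_mk]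
      conv_rhs at e => rw [← QuotientGroup.out_eq' x]
      rw [QuotientGroup.eq, smul_eq_mul, ← P.inv_mem_iff] at e
      simpa [mul_assoc] using e
    have hxP : x.out⁻¹ * u * x.out ∈ P := hmem u huT
    simp only [F, dif_pos hxP]
    exact h _ hmem hxP
  have hc2 : c ^ 2 = 1 := by
    rw [hc, ← map_pow]
    exact (congrArg φ (Subtype.ext (by simp [hu2]))).trans (map_one φ)
  -- each value but `c` is taken evenly often
  have : Fintype A := Fintype.ofFinite A
  rw [key, ← Finset.prod_fiberwise_of_maps_to (g := F) (t := (Finset.univ : Finset A))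
    (fun x _ => Finset.mem_univ _)]
  have hcount : ∀ a : A, (Finset.univ.filter fun x => F x = a).card % 2 = if a = c then 1 else 0 := by
    intro a
    let S : SubMulAction T (G ⧸ P) :=
      { carrier := {x | F x = a}
        smul_mem' := fun t x hx => (hinv t x).trans hx }
    have h1 : Nat.card S ≡ Nat.card (fixedPoints T S) [MOD 2] := hT.card_modEq_card_fixedPoints S
    have h2 : Nat.card S = (Finset.univ.filter fun x => F x = a).card := by
      rw [← Fintype.card_subtype, ← Nat.card_eq_fintype_card]; rfl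
    rw [← h2]
    split_ifs with hac
    · subst hac
      have h3 : Nat.card (fixedPoints T S) = Nat.card (fixedPoints T (G ⧸ P)) :=
        Nat.card_congr
          { toFun := fun x => ⟨(x.1 : G ⧸ P), fun t => congrArg Subtype.val (x.2 t)⟩
            invFun := fun x => ⟨⟨x.1, hFfix x.1 x.2⟩, fun t => Subtype.ext (x.2 t)⟩
            left_inv := fun x => rfl
            right_inv := fun x => rfl }
      have h4 := hT.card_modEq_card_fixedPoints (G ⧸ P)
      rw [← Subgroup.index_eq_card] at h4
      rw [Nat.ModEq] at h1 h4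
      omega
    · have h3 : Nat.card (fixedPoints T S) = 0 := by
        haveI : IsEmpty (fixedPoints T S) := ⟨fun x => hac (x.1.2.symm.trans
          (hFfix x.1.1 fun t => congrArg Subtype.val (x.2 t)))⟩
        exact Nat.card_of_isEmpty
      rw [Nat.ModEq] at h1
      omega
  rw [Finset.prod_eq_single c]
  · rw [Finset.prod_congr rfl (fun x hx => (Finset.mem_filter.1 hx).2), Finset.prod_const]
    have h1 := hcount c
    rw [if_pos rfl] at h1
    rw [← Nat.div_add_mod (Finset.univ.filter fun x => F x = c).card 2, h1, pow_succ, pow_mul, hc2,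
      one_pow, one_mul]
    exact hne
  · intro a _ hac
    rw [Finset.prod_congr rfl (fun x hx => (Finset.mem_filter.1 hx).2), Finset.prod_const]
    obtain ⟨k, hk⟩ : 2 ∣ (Finset.univ.filter fun x => F x = a).card :=
      Nat.dvd_of_mod_eq_zero (by rw [hcount a, if_neg hac])
    rcases Finset.eq_empty_or_nonempty (Finset.univ.filter fun x => F x = a) with he | ⟨x, hx⟩
    · rw [he, Finset.card_empty, pow_zero]
    · rw [hk, pow_mul, ← (Finset.mem_filter.1 hx).2, hF2, one_pow]
  · intro h'; exact absurd (Finset.mem_univ c) h'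

end CfsgLib.Perm.SuborbitThree
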