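import Cfsg.Agent.Lib.Perm.SuborbitThree.CaseFour

/-!
A point stabiliser `S₄ × 2`: its four-group, elementary abelian subgroup and central involution.
-/

set_option autoImplicit false
set_option linter.style.haveILetI false

namespace CfsgLib.Perm.SuborbitThree

open Subgroup

/-- The abstract stabiliser `S₄ × 2`. -/
abbrev FT : Type := Equiv.Perm (Fin 4) × Multiplicative (ZMod 2)

/-- The central involution. -/
abbrev wFT : FT := (1, Multiplicative.ofAdd 1)

theorem c2_cases : ∀ c : Multiplicative (ZMod 2), c = 1 ∨ c = Multiplicative.ofAdd 1 := by decide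

theorem c2_sq : ∀ c : Multiplicative (ZMod 2), c * c = 1 := by decide

theorem card_ft : Nat.card FT = 48 := by
  rw [Nat.card_prod, Nat.card_perm, Nat.card_fin, Nat.card_eq_fintype_card]
  rfl

theorem perm_sixteen : ∀ x : Equiv.Perm (Fin 4), x ^ 16 = 1 → x * x ∈ vFour := by
  intro x hx
  rw [mem_vFour]
  revert hx
  revert x
  decide +kernel

theorem perm_split : ∀ x : Equiv.Perm (Fin 4), x ∉ vFour →
    ∃ c : Equiv.Perm (Fin 4), c * x * c⁻¹ * x⁻¹ ∈ vFour ∧ c * x * c⁻¹ * x⁻¹ ≠ 1 := by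
  intro x hx
  rw [mem_vFour] at hx
  simp only [mem_vFour]
  revert hx
  revert x
  decide +kernel

theorem perm_gen : ∀ x : Equiv.Perm (Fin 4), x ^ 16 = 1 → x ∉ vFour → ∀ y : Equiv.Perm (Fin 4),
    ∃ c : Equiv.Perm (Fin 4), c * x * c⁻¹ * x⁻¹ * x⁻¹ * y ∈ vFour ∨ c * x * c⁻¹ * x⁻¹ * y ∈ vFour := by
  intro x hx hx'
  rw [mem_vFour] at hx'
  simp only [mem_vFour]
  revert hx hx'
  revert x
  decide +kernel

variable {G : Type*} [Group G] {H : Subgroup G}

/-- `ι` identifies `S₄ × 2` with `H`. -/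
structure FTModel (ι : FT →* G) (H : Subgroup G) : Prop where
  inj : Function.Injective ι
  range : ι.range = H

/-- The four-group. -/
def ftV (ι : FT →* G) : Subgroup G := (vFour.prod ⊥).map ι

/-- The elementary abelian subgroup of order eight. -/
def ftA (ι : FT →* G) : Subgroup G := (vFour.prod ⊤).map ι

namespace FTModel

variable {ι : FT →* G} (M : FTModel ι H)
include M

theorem mem (y : FT) : ι y ∈ H := M.range ▸ ⟨y, rfl⟩

theorem exists_eq {h : G} (hh : h ∈ H) : ∃ y, ι y = h := M.range.ge hh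

theorem mem_V {y : FT} : ι y ∈ ftV ι ↔ y.1 ∈ vFour ∧ y.2 = 1 := by
  rw [ftV, Subgroup.mem_map_iff_mem M.inj, Subgroup.mem_prod, Subgroup.mem_bot]

theorem mem_A {y : FT} : ι y ∈ ftA ι ↔ y.1 ∈ vFour := by
  rw [ftA, Subgroup.mem_map_iff_mem M.inj, Subgroup.mem_prod]
  simp

theorem V_le : ftV ι ≤ H := by rintro _ ⟨y, -, rfl⟩; exact M.mem y

theorem A_le : ftA ι ≤ H := by rintro _ ⟨y, -, rfl⟩; exact M.mem y

omit M in
theorem V_le_A : ftV ι ≤ ftA ι := Subgroup.map_mono (Subgroup.prod_mono le_rfl bot_le)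

theorem w_mem : ι wFT ∈ ftA ι := M.mem_A.2 (one_mem _)

theorem w_not_mem : ι wFT ∉ ftV ι := fun h => absurd (M.mem_V.1 h).2 (by decide)

theorem w_sq : ι wFT * ι wFT = 1 := by
  rw [← map_mul, show wFT * wFT = 1 by decide, map_one]

theorem w_ne : ι wFT ≠ 1 := fun h => absurd (M.inj (h.trans (map_one ι).symm)) (by decide)

omit M in
theorem A_sq : ∀ x ∈ ftA ι, x * x = 1 := by
  rintro _ ⟨y, hy, rfl⟩
  rw [← map_mul, show y * y = 1 from Prod.ext (vFour_sq _ hy.1) (c2_sq _), map_one]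

theorem card_A : Nat.card (ftA ι) = 8 := by
  rw [ftA, Subgroup.card_map_of_injective M.inj, Nat.card_congr (Subgroup.prodEquiv _ _).toEquiv,
    Nat.card_prod, card_vFour, Subgroup.card_top, Nat.card_eq_fintype_card]
  rfl

theorem card_V : Nat.card (ftV ι) = 4 := by
  rw [ftV, Subgroup.card_map_of_injective M.inj, Nat.card_congr (Subgroup.prodEquiv _ _).toEquiv,
    Nat.card_prod, card_vFour, Subgroup.card_bot]

theorem card_H : Nat.card H = 48 := by
  rw [← M.range, ← Nat.card_congr (MonoidHom.ofInjective M.inj).toEquiv, card_ft]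

theorem w_comm {h : G} (hh : h ∈ H) : h * ι wFT = ι wFT * h := by
  obtain ⟨y, rfl⟩ := M.exists_eq hh
  rw [← map_mul, ← map_mul]
  exact congrArg ι (Prod.ext (by simp) (mul_comm _ _))

theorem norm_of {K : Subgroup FT} (hK : K.Normal) :
    H ≤ Subgroup.normalizer ((K.map ι : Subgroup G) : Set G) := by
  rw [← M.range, MonoidHom.range_eq_map]
  refine le_trans (Subgroup.map_mono ?_) (Subgroup.le_normalizer_map ι)
  rw [Subgroup.normalizer_eq_top]

theorem V_norm : H ≤ Subgroup.normalizer (ftV ι : Set G) := by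
  refine M.norm_of (K := vFour.prod ⊥) ⟨fun y hy g => ?_⟩
  rw [Subgroup.mem_prod] at hy ⊢
  refine ⟨vFour_normal.conj_mem _ hy.1 g.1, ?_⟩
  rw [Subgroup.mem_bot] at hy ⊢
  simp [hy.2]

theorem A_norm : H ≤ Subgroup.normalizer (ftA ι : Set G) := by
  refine M.norm_of (K := vFour.prod ⊤) ⟨fun y hy g => ?_⟩
  rw [Subgroup.mem_prod] at hy ⊢
  exact ⟨vFour_normal.conj_mem _ hy.1 g.1, Subgroup.mem_top _⟩

theorem V_ne : ftV ι ≠ ⊥ := fun h => by
  have := M.card_V
  rw [h, Subgroup.card_bot] at this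
  omega

theorem A_ne : ftA ι ≠ ⊥ := fun h => by
  have := M.card_A
  rw [h, Subgroup.card_bot] at this
  omega

variable (hs : Setting H)
include hs

theorem cent_w : Subgroup.centralizer ({ι wFT} : Set G) = H := by
  refine le_antisymm ?_ fun h hh => Subgroup.mem_centralizer_singleton_iff.2 (M.w_comm hh)
  have hc : Subgroup.centralizer (Subgroup.zpowers (ι wFT) : Set G) =
      Subgroup.centralizer ({ι wFT} : Set G) := by
    rw [Subgroup.zpowers_eq_closure, Subgroup.centralizer_closure]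
  rw [← hc]
  refine hs.centralizer_le (Subgroup.zpowers_le.2 (M.mem _)) (fun h hh => ?_) fun hb =>
    M.w_ne (Subgroup.zpowers_eq_bot.1 hb)
  exact Subgroup.centralizer_le_normalizer _ (by
    rw [hc]; exact Subgroup.mem_centralizer_singleton_iff.2 (M.w_comm hh))

theorem cent_V : Subgroup.centralizer (ftV ι : Set G) = ftA ι := by
  refine le_antisymm (fun g hg => ?_) fun g hg => ?_
  · obtain ⟨y, rfl⟩ := M.exists_eq (hs.centralizer_le M.V_le M.V_norm M.V_ne hg)
    refine M.mem_A.2 (vFour_cent _ fun x hx => ?_)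
    have h := Subgroup.mem_centralizer_iff.1 hg (ι (x, 1)) (M.mem_V.2 ⟨hx, rfl⟩)
    rw [← map_mul, ← map_mul] at h
    exact (congrArg Prod.fst (M.inj h)).symm
  · exact Subgroup.mem_centralizer_iff.2 fun x hx => comm_of_sq A_sq (V_le_A hx) hg

theorem cent_A : Subgroup.centralizer (ftA ι : Set G) = ftA ι :=
  le_antisymm ((Subgroup.centralizer_le V_le_A).trans (M.cent_V hs).le) fun _ hg =>
    Subgroup.mem_centralizer_iff.2 fun _ hx => comm_of_sq A_sq hx hg

end FTModel

end CfsgLib.Perm.SuborbitThree
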