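import Cfsg.Agent.Lib.Perm.SuborbitThree.FourTwoModel
import Cfsg.Agent.Lib.Perm.SuborbitThree.FixedTransfer

/-!
Point stabiliser `S₄ × 2`: the Sylow two-subgroup has order `32` and the group is not simple.
-/

set_option autoImplicit false
set_option linter.style.haveILetI false

namespace CfsgLib.Perm.SuborbitThree

open Subgroup

variable {G : Type*} [Group G] [Finite G] {H : Subgroup G} {ι : FT →* G}

omit [Finite G] in
theorem commutator_eq_squares (t a : G) :
    t * a * t⁻¹ * a⁻¹ = t * t * ((t⁻¹ * a) * (t⁻¹ * a)) * (a * a)⁻¹ := by group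

theorem sylow_and_transfer (hs : Setting H) (M : FTModel ι H) :
    (∃ a : ℕ, Odd a ∧ Nat.card G = 32 * a) ∧ (IsSimpleGroup G → False) := by
  classical
  haveI : Fact (Nat.Prime 2) := ⟨Nat.prime_two⟩
  have hH : Nat.card H = 48 := M.card_H
  have hA8 : Nat.card (ftA ι) = 8 := M.card_A
  have hAp : IsPGroup 2 (ftA ι) := IsPGroup.of_card (n := 3) hA8
  obtain ⟨g, hg⟩ := hs.mate
  set T := H ⊓ H.map (MulAut.conj g).toMonoidHom with hT
  have hT16 : Nat.card T = 16 := by omega
  have hTp : IsPGroup 2 T := IsPGroup.of_card (n := 4) hT16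
  have hTH : T ≤ H := inf_le_left
  have hAT : (ftA ι) ≤ T := le_of_normal_two inf_le_left M.A_le M.A_norm hAp hTp hg
  have hBT : (ftA ι).map (MulAut.conj g).toMonoidHom ≤ T := by
    refine le_of_normal_two inf_le_right (Subgroup.map_mono M.A_le) ?_ (hAp.map _) hTp
      (by rw [card_map_conj]; exact hg)
    rw [hs.normalizer_conj M.A_le M.A_norm M.A_ne g]
  obtain ⟨hAB, R, hTR, hRp⟩ := hs.exists_larger M.A_le M.A_norm M.A_ne FTModel.A_sq g hT
    (fun h => by rw [h] at hT16; omega) hTp hAT hBT (by omega) (fun t _ ht => (M.cent_A hs).le ht)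
  set B := (ftA ι).map (MulAut.conj g).toMonoidHom with hB
  have hBc : Nat.card B = 8 := by rw [hB, card_map_conj, hA8]
  have hA2 : ∀ x ∈ (ftA ι), x * x = 1 := FTModel.A_sq
  have hB2 : ∀ x ∈ B, x * x = 1 := map_sq FTModel.A_sq g
  have hcA : ∀ t ∈ T, t ∈ Subgroup.centralizer ((ftA ι) : Set G) → t ∈ (ftA ι) := fun t _ ht => (M.cent_A hs).le ht
  have hcB : ∀ t, t ∈ Subgroup.centralizer (B : Set G) → t ∈ B := by
    intro t ht
    have h1 : g⁻¹ * t * g ∈ Subgroup.centralizer ((ftA ι) : Set G) := by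
      rw [Subgroup.mem_centralizer_iff] at ht ⊢
      intro x hx
      have h := ht _ (Subgroup.mem_map_of_mem _ hx)
      change g * x * g⁻¹ * t = t * (g * x * g⁻¹) at h
      calc x * (g⁻¹ * t * g) = g⁻¹ * (g * x * g⁻¹ * t) * g := by group
        _ = g⁻¹ * (t * (g * x * g⁻¹)) * g := by rw [h]
        _ = g⁻¹ * t * g * x := by group
    refine ⟨g⁻¹ * t * g, (M.cent_A hs).le h1, ?_⟩
    show g * (g⁻¹ * t * g) * g⁻¹ = t
    group
  -- the Sylow subgroup
  obtain ⟨S, hRS⟩ := hRp.exists_le_sylow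
  have hTS : T ≤ (S : Subgroup G) := hTR.le.trans hRS
  have hHS : H ⊓ (S : Subgroup G) = T := by
    refine (Subgroup.eq_of_le_of_card_ge (le_inf hTH hTS) ?_).symm
    obtain ⟨i, hi⟩ := IsPGroup.iff_card.1 (S.2.to_le (inf_le_right : H ⊓ (S : Subgroup G) ≤ _))
    have hd : 2 ^ i ∣ 16 * 3 := by
      rw [← hi, show (16 * 3 : ℕ) = Nat.card H by rw [hH]]
      exact Subgroup.card_dvd_of_le inf_le_left
    have h16 := ((Nat.Coprime.pow_left i (by norm_num : Nat.Coprime 2 3))).dvd_of_dvd_mul_right hd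
    rw [hi, hT16]
    exact Nat.le_of_dvd (by norm_num) h16
  have hCS : ∀ x ∈ (S : Subgroup G), x * (ι wFT) = (ι wFT) * x → x ∈ T := fun x hx h => by
    rw [← hHS, ← M.cent_w hs]
    exact ⟨Subgroup.mem_centralizer_singleton_iff.2 h, hx⟩
  -- an element of `S` normalising `T` outside it
  obtain ⟨n, hnS, hnT, hnN⟩ : ∃ n ∈ (S : Subgroup G), n ∉ T ∧ n ∈ Subgroup.normalizer (T : Set G) := by
    by_contra hcon
    push Not at hcon
    exact hTR.ne (le_antisymm hTR.le
      ((eq_of_self_normalizing hTS S.2 fun x hx hxn => by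
        by_contra hxT
        exact hcon x hx hxT hxn) ▸ hRS))
  have hnH : n ∉ H := fun h => hnT (hHS ▸ ⟨h, hnS⟩)
  have hconjT : ∀ {x}, x ∈ Subgroup.normalizer (T : Set G) → ∀ {t}, t ∈ T → x * t * x⁻¹ ∈ T :=
    fun hx _ ht => (Subgroup.mem_normalizer_iff.1 hx _).1 ht
  have hcases : ∀ {t : G}, t ∈ T → t * t = 1 → t ∈ (ftA ι) ∨ t ∈ B := fun ht h2 =>
    involutions_mem hAT hBT hAB (by omega) (by omega) hA2 hB2 hcA ht h2
  have hnA : (ftA ι).map (MulAut.conj n).toMonoidHom = B := by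
    refine (elementary_cases hAT hBT hAB (by omega) (by omega) hA2 hB2 hcA ?_
      (card_map_conj (ftA ι) n) (map_sq FTModel.A_sq n)).resolve_left fun h => hnH ?_
    · rw [← CfsgLib.TwoGroups.map_conj_eq_iff_mem_normalizer.2 hnN]
      exact Subgroup.map_mono hAT
    · exact (hs.normalizer_eq M.A_le M.A_norm M.A_ne).le
        (CfsgLib.TwoGroups.map_conj_eq_iff_mem_normalizer.1 h)
  -- `(ftA ι) ∩ B` is central in `T`
  have hZ : ∀ x, x ∈ (ftA ι) → x ∈ B → ∀ t ∈ T, t * x = x * t := by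
    intro x hxA hxB
    have htop : T ≤ (ftA ι) ⊔ B := by
      refine (Subgroup.eq_of_le_of_card_ge (sup_le hAT hBT) ?_).ge
      have hlt : (ftA ι) < (ftA ι) ⊔ B := lt_of_le_of_ne le_sup_left fun e => hAB (Eq.symm
        (Subgroup.eq_of_le_of_card_ge (le_sup_right.trans e.ge) (by omega)))
      obtain ⟨i, hi⟩ := IsPGroup.iff_card.1 (hTp.to_le (sup_le hAT hBT))
      have h1 : Nat.card (ftA ι) < Nat.card ((ftA ι) ⊔ B : Subgroup G) := by
        refine lt_of_le_of_ne (Subgroup.card_le_of_le hlt.le) fun e => hlt.ne ?_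
        exact Subgroup.eq_of_le_of_card_ge hlt.le e.ge
      rw [hi] at h1
      rw [hT16, hi]
      rcases Nat.lt_or_ge i 4 with h | h
      · have := Nat.pow_le_pow_right two_pos (show i ≤ 3 by omega)
        omega
      · exact Nat.pow_le_pow_right two_pos h
    intro t ht
    have hle : (ftA ι) ⊔ B ≤ Subgroup.centralizer ({x} : Set G) := sup_le
      (fun a ha => Subgroup.mem_centralizer_singleton_iff.2 (comm_of_sq hA2 ha hxA))
      (fun b hb => Subgroup.mem_centralizer_singleton_iff.2 (comm_of_sq hB2 hb hxB))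
    exact Subgroup.mem_centralizer_singleton_iff.1 (hle (htop ht))
  have hwA : (ι wFT) ∈ (ftA ι) := M.w_mem
  have hwB : (ι wFT) ∈ B := by
    exact hcB (ι wFT) (Subgroup.mem_centralizer_iff.2 fun b hb => M.w_comm (hTH (hBT hb)))
  -- the square `v`
  have hsqV : ∀ t ∈ T, t * t ∈ (ftV ι) := by
    intro t ht
    obtain ⟨y, rfl⟩ := M.exists_eq (hTH ht)
    rw [← map_mul, M.mem_V]
    refine ⟨perm_sixteen _ ?_, c2_sq _⟩
    have h := pow_card_eq_one' (x := (⟨ι y, ht⟩ : T))
    rw [hT16] at h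
    have h' : y ^ 16 = 1 := M.inj (by rw [map_pow, map_one]; exact congrArg Subtype.val h)
    exact congrArg Prod.fst h'
  have hsqB : ∀ t ∈ T, t * t ∈ B := by
    intro t ht
    have h1 : (ftA ι).relIndex T = 2 := relIndex_two_of_card hAT (by omega)
    have h2 : B.relIndex T = 2 := relIndex_two_of_card hBT (by omega)
    exact (CfsgLib.TwoGroups.mul_mem_iff_of_relIndex_two h2 ht ht).2 Iff.rfl
  obtain ⟨t₀, ht₀, ht₀2⟩ : ∃ t ∈ T, t * t ≠ 1 := by
    by_contra hcon
    push Not at hcon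
    obtain ⟨b, hbB, hbA⟩ : ∃ b ∈ B, b ∉ (ftA ι) := by
      by_contra h
      push Not at h
      exact hAB (Subgroup.eq_of_le_of_card_ge h (by omega)).symm
    exact hbA (hcA b (hBT hbB) (Subgroup.mem_centralizer_iff.2 fun a ha =>
      comm_of_sq hcon (hAT ha) (hBT hbB)))
  set v := t₀ * t₀ with hv
  have hvV : v ∈ (ftV ι) := hsqV t₀ ht₀
  have hvA : v ∈ (ftA ι) := FTModel.V_le_A hvV
  have hvB : v ∈ B := hsqB t₀ ht₀
  have hvw : v ≠ (ι wFT) := fun h => M.w_not_mem (h ▸ hvV)
  have hv2 : v * v = 1 := hA2 v hvA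
  have hw2 : (ι wFT) * (ι wFT) = 1 := hA2 (ι wFT) hwA
  have hw1 : (ι wFT) ≠ 1 := M.w_ne
  -- the intersection has the four elements `1, v, (ι wFT), (ι wFT) v`
  have hI : ∀ x, x ∈ (ftA ι) → x ∈ B → x = 1 ∨ x = v ∨ x = (ι wFT) ∨ x = (ι wFT) * v := by
    intro x hxA hxB
    have hc : Nat.card ((ftA ι) ⊓ B : Subgroup G) ≤ 4 := by
      have hlt : (ftA ι) ⊓ B < (ftA ι) := lt_of_le_of_ne inf_le_left fun e => hAB
        (Subgroup.eq_of_le_of_card_ge (inf_eq_left.1 e) (by omega))
      have hd : Nat.card ((ftA ι) ⊓ B : Subgroup G) ∣ 8 := hA8 ▸ Subgroup.card_dvd_of_le inf_le_left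
      have hne : Nat.card ((ftA ι) ⊓ B : Subgroup G) ≠ 8 := fun e => hlt.ne
        (Subgroup.eq_of_le_of_card_ge hlt.le (by rw [hA8, e]))
      have key : ∀ k < 9, k ∣ 8 → k ≠ 8 → k ≤ 4 := by decide
      exact key _ (Nat.lt_succ_of_le (Nat.le_of_dvd (by norm_num) hd)) hd hne
    by_contra hcon
    push Not at hcon
    obtain ⟨c1, c2, c3, c4⟩ := hcon
    let s : Finset G := {1, v, (ι wFT), (ι wFT) * v, x}
    have hs5 : s.card = 5 := by
      have e1 : v ≠ 1 := ht₀2
      have e2 : (ι wFT) * v ≠ 1 := fun h => hvw (by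
        rw [eq_inv_of_mul_eq_one_right h, inv_eq_of_mul_eq_one_right hw2])
      have e3 : (ι wFT) * v ≠ v := fun h => hw1 (mul_eq_right.1 h)
      have e4 : (ι wFT) * v ≠ (ι wFT) := fun h => e1 (mul_eq_left.1 h)
      simp [s, e1.symm, hw1.symm, e2.symm, hvw, e3.symm, e4.symm, Ne.symm c1, Ne.symm c2, Ne.symm c3,
        Ne.symm c4]
    have hsub : (↑s : Set G) ⊆ (((ftA ι) ⊓ B : Subgroup G) : Set G) := by
      intro y hy
      simp only [s, Finset.coe_insert, Finset.coe_singleton, Set.mem_insert_iff, Set.mem_singleton_iff] at hy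
      rcases hy with rfl | rfl | rfl | rfl | rfl
      exacts [one_mem _, ⟨hvA, hvB⟩, ⟨hwA, hwB⟩, ⟨mul_mem hwA hvA, mul_mem hwB hvB⟩, ⟨hxA, hxB⟩]
    have := Set.ncard_le_ncard hsub (Set.toFinite _)
    rw [Set.ncard_coe_finset, hs5, ← Nat.card_coe_set_eq] at this
    simp only [SetLike.coe_sort_coe] at this
    omega
  have hsq : ∀ t ∈ T, t * t = 1 ∨ t * t = v := by
    intro t ht
    rcases hI _ (FTModel.V_le_A (hsqV t ht)) (hsqB t ht) with h | h | h | h
    · exact Or.inl h
    · exact Or.inr h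
    · exact absurd (h ▸ hsqV t ht) M.w_not_mem
    · refine absurd ?_ M.w_not_mem
      have := mul_mem (h ▸ hsqV t ht) hvV
      rwa [mul_assoc, hv2, mul_one] at this
  -- the action of an element outside `T`
  have hact : ∀ x, x ∈ Subgroup.normalizer (T : Set G) → x ∈ (S : Subgroup G) → x ∉ T →
      x * v * x⁻¹ = v ∧ x * (ι wFT) * x⁻¹ = (ι wFT) * v := by
    intro x hxN hxS hxT
    have h1 : x * v * x⁻¹ = v := by
      rcases hsq _ (hconjT hxN ht₀) with h | h <;>
        rw [show x * t₀ * x⁻¹ * (x * t₀ * x⁻¹) = x * v * x⁻¹ by rw [hv]; group] at h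
      · exact absurd (conj_eq_one_iff.1 h) ht₀2
      · exact h
    refine ⟨h1, ?_⟩
    have hxw : x * (ι wFT) * x⁻¹ ≠ (ι wFT) := fun h => hxT (hCS x hxS (mul_inv_eq_iff_eq_mul.1 h))
    have hcomm : ∀ t ∈ T, t * (x * (ι wFT) * x⁻¹) = x * (ι wFT) * x⁻¹ * t := by
      intro t ht
      have h2 : x⁻¹ * t * x ∈ T := by simpa using hconjT (inv_mem hxN) ht
      have h3 := M.w_comm (hTH h2)
      calc t * (x * (ι wFT) * x⁻¹) = x * (x⁻¹ * t * x * (ι wFT)) * x⁻¹ := by group
        _ = x * ((ι wFT) * (x⁻¹ * t * x)) * x⁻¹ := by rw [h3]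
        _ = x * (ι wFT) * x⁻¹ * t := by group
    have hA' : x * (ι wFT) * x⁻¹ ∈ (ftA ι) := (M.cent_A hs).le (Subgroup.mem_centralizer_iff.2 fun a ha => hcomm a (hAT ha))
    have hB' : x * (ι wFT) * x⁻¹ ∈ B := hcB _ (Subgroup.mem_centralizer_iff.2 fun b hb => hcomm b (hBT hb))
    rcases hI _ hA' hB' with h | h | h | h
    · exact absurd (conj_eq_one_iff.1 h) hw1
    · exact absurd (mul_left_cancel (mul_right_cancel (h1.trans h.symm))) hvw
    · exact absurd h hxw
    · exact h
  obtain ⟨hnv, hnw⟩ := hact n hnN hnS hnT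
  set U := (S : Subgroup G) ⊓ Subgroup.normalizer (T : Set G) with hU
  have hTU : T ≤ U := le_inf hTS Subgroup.le_normalizer
  have hnU : n ∈ U := ⟨hnS, hnN⟩
  have hcover : ∀ x ∈ U, x ∈ T ∨ n⁻¹ * x ∈ T := by
    intro x hx
    by_cases hxT : x ∈ T
    · exact Or.inl hxT
    refine Or.inr (hCS _ (mul_mem (inv_mem hnS) hx.1) ?_)
    have e := (hact x hx.2 hx.1 hxT).2.trans hnw.symm
    calc n⁻¹ * x * (ι wFT) = n⁻¹ * (x * (ι wFT) * x⁻¹) * x := by group
      _ = n⁻¹ * (n * (ι wFT) * n⁻¹) * x := by rw [e]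
      _ = (ι wFT) * (n⁻¹ * x) := by group
  have hTUn : U ≤ Subgroup.normalizer (T : Set G) := inf_le_right
  have hUT : T.relIndex U = 2 := by
    have h2 : (T.subgroupOf U).index = 2 := by
      rw [Subgroup.index_eq_two_iff]
      refine ⟨⟨n⁻¹, inv_mem hnU⟩, fun b => ?_⟩
      rw [Subgroup.mem_subgroupOf, Subgroup.mem_subgroupOf, Subgroup.coe_mul]
      have hbn : (b : G) * n⁻¹ ∈ T ↔ n⁻¹ * (b : G) ∈ T := by
        have := Subgroup.mem_normalizer_iff.1 hnN (n⁻¹ * (b : G))
        rw [show n * (n⁻¹ * (b : G)) * n⁻¹ = (b : G) * n⁻¹ by group] at this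
        exact this.symm
      rw [hbn]
      rcases hcover b b.2 with h | h
      · refine Or.inr ⟨h, fun h' => hnT ?_⟩
        have := mul_mem h (inv_mem h')
        simpa using this
      · refine Or.inl ⟨h, fun h' => hnT ?_⟩
        have := mul_mem h' (inv_mem h)
        simpa using this
    exact h2
  have hU32 : Nat.card U = 32 := by
    have h := Subgroup.card_mul_index (T.subgroupOf U)
    rw [Nat.card_congr (Subgroup.subgroupOfEquivOfLe hTU).toEquiv, show (T.subgroupOf U).index = 2 from hUT,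
      hT16] at h
    omega
  -- elements of `U` with a big centralizer
  have hbig : ∀ x ∈ U, x * x = 1 → x ≠ 1 → 16 ≤ Nat.card (U ⊓ Subgroup.centralizer ({x} : Set G) : Subgroup G) →
      x = v ∨ x = (ι wFT) ∨ x = (ι wFT) * v := by
    intro x hxU hx2 hx1 h16
    by_contra hcon
    have hxI : ¬ (x ∈ (ftA ι) ∧ x ∈ B) := fun h => hcon ((hI x h.1 h.2).resolve_left hx1)
    set C := U ⊓ Subgroup.centralizer ({x} : Set G) with hC
    have hCc : ∀ y ∈ C, y * x = x * y := fun y hy => Subgroup.mem_centralizer_singleton_iff.1 hy.2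
    have hhalf : ∀ {P : Subgroup G} (Q : Subgroup G), P.relIndex Q = 2 → ∀ K : Subgroup G, K ≤ Q →
        Nat.card K ≤ 2 * Nat.card (K ⊓ P : Subgroup G) := by
      intro P Q hPQ K hK
      have h1 : P.relIndex K ≤ 2 := hPQ ▸ Subgroup.relIndex_le_of_le_right hK (by rw [hPQ]; norm_num)
      have h2 := Subgroup.card_mul_index (P.subgroupOf K)
      have e : Nat.card (P.subgroupOf K) = Nat.card (K ⊓ P : Subgroup G) := by
        rw [← Subgroup.inf_subgroupOf_left, Nat.card_congr (Subgroup.subgroupOfEquivOfLe inf_le_left).toEquiv]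
      rw [e] at h2
      rw [← h2, mul_comm 2]
      exact Nat.mul_le_mul_left _ h1
    have hAI : (ftA ι).relIndex T = 2 := relIndex_two_of_card hAT (by omega)
    by_cases hxT : x ∈ T
    · -- an involution of `T` outside the centre
      have hCT : C ≤ T := by
        intro y hy
        by_contra hyT
        have hyA : (ftA ι).map (MulAut.conj y).toMonoidHom = B := by
          refine (elementary_cases hAT hBT hAB (by omega) (by omega) hA2 hB2 hcA ?_
            (card_map_conj (ftA ι) y) (map_sq FTModel.A_sq y)).resolve_left fun h => hyT ?_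
          · rw [← CfsgLib.TwoGroups.map_conj_eq_iff_mem_normalizer.2 hy.1.2]
            exact Subgroup.map_mono hAT
          · rw [← hHS]
            refine ⟨?_, hy.1.1⟩
            exact (hs.normalizer_eq M.A_le M.A_norm M.A_ne).le
              (CfsgLib.TwoGroups.map_conj_eq_iff_mem_normalizer.1 h)
        have hfix : y * x * y⁻¹ = x := by rw [hCc y hy, mul_inv_cancel_right]
        rcases hcases hxT hx2 with h | h
        · exact hxI ⟨h, hfix ▸ hyA ▸ Subgroup.mem_map_of_mem (MulAut.conj y).toMonoidHom h⟩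
        · obtain ⟨a, ha, hax⟩ := hyA.ge h
          have hax' : a = x := mul_left_cancel (mul_right_cancel (hax.trans hfix.symm))
          exact hxI ⟨hax' ▸ ha, h⟩
      have hCeq : T ≤ C := (Subgroup.eq_of_le_of_card_ge hCT (by omega)).ge
      have hx' : x ∈ Subgroup.centralizer ((ftA ι) : Set G) ∧ x ∈ Subgroup.centralizer (B : Set G) :=
        ⟨Subgroup.mem_centralizer_iff.2 fun a ha => hCc a (hCeq (hAT ha)),
          Subgroup.mem_centralizer_iff.2 fun b hb => hCc b (hCeq (hBT hb))⟩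
      exact hxI ⟨hcA x hxT hx'.1, hcB x hx'.2⟩
    · -- outside `T`
      obtain ⟨hxv, hxw⟩ := hact x hxU.2 hxU.1 hxT
      have hxA : (ftA ι).map (MulAut.conj x).toMonoidHom = B := by
        refine (elementary_cases hAT hBT hAB (by omega) (by omega) hA2 hB2 hcA ?_
          (card_map_conj (ftA ι) x) (map_sq FTModel.A_sq x)).resolve_left fun h => hxT ?_
        · rw [← CfsgLib.TwoGroups.map_conj_eq_iff_mem_normalizer.2 hxU.2]
          exact Subgroup.map_mono hAT
        · rw [← hHS]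
          refine ⟨?_, hxU.1⟩
          exact (hs.normalizer_eq M.A_le M.A_norm M.A_ne).le
            (CfsgLib.TwoGroups.map_conj_eq_iff_mem_normalizer.1 h)
      have h1 : Nat.card (C ⊓ T ⊓ (ftA ι) : Subgroup G) ≤ 2 := by
        have hsub : ((C ⊓ T ⊓ (ftA ι) : Subgroup G) : Set G) ⊆ {1, v} := by
          intro y hy
          have hyC : y ∈ C := hy.1.1
          have hfix : x * y * x⁻¹ = y := by rw [← hCc y hyC, mul_inv_cancel_right]
          have hyB : y ∈ B := hfix ▸ hxA ▸ Subgroup.mem_map_of_mem (MulAut.conj x).toMonoidHom hy.2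
          rcases hI y hy.2 hyB with rfl | rfl | rfl | rfl
          · exact Or.inl rfl
          · exact Or.inr rfl
          · exact absurd (mul_eq_left.1 (hxw.symm.trans hfix)) ht₀2
          · exfalso
            rw [show x * ((ι wFT) * v) * x⁻¹ = x * (ι wFT) * x⁻¹ * (x * v * x⁻¹) by group, hxw, hxv, mul_assoc, hv2,
              mul_one] at hfix
            exact ht₀2 (mul_eq_left.1 hfix.symm)
        have h2 := (Set.ncard_le_ncard hsub (Set.toFinite _)).trans
          ((Set.ncard_insert_le _ _).trans (by rw [Set.ncard_singleton]))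
        rwa [← Nat.card_coe_set_eq, SetLike.coe_sort_coe] at h2
      have h2 := hhalf T hAI (C ⊓ T) inf_le_right
      have h3 := hhalf U hUT C inf_le_left
      omega
  have hvwne : v ≠ 1 := ht₀2
  -- a centralizer containing a conjugate of `T` inside `U`
  have hwlike : ∀ g' : G, g' * (ι wFT) * g'⁻¹ ∈ U →
      16 ≤ Nat.card (U ⊓ Subgroup.centralizer ({g' * (ι wFT) * g'⁻¹} : Set G) : Subgroup G) →
      g' * (ι wFT) * g'⁻¹ = (ι wFT) ∨ g' * (ι wFT) * g'⁻¹ = (ι wFT) * v := by
    intro g' hmem h16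
    rcases hbig _ hmem (by rw [show g' * (ι wFT) * g'⁻¹ * (g' * (ι wFT) * g'⁻¹) = g' * ((ι wFT) * (ι wFT)) * g'⁻¹ by group, hw2,
      mul_one, mul_inv_cancel]) (fun h => hw1 (conj_eq_one_iff.1 h)) h16 with h | h | h
    · exfalso
      -- `v` is central in `U`
      have hUv : ∀ u ∈ U, u * v = v * u := by
        intro u hu
        by_cases hu' : u ∈ T
        · exact hZ v hvA hvB u hu'
        · exact mul_inv_eq_iff_eq_mul.1 (hact u hu.2 hu.1 hu').1
      have hle : U.map (MulAut.conj g'⁻¹).toMonoidHom ≤ H := by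
        rw [← M.cent_w hs]
        rintro _ ⟨u, hu, rfl⟩
        rw [Subgroup.mem_centralizer_singleton_iff]
        have h' : u * (g' * (ι wFT) * g'⁻¹) = g' * (ι wFT) * g'⁻¹ * u := by rw [h]; exact hUv u hu
        show g'⁻¹ * u * g'⁻¹⁻¹ * (ι wFT) = (ι wFT) * (g'⁻¹ * u * g'⁻¹⁻¹)
        calc g'⁻¹ * u * g'⁻¹⁻¹ * (ι wFT) = g'⁻¹ * (u * (g' * (ι wFT) * g'⁻¹)) * g' := by group
          _ = g'⁻¹ * (g' * (ι wFT) * g'⁻¹ * u) * g' := by rw [h']
          _ = _ := by group
      have hd := Subgroup.card_dvd_of_le hle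
      rw [card_map_conj, hU32, hH] at hd
      norm_num at hd
    · exact Or.inl h
    · exact Or.inr h
  have hSU : (S : Subgroup G) = U := by
    refine eq_of_self_normalizing inf_le_left S.2 fun m hmS hmN => ?_
    have hwU : m * (ι wFT) * m⁻¹ ∈ U := (Subgroup.mem_normalizer_iff.1 hmN (ι wFT)).1 (hTU (hAT hwA))
    have h16 : 16 ≤ Nat.card (U ⊓ Subgroup.centralizer ({m * (ι wFT) * m⁻¹} : Set G) : Subgroup G) := by
      rw [← hT16, ← card_map_conj T m]
      refine Subgroup.card_le_of_le (le_inf ?_ ?_)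
      · rintro _ ⟨t, ht, rfl⟩
        exact (Subgroup.mem_normalizer_iff.1 hmN t).1 (hTU ht)
      · rintro _ ⟨t, ht, rfl⟩
        rw [Subgroup.mem_centralizer_singleton_iff]
        show m * t * m⁻¹ * (m * (ι wFT) * m⁻¹) = m * (ι wFT) * m⁻¹ * (m * t * m⁻¹)
        rw [show m * t * m⁻¹ * (m * (ι wFT) * m⁻¹) = m * (t * (ι wFT)) * m⁻¹ by group, M.w_comm (hTH ht)]
        group
    rcases hwlike m hwU h16 with h | h
    · exact hTU (hCS m hmS (mul_inv_eq_iff_eq_mul.1 h))
    · have h' : n⁻¹ * m ∈ T := hCS _ (mul_mem (inv_mem hnS) hmS) (by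
        calc n⁻¹ * m * (ι wFT) = n⁻¹ * (m * (ι wFT) * m⁻¹) * m := by group
          _ = n⁻¹ * (n * (ι wFT) * n⁻¹) * m := by rw [h, hnw]
          _ = (ι wFT) * (n⁻¹ * m) := by group)
      simpa using mul_mem hnU (hTU h')
  have hodd : ¬ 2 ∣ U.index := hSU ▸ S.not_dvd_index
  refine ⟨⟨U.index, Nat.odd_iff.2 (Nat.two_dvd_ne_zero.1 hodd), by rw [← hU32, U.card_mul_index]⟩, ?_⟩
  intro hsimple
  -- the subgroup `D = ⟨a, b⟩`
  obtain ⟨a, haV, haB⟩ : ∃ a ∈ (ftV ι), a ∉ B := by
    by_contra hcon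
    push Not at hcon
    have hsub : ((ftV ι) : Set G) ⊆ {1, v} := by
      intro x hx
      rcases hI x (FTModel.V_le_A hx) (hcon x hx) with h | h | h | h
      · exact Or.inl h
      · exact Or.inr h
      · exact absurd (h ▸ hx) M.w_not_mem
      · refine absurd ?_ M.w_not_mem
        have := mul_mem (h ▸ hx) hvV
        rwa [mul_assoc, hv2, mul_one] at this
    have := (Set.ncard_le_ncard hsub (Set.toFinite _)).trans
      ((Set.ncard_insert_le _ _).trans (by rw [Set.ncard_singleton]))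
    rw [← Nat.card_coe_set_eq, SetLike.coe_sort_coe, M.card_V] at this
    omega
  have haA : a ∈ (ftA ι) := FTModel.V_le_A haV
  set b := n * a * n⁻¹ with hb
  have hbB : b ∈ B := hnA ▸ Subgroup.mem_map_of_mem (MulAut.conj n).toMonoidHom haA
  have hbA : b ∉ (ftA ι) := by
    intro h
    refine haB ?_
    obtain ⟨a', ha', he⟩ := hnA.ge hbB
    -- `b` in `(ftA ι) ∩ B` is fixed among `1, v, (ι wFT), (ι wFT) v`
    rcases hI b h hbB with e | e | e | e
    · rw [hb, conj_eq_one_iff] at e; rw [e]; exact one_mem _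
    · rw [hb] at e; rw [mul_left_cancel (mul_right_cancel (e.trans hnv.symm))]; exact hvB
    · have : a = (ι wFT) * v := by
        have h1 : n * ((ι wFT) * v) * n⁻¹ = (ι wFT) := by
          rw [show n * ((ι wFT) * v) * n⁻¹ = n * (ι wFT) * n⁻¹ * (n * v * n⁻¹) by group, hnw, hnv, mul_assoc, hv2,
            mul_one]
        rw [hb] at e
        exact mul_left_cancel (mul_right_cancel (e.trans h1.symm))
      rw [this]; exact mul_mem hwB hvB
    · rw [hb] at e; rw [mul_left_cancel (mul_right_cancel (e.trans hnw.symm))]; exact hwB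
  have hva : v * a = a * v := comm_of_sq hA2 hvA haA
  have hvb : v * b = b * v := comm_of_sq hB2 hvB hbB
  have ha2 : a * a = 1 := hA2 a haA
  have hb2 : b * b = 1 := hB2 b hbB
  have hba : b * a = a * b * v := by
    have h1 : a * b * (a * b) = v := by
      rcases hsq _ (mul_mem (hAT haA) (hBT hbB)) with h | h
      · exfalso
        rcases hcases (mul_mem (hAT haA) (hBT hbB)) h with h' | h'
        · exact hbA (by simpa using mul_mem (inv_mem haA) h')
        · exact haB (by simpa using mul_mem h' (inv_mem hbB))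
      · exact h
    calc b * a = (a * a) * b * a * (b * b) := by rw [ha2, hb2, one_mul, mul_one]
      _ = a * (a * b * (a * b)) * b := by group
      _ = a * b * v := by simp only [h1, mul_assoc, hvb]
  set D := Subgroup.closure ({a, b} : Set G) with hD
  have hDcl : ∀ x ∈ D, x = 1 ∨ x = v ∨ x = a ∨ x = a * v ∨ x = b ∨ x = b * v ∨ x = a * b ∨ x = a * b * v := by
    intro x hx
    have hstep : ∀ c, (c = a ∨ c = b) → ∀ y,
        (y = 1 ∨ y = v ∨ y = a ∨ y = a * v ∨ y = b ∨ y = b * v ∨ y = a * b ∨ y = a * b * v) →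
        (c * y = 1 ∨ c * y = v ∨ c * y = a ∨ c * y = a * v ∨ c * y = b ∨ c * y = b * v ∨
          c * y = a * b ∨ c * y = a * b * v) := by
      have hbab : b * (a * b) = a * v := by
        rw [← mul_assoc, hba, mul_assoc, hvb, ← mul_assoc, mul_assoc a b b, hb2, mul_one]
      rintro c (rfl | rfl) y (rfl | rfl | rfl | rfl | rfl | rfl | rfl | rfl)
      · simp
      · simp
      · simp [ha2]
      · simp [← mul_assoc, ha2]
      · simp
      · simp [← mul_assoc]
      · simp [← mul_assoc, ha2]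
      · simp [← mul_assoc, ha2]
      · simp
      · simp
      · simp [hba]
      · simp [← mul_assoc, hba]; simp [mul_assoc, hv2]
      · simp [hb2]
      · simp [← mul_assoc, hb2]
      · simp [hbab]
      · rw [← mul_assoc, hbab, mul_assoc, hv2, mul_one]; simp
    induction hx using Subgroup.closure_induction_left with
    | one => exact Or.inl rfl
    | mul_left c hc y _ hy => exact hstep c hc y hy
    | inv_mul_cancel c hc y _ hy =>
      have hci : c⁻¹ = c := by rcases hc with rfl | rfl <;> [exact inv_eq_of_mul_eq_one_right ha2; exact inv_eq_of_mul_eq_one_right hb2]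
      rw [hci]
      exact hstep c hc y hy
  have hwD : (ι wFT) ∉ D := by
    intro h
    rcases hDcl (ι wFT) h with e | e | e | e | e | e | e | e
    · exact hw1 e
    · exact hvw e.symm
    · exact haB (e ▸ hwB)
    · exact haB (by simpa only [mul_inv_cancel_right] using mul_mem (e ▸ hwB : a * v ∈ B) (inv_mem hvB))
    · exact hbA (e ▸ hwA)
    · exact hbA (by simpa only [mul_inv_cancel_right] using mul_mem (e ▸ hwA : b * v ∈ (ftA ι)) (inv_mem hvA))
    · exact hbA (by simpa only [inv_mul_cancel_left] using mul_mem (inv_mem haA) (e ▸ hwA : a * b ∈ (ftA ι)))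
    · exact hbA (by simpa only [mul_inv_cancel_right, inv_mul_cancel_left] using mul_mem (inv_mem haA) (mul_mem (e ▸ hwA : a * b * v ∈ (ftA ι)) (inv_mem hvA)))
  have hvD : v ∈ D := by
    have haD : a ∈ D := Subgroup.subset_closure (Or.inl rfl)
    have hbD : b ∈ D := Subgroup.subset_closure (Or.inr rfl)
    have : v = (a * b)⁻¹ * (b * a) := by rw [hba]; group
    rw [this]
    exact mul_mem (inv_mem (mul_mem haD hbD)) (mul_mem hbD haD)
  have hDT : D ≤ T := by
    rw [hD, Subgroup.closure_le]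
    rintro x (rfl | rfl)
    exacts [hAT haA, hBT hbB]
  have hDn : U ≤ Subgroup.normalizer (D : Set G) := by
    -- it is enough to move the generators
    have hmove : ∀ x ∈ U, x * a * x⁻¹ ∈ D → x * b * x⁻¹ ∈ D → x ∈ Subgroup.normalizer (D : Set G) := by
      intro x _ h1 h2
      rw [← CfsgLib.TwoGroups.map_conj_eq_iff_mem_normalizer]
      refine Subgroup.eq_of_le_of_card_ge ?_ (card_map_conj D x).ge
      rw [hD, MonoidHom.map_closure, Subgroup.closure_le]
      rintro _ ⟨y, hy, rfl⟩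
      rcases hy with rfl | rfl
      exacts [h1, h2]
    have hT' : ∀ t ∈ T, ∀ c ∈ T, c * c = 1 → c ∈ D → t * c * t⁻¹ ∈ D := by
      intro t ht c hc hc2 hcD
      have e := commutator_eq_squares t c
      rw [hc2, inv_one, mul_one] at e
      have h1 : t * c * t⁻¹ = t * t * (t⁻¹ * c * (t⁻¹ * c)) * c := by rw [← e]; group
      rw [h1]
      refine mul_mem (mul_mem ?_ ?_) hcD
      · rcases hsq t ht with h | h <;> rw [h] <;> [exact one_mem _; exact hvD]
      · rcases hsq _ (mul_mem (inv_mem ht) hc) with h | h <;> rw [h] <;> [exact one_mem _; exact hvD]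
    have haD : a ∈ D := Subgroup.subset_closure (Or.inl rfl)
    have hbD : b ∈ D := Subgroup.subset_closure (Or.inr rfl)
    have hTD : T ≤ Subgroup.normalizer (D : Set G) := fun t ht =>
      hmove t (hTU ht) (hT' t ht a (hAT haA) ha2 haD) (hT' t ht b (hBT hbB) hb2 hbD)
    have hnD : n ∈ Subgroup.normalizer (D : Set G) := by
      refine hmove n hnU hbD ?_
      have hnn : n * n ∈ T := by
        refine hCS _ (mul_mem hnS hnS) ?_
        calc n * n * (ι wFT) = n * (n * (ι wFT) * n⁻¹) * n := by group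
          _ = n * ((ι wFT) * v) * n⁻¹ * (n * n) := by rw [hnw]; group
          _ = (ι wFT) * v * v * (n * n) := by
            rw [show n * ((ι wFT) * v) * n⁻¹ = n * (ι wFT) * n⁻¹ * (n * v * n⁻¹) by group, hnw, hnv]
          _ = (ι wFT) * (n * n) := by rw [mul_assoc (ι wFT) v v, hv2, mul_one]
      rw [show n * b * n⁻¹ = n * n * a * (n * n)⁻¹ by rw [hb]; group]
      exact hT' _ hnn a (hAT haA) ha2 haD
    intro x hx
    rcases hcover x hx with h | h
    · exact hTD h
    · simpa using mul_mem hnD (hTD h)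
  have hDc : 8 ≤ Nat.card D := by
    have hle : Subgroup.closure ({a, b} : Set G) ≤ D := le_rfl
    obtain ⟨i, hi⟩ := IsPGroup.iff_card.1 (hTp.to_le hDT)
    have h5 : 5 ≤ Nat.card D := by
      let s : Finset G := {1, v, a, a * v, b}
      have e1 : a ≠ 1 := fun h => haB (h ▸ one_mem _)
      have e2 : a * v ≠ 1 := fun h => haB (by rw [eq_inv_of_mul_eq_one_left h]; exact inv_mem hvB)
      have e3 : b ≠ 1 := fun h => hbA (h ▸ one_mem _)
      have e4 : a ≠ v := fun h => haB (h ▸ hvB)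
      have e5 : a * v ≠ v := fun h => e1 (mul_eq_right.1 h)
      have e6 : b ≠ v := fun h => hbA (h ▸ hvA)
      have e7 : a * v ≠ a := fun h => hvwne (mul_eq_left.1 h)
      have e8 : a ≠ b := fun h => hbA (h ▸ haA)
      have e9 : a * v ≠ b := fun h => hbA (h ▸ mul_mem haA hvA)
      have hs5 : s.card = 5 := by
        simp [s, hvwne.symm, e1.symm, e2.symm, e3.symm, e4.symm, e5.symm, e6.symm, e7.symm, e8, e9]
      have hsub : (↑s : Set G) ⊆ (D : Set G) := by
        intro y hy
        simp only [s, Finset.coe_insert, Finset.coe_singleton, Set.mem_insert_iff, Set.mem_singleton_iff] at hy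
        have haD : a ∈ D := Subgroup.subset_closure (Or.inl rfl)
        have hbD : b ∈ D := Subgroup.subset_closure (Or.inr rfl)
        rcases hy with rfl | rfl | rfl | rfl | rfl
        exacts [one_mem _, hvD, haD, mul_mem haD hvD, hbD]
      have := Set.ncard_le_ncard hsub (Set.toFinite _)
      rw [Set.ncard_coe_finset, hs5, ← Nat.card_coe_set_eq] at this
      exact this
    rw [hi] at h5 ⊢
    rcases Nat.lt_or_ge i 3 with h | h
    · have := Nat.pow_le_pow_right two_pos (show i ≤ 2 by omega)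
      omega
    · calc 8 = 2 ^ 3 := rfl
        _ ≤ _ := Nat.pow_le_pow_right two_pos h
  -- the transfer to `U ⧸ D`
  set D' := D.subgroupOf U with hD'
  haveI : D'.Normal := (Subgroup.normal_subgroupOf_iff_le_normalizer (hDT.trans hTU)).2 hDn
  have hq : Nat.card (U ⧸ D') ≤ 4 := by
    have h := D'.card_mul_index
    rw [Subgroup.index_eq_card, hD', Nat.card_congr (Subgroup.subgroupOfEquivOfLe (hDT.trans hTU)).toEquiv,
      hU32] at h
    nlinarith
  have hqc : ∀ x y : U ⧸ D', x * y = y * x := by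
    obtain ⟨k, hk⟩ := IsPGroup.iff_card.1 ((S.2.to_le (hSU ▸ le_rfl : U ≤ (S : Subgroup G))).to_quotient D')
    rw [hk] at hq
    have hk2 : k ≤ 2 := by
      by_contra h
      have := Nat.pow_le_pow_right two_pos (show 3 ≤ k by omega)
      omega
    interval_cases k
    · intro x y
      haveI := (Nat.card_eq_one_iff_unique.1 hk).1
      exact Subsingleton.elim _ _
    · haveI := isCyclic_of_prime_card (p := 2) hk
      exact fun x y => (IsCyclic.commGroup (α := U ⧸ D')).mul_comm x y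
    · haveI := IsPGroup.isMulCommutative_of_card_eq_prime_sq hk
      exact fun x y => mul_comm' x y
  letI : CommGroup (U ⧸ D') := { (inferInstance : Group (U ⧸ D')) with mul_comm := hqc }
  have hne := transfer_ne_one (QuotientGroup.mk' D') hodd hTp hw2 (hTU (hAT hwA)) (hAT hwA)
    (fun t ht => M.w_comm (hTH ht))
    (fun h => hwD (Subgroup.mem_subgroupOf.1 ((QuotientGroup.eq_one_iff (N := D') _).1 h)))
    (fun g' hmem hg' => by
      have e : g'⁻¹ * (ι wFT) * g' = g'⁻¹ * (ι wFT) * g'⁻¹⁻¹ := by rw [inv_inv]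
      have h16 : 16 ≤ Nat.card (U ⊓ Subgroup.centralizer ({g'⁻¹ * (ι wFT) * g'⁻¹⁻¹} : Set G) : Subgroup G) := by
        rw [← hT16, ← card_map_conj T g'⁻¹]
        refine Subgroup.card_le_of_le (le_inf ?_ ?_)
        · rintro _ ⟨t, ht, rfl⟩
          simpa using hmem t ht
        · rintro _ ⟨t, ht, rfl⟩
          rw [Subgroup.mem_centralizer_singleton_iff]
          show g'⁻¹ * t * g'⁻¹⁻¹ * (g'⁻¹ * (ι wFT) * g'⁻¹⁻¹) = g'⁻¹ * (ι wFT) * g'⁻¹⁻¹ * (g'⁻¹ * t * g'⁻¹⁻¹)
          rw [show g'⁻¹ * t * g'⁻¹⁻¹ * (g'⁻¹ * (ι wFT) * g'⁻¹⁻¹) = g'⁻¹ * (t * (ι wFT)) * g'⁻¹⁻¹ by group,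
            M.w_comm (hTH ht)]
          group
      refine (QuotientGroup.eq.2 ?_)
      rw [Subgroup.mem_subgroupOf]
      show (g'⁻¹ * (ι wFT) * g')⁻¹ * (ι wFT) ∈ D
      rcases hwlike g'⁻¹ (e ▸ hg') h16 with h | h <;> rw [← e] at h <;> rw [h]
      · rw [inv_mul_cancel]; exact one_mem _
      · rw [mul_inv_rev, inv_mul_cancel_right]; exact inv_mem hvD)
  haveI := hsimple
  rcases ((MonoidHom.transfer (QuotientGroup.mk' D') : G →* U ⧸ D').normal_ker).eq_bot_or_eq_top with h | h
  · exact hs.not_comm fun x y => (MonoidHom.ker_eq_bot_iff _).1 h (by rw [map_mul, map_mul, mul_comm])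
  · exact hne (MonoidHom.mem_ker.1 (h ▸ Subgroup.mem_top (ι wFT)))

end CfsgLib.Perm.SuborbitThree
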