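import Cfsg.Agent.Lib.Perm.SuborbitThree.Setting
import Cfsg.Agent.Lib.TwoGroups.ModelTools
import Cfsg.Agent.Lib.TwoGroups.RankTwoTypes

/-!
The elementary abelian normal subgroups of two adjacent stabilisers: their common two-group is not a
Sylow subgroup.
-/

set_option autoImplicit false
set_option linter.style.haveILetI false

namespace CfsgLib.Perm.SuborbitThree

open Subgroup

variable {G : Type*} [Group G]

theorem comm_of_sq {A : Subgroup G} (h : ∀ x ∈ A, x * x = 1) {x y : G} (hx : x ∈ A) (hy : y ∈ A) :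
    x * y = y * x := by
  calc x * y = (x * y)⁻¹ := eq_inv_of_mul_eq_one_left (h _ (mul_mem hx hy))
    _ = y⁻¹ * x⁻¹ := mul_inv_rev x y
    _ = y * x := by rw [inv_eq_of_mul_eq_one_right (h x hx), inv_eq_of_mul_eq_one_right (h y hy)]

theorem relIndex_two_of_card [Finite G] {A T : Subgroup G} (hA : A ≤ T)
    (h2 : Nat.card T = 2 * Nat.card A) : A.relIndex T = 2 := by
  have h := Subgroup.card_mul_index (A.subgroupOf T)
  rw [Nat.card_congr (Subgroup.subgroupOfEquivOfLe hA).toEquiv, h2, mul_comm 2] at h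
  exact Nat.eq_of_mul_eq_mul_left Nat.card_pos h

theorem involutions_mem [Finite G] {A B T : Subgroup G} (hA : A ≤ T) (hB : B ≤ T)
    (hne : A ≠ B) (hAc : Nat.card T = 2 * Nat.card A) (hBc : Nat.card T = 2 * Nat.card B)
    (hA2 : ∀ x ∈ A, x * x = 1) (hB2 : ∀ x ∈ B, x * x = 1)
    (hcA : ∀ t ∈ T, t ∈ Subgroup.centralizer (A : Set G) → t ∈ A) {t : G} (ht : t ∈ T)
    (ht2 : t * t = 1) : t ∈ A ∨ t ∈ B := by
  have hiA := relIndex_two_of_card hA hAc
  have hiB := relIndex_two_of_card hB hBc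
  obtain ⟨b, hbB, hbA⟩ : ∃ b ∈ B, b ∉ A := by
    by_contra h
    push Not at h
    exact hne (Subgroup.eq_of_le_of_card_ge (fun x hx => h x hx) (by omega)).symm
  by_cases htA : t ∈ A
  · exact Or.inl htA
  right
  have ha : t * b ∈ A :=
    (CfsgLib.TwoGroups.mul_mem_iff_of_relIndex_two hiA ht (hB hbB)).2 ⟨fun h => absurd h htA, fun h => absurd h hbA⟩
  by_contra htB
  have htbB : t * b ∉ B := fun h => htB (by simpa using mul_mem h (inv_mem hbB))
  have hcomm : t * b * b = b * (t * b) := by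
    calc t * b * b = t := by rw [mul_assoc, hB2 b hbB, mul_one]
      _ = t⁻¹ := eq_inv_of_mul_eq_one_left ht2
      _ = (t * b * b)⁻¹ := by rw [mul_assoc, hB2 b hbB, mul_one]
      _ = b⁻¹ * (t * b)⁻¹ := mul_inv_rev _ _
      _ = b * (t * b) := by
        rw [inv_eq_of_mul_eq_one_right (hB2 b hbB), inv_eq_of_mul_eq_one_right (hA2 _ ha)]
  refine hbA (hcA b (hB hbB) (Subgroup.mem_centralizer_iff.2 fun a haA => ?_))
  by_cases haB : a ∈ B
  · exact comm_of_sq hB2 haB hbB
  · have hp : t * b * a ∈ B := (CfsgLib.TwoGroups.mul_mem_iff_of_relIndex_two hiB (hA ha) (hA haA)).2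
      ⟨fun h => absurd h htbB, fun h => absurd h haB⟩
    have e : a = t * b * (t * b * a) := by rw [← mul_assoc, hA2 _ ha, one_mul]
    have hc1 : Commute (t * b) b := hcomm
    rw [e]
    exact (hc1.mul_left (comm_of_sq hB2 hp hbB)).eq

theorem elementary_cases [Finite G] {A B T : Subgroup G} (hA : A ≤ T) (hB : B ≤ T) (hne : A ≠ B)
    (hAc : Nat.card T = 2 * Nat.card A) (hBc : Nat.card T = 2 * Nat.card B)
    (hA2 : ∀ x ∈ A, x * x = 1) (hB2 : ∀ x ∈ B, x * x = 1)
    (hcA : ∀ t ∈ T, t ∈ Subgroup.centralizer (A : Set G) → t ∈ A) {U : Subgroup G} (hU : U ≤ T)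
    (hUc : Nat.card U = Nat.card A) (hU2 : ∀ x ∈ U, x * x = 1) : U = A ∨ U = B := by
  have hsub : ∀ x ∈ U, x ∈ A ∨ x ∈ B := fun x hx =>
    involutions_mem hA hB hne hAc hBc hA2 hB2 hcA (hU hx) (hU2 x hx)
  by_cases hUA : U ≤ A
  · exact Or.inl (Subgroup.eq_of_le_of_card_ge hUA (by omega))
  obtain ⟨u, huU, huA⟩ := SetLike.not_le_iff_exists.1 hUA
  refine Or.inr (Subgroup.eq_of_le_of_card_ge (fun x hx => ?_) (by omega))
  rcases hsub x hx with h | h
  · have huB := (hsub u huU).resolve_left huA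
    rcases hsub (x * u) (mul_mem hx huU) with h' | h'
    · exact absurd (by simpa using mul_mem (inv_mem h) h') huA
    · simpa using mul_mem h' (inv_mem huB)
  · exact h

theorem map_sq {A : Subgroup G} (h : ∀ x ∈ A, x * x = 1) (g : G) :
    ∀ x ∈ A.map (MulAut.conj g).toMonoidHom, x * x = 1 := by
  rintro _ ⟨y, hy, rfl⟩
  rw [← map_mul, h y hy, map_one]

theorem card_map_conj (A : Subgroup G) (g : G) :
    Nat.card (A.map (MulAut.conj g).toMonoidHom) = Nat.card A :=
  Subgroup.card_map_of_injective (MulAut.conj g).injective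

namespace Setting

variable [Finite G] {H : Subgroup G} (hs : Setting H)
include hs

omit [Finite G] in
theorem normalizer_conj {A : Subgroup G} (hA : A ≤ H) (hn : H ≤ Subgroup.normalizer (A : Set G))
    (hne : A ≠ ⊥) (g : G) :
    Subgroup.normalizer ((A.map (MulAut.conj g).toMonoidHom : Subgroup G) : Set G) =
      H.map (MulAut.conj g).toMonoidHom := by
  conv_rhs => rw [← hs.normalizer_eq hA hn hne]
  exact (Subgroup.map_equiv_normalizer_eq A (MulAut.conj g)).symm

/-- The common two-group of two adjacent stabilisers lies in a larger two-group. -/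
theorem exists_larger {A T : Subgroup G} (hAH : A ≤ H) (hn : H ≤ Subgroup.normalizer (A : Set G))
    (hne : A ≠ ⊥) (hA2 : ∀ x ∈ A, x * x = 1) (g : G)
    (hT : T = H ⊓ H.map (MulAut.conj g).toMonoidHom) (hTH : T ≠ H) (hTp : IsPGroup 2 T) (hAT : A ≤ T)
    (hBT : A.map (MulAut.conj g).toMonoidHom ≤ T) (h2 : Nat.card T = 2 * Nat.card A)
    (hcA : ∀ t ∈ T, t ∈ Subgroup.centralizer (A : Set G) → t ∈ A) :
    A ≠ A.map (MulAut.conj g).toMonoidHom ∧ ∃ R : Subgroup G, T < R ∧ IsPGroup 2 R := by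
  haveI : Fact (Nat.Prime 2) := ⟨Nat.prime_two⟩
  set B := A.map (MulAut.conj g).toMonoidHom with hB
  have hBc : Nat.card T = 2 * Nat.card B := by rw [h2, hB, card_map_conj]
  have hAB : A ≠ B := by
    intro e
    refine hTH ?_
    have h1 := hs.normalizer_conj hAH hn hne g
    rw [← hB, ← e, hs.normalizer_eq hAH hn hne] at h1
    rw [hT, ← h1, inf_idem]
  refine ⟨hAB, ?_⟩
  obtain ⟨S, hTS⟩ := hTp.exists_le_sylow
  rcases eq_or_lt_of_le hTS with e | h
  swap
  · exact ⟨S, h, S.2⟩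
  exfalso
  -- conjugate the two Sylow subgroups of the normalizer of `A`
  have hTB : T.map (MulAut.conj g⁻¹).toMonoidHom ≤ Subgroup.normalizer (A : Set G) := by
    rintro _ ⟨x, hx, rfl⟩
    rw [hs.normalizer_eq hAH hn hne]
    obtain ⟨y, hy, rfl⟩ := (hT.le hx).2
    simpa [mul_assoc] using hy
  obtain ⟨c, hc, hcT⟩ := CfsgLib.TwoGroups.RankTwoTypes.exists_conj_le_sylow S
    (K := Subgroup.normalizer (A : Set G)) (e ▸ (hT.le.trans inf_le_left).trans hn) (hTp.map _) hTB
  set m := c * g⁻¹ with hm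
  have hmT : m ∈ Subgroup.normalizer (T : Set G) := by
    rw [← CfsgLib.TwoGroups.map_conj_eq_iff_mem_normalizer]
    refine Subgroup.eq_of_le_of_card_ge ?_ (card_map_conj T m).ge
    rintro _ ⟨x, hx, rfl⟩
    have := hcT _ (Subgroup.mem_map_of_mem _ hx)
    rw [e]
    convert this using 1
    simp [hm, mul_assoc]
  have hmB : B.map (MulAut.conj m).toMonoidHom = A := by
    rw [hB, ← CfsgLib.TwoGroups.map_conj_mul, hm, inv_mul_cancel_right,
      CfsgLib.TwoGroups.map_conj_eq_iff_mem_normalizer.2 hc]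
  have hperm : ∀ {U : Subgroup G}, U ≤ T → Nat.card U = Nat.card A → (∀ x ∈ U, x * x = 1) →
      U.map (MulAut.conj m).toMonoidHom = A ∨ U.map (MulAut.conj m).toMonoidHom = B := by
    intro U hU hUc hU2
    refine elementary_cases hAT hBT hAB h2 hBc hA2 (map_sq hA2 g) hcA ?_ (by rw [card_map_conj, hUc])
      (map_sq hU2 m)
    rw [← CfsgLib.TwoGroups.map_conj_eq_iff_mem_normalizer.2 hmT]
    exact Subgroup.map_mono hU
  have hmA : A.map (MulAut.conj m).toMonoidHom = B := by
    rcases hperm hAT rfl hA2 with h | h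
    · exact absurd (Subgroup.map_injective (MulAut.conj m).injective (h.trans hmB.symm)) hAB
    · exact h
  have hsq : m * m ∈ Subgroup.normalizer (A : Set G) := by
    rw [← CfsgLib.TwoGroups.map_conj_eq_iff_mem_normalizer, CfsgLib.TwoGroups.map_conj_mul, hmA, hmB]
  obtain ⟨k, j, hj, hmo⟩ := Nat.exists_eq_two_pow_mul_odd (orderOf_pos m).ne'
  obtain ⟨i, rfl⟩ := hj
  have hu : m ^ (2 * i + 1) ∈ T := by
    have hup : IsPGroup 2 (Subgroup.zpowers (m ^ (2 * i + 1))) := IsPGroup.of_card (n := k) (by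
      rw [Nat.card_zpowers, orderOf_pow' m (by omega), hmo, Nat.gcd_mul_left_left,
        Nat.mul_div_cancel _ (by omega)])
    have hle : Subgroup.zpowers (m ^ (2 * i + 1)) ≤ Subgroup.normalizer (T : Set G) :=
      Subgroup.zpowers_le.2 (pow_mem hmT _)
    have hsup := hup.to_sup_of_normal_right' hTp hle
    have hS := S.3 hsup (e ▸ le_sup_right)
    rw [← e] at hS
    exact hS ▸ Subgroup.mem_sup_left (Subgroup.mem_zpowers _)
  have hodd : m ^ (2 * i + 1) ∈ Subgroup.normalizer (A : Set G) := hn ((hT.le hu).1)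
  rw [pow_succ', pow_mul, pow_two, Subgroup.mul_mem_cancel_right _ (pow_mem hsq i),
    ← CfsgLib.TwoGroups.map_conj_eq_iff_mem_normalizer, hmA] at hodd
  exact hAB hodd.symm

end Setting

end CfsgLib.Perm.SuborbitThree
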