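import Cfsg.Agent.Lib.Core.Basic
import Cfsg.Agent.Lib.Core.Cores
import Cfsg.Agent.Lib.Signalizer.Count
import Cfsg.Agent.Lib.Recog.GLTwoThreeIso
import Cfsg.Agent.Lib.Fusion.TwoRank.Examples.Homs

/-!
An involution centralizer modulo its odd core in which a four-group is self-centralizing and the
quaternion fusion of a quasi-dihedral group takes place: it has order at most `48`.
-/

set_option autoImplicit false
set_option linter.style.haveILetI false

namespace CfsgLib.Perm.SuborbitThree

open Subgroup CfsgLib.GLTwoThree CfsgLib.ZStar CfsgLib.Classical.Two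

/-- Two commuting involutions `u`, `v`, the first with centralizer of order four and fused to their
product but not to `v`: every conjugate of `v` commutes with `v`. -/
theorem commute_of_pair {D : Type*} [Group D] [Finite D] {u v : D} (hu : u * u = 1)
    (hv : v * v = 1) (hv1 : v ≠ 1) (huv : u * v = v * u)
    (hCu : ∀ d, d * u = u * d → d = 1 ∨ d = u ∨ d = v ∨ d = u * v)
    (hcu : IsConj u (u * v)) (hvu : ¬ IsConj v u) {y : D} (hy : IsConj v y) : y * v = v * y := by
  obtain ⟨c, hc⟩ := isConj_iff.1 hy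
  have hy2 : y * y = 1 := by
    rw [← hc]
    calc c * v * c⁻¹ * (c * v * c⁻¹) = c * (v * v) * c⁻¹ := by group
      _ = 1 := by rw [hv, mul_one, mul_inv_cancel]
  have hy1 : y ≠ 1 := fun h => hv1 (by rw [h] at hc; simpa using hc)
  -- a conjugate of `v` in the centralizer of `u` is `v`
  have hfix : ∀ d, IsConj v d → d * u = u * d → d = v := by
    intro d hd hdu
    rcases hCu d hdu with h | h | h | h
    · subst h
      obtain ⟨e, he⟩ := isConj_iff.1 hd
      exact absurd (by simpa using he) hv1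
    · exact absurd (h ▸ hd) hvu
    · exact h
    · exact absurd ((h ▸ hd).trans hcu.symm) hvu
  by_cases hyu : y * u = u * y
  · rw [hfix y hy hyu]
  set ρ := u * y with hρ
  have huρ : u * ρ * u⁻¹ = ρ⁻¹ := by
    rw [hρ, mul_inv_rev, inv_eq_of_mul_eq_one_right hu, inv_eq_of_mul_eq_one_right hy2, ← mul_assoc, hu, one_mul]
  rcases Nat.even_or_odd (orderOf ρ) with ⟨k, hk⟩ | ⟨k, hk⟩
  swap
  · -- odd order: the two involutions are conjugate
    refine absurd (hy.trans (IsConj.symm ?_)) hvu
    have h1 : IsConj u (u * ρ⁻¹) := isConj_iff.2 ⟨(ρ ^ k)⁻¹, by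
      have h : u * ρ ^ k * u⁻¹ = (ρ⁻¹) ^ k := by rw [← conj_pow, huρ]
      rw [inv_inv]
      calc (ρ ^ k)⁻¹ * u * ρ ^ k = (ρ ^ k)⁻¹ * (u * ρ ^ k * u⁻¹) * u := by group
        _ = ((ρ ^ k)⁻¹ * (ρ ^ k)⁻¹) * u := by rw [h, inv_pow]
        _ = (ρ ^ (2 * k))⁻¹ * u := by rw [← mul_inv_rev, ← pow_add, two_mul]
        _ = ρ * u := by
          congr 1
          rw [inv_eq_iff_mul_eq_one, ← pow_succ, ← hk, pow_orderOf_eq_one]
        _ = u * ρ⁻¹ := by rw [← huρ]; rw [show u * (u * ρ * u⁻¹) = (u * u) * ρ * u⁻¹ by group, hu, one_mul,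
            inv_eq_of_mul_eq_one_right hu]⟩
    refine h1.trans (isConj_iff.2 ⟨u, ?_⟩)
    rw [hρ, mul_inv_rev, inv_eq_of_mul_eq_one_right hu, inv_eq_of_mul_eq_one_right hy2]
    calc u * (u * (y * u)) * u = (u * u) * y * (u * u) := by group
      _ = y := by rw [hu, one_mul, mul_one]
  set w := ρ ^ k with hw
  have hk0 : 0 < k := by
    have := orderOf_pos ρ
    omega
  have hw1 : w ≠ 1 := pow_ne_one_of_lt_orderOf hk0.ne' (by omega)
  have hw2 : w⁻¹ = w := by
    rw [inv_eq_iff_mul_eq_one, hw, ← pow_add, ← hk, pow_orderOf_eq_one]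
  have hwu : w * u = u * w := by
    have h : u * w * u⁻¹ = w := by
      rw [hw, ← conj_pow, huρ, inv_pow, ← hw, hw2]
    nth_rewrite 1 [← h]
    group
  have hwy : w * y = y * w := by
    have e : y = u * ρ := by rw [hρ, ← mul_assoc, hu, one_mul]
    rw [e, ← mul_assoc, hwu, mul_assoc, mul_assoc, hw, (Commute.pow_self ρ k).eq]
  rcases hCu w hwu with h | h | h | h
  · exact absurd h hw1
  · exact absurd (h ▸ hwy).symm hyu
  · exact (h ▸ hwy).symm
  · obtain ⟨g, hg⟩ := isConj_iff.1 hcu
    have key : ∀ d, IsConj v d → d * (u * v) = u * v * d → d = g * v * g⁻¹ := by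
      intro d hd hcomm
      have h1 : g⁻¹ * d * g = v := by
        refine hfix _ (hd.trans (isConj_iff.2 ⟨g⁻¹, by rw [inv_inv]⟩)) ?_
        rw [← hg] at hcomm
        calc g⁻¹ * d * g * u = g⁻¹ * (d * (g * u * g⁻¹)) * g := by group
          _ = g⁻¹ * (g * u * g⁻¹ * d) * g := by rw [hcomm]
          _ = u * (g⁻¹ * d * g) := by group
      rw [← h1]
      group
    have hv' := key v (IsConj.refl v) (by rw [← mul_assoc, ← huv])
    have hy' := key y hy (h ▸ hwy).symm
    rw [hy', ← hv']

/-- The data carried by such a group. -/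
structure Frame {K : Type*} [Group K] (z s a r : K) : Prop where
  z_central : ∀ k, z * k = k * z
  z_ne : z ≠ 1
  z_sq : z * z = 1
  s_sq : s * s = 1
  a_sq : a * a = z
  r_sq : r * r = z
  conj_as : a * s * a⁻¹ = s * z
  conj_ra : r * a * r⁻¹ = a⁻¹
  cent_s : ∀ k, k * s = s * k → k = 1 ∨ k = z ∨ k = s ∨ k = s * z
  sa_conj : IsConj s (s * a)
  r_conj : IsConj a r
  ar_conj : IsConj a (a * r)
  invol : ∀ e, e * e = 1 → e = 1 ∨ e = z ∨ IsConj e s
  core : Cfsg.pPrimeCore 2 K = ⊥

namespace Frame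

variable {K : Type*} [Group K] [Finite K] {z s a r : K} (F : Frame z s a r)
include F

omit [Finite K] in
theorem a_inv : a⁻¹ = a * z :=
  inv_eq_of_mul_eq_one_right (by rw [← mul_assoc, F.a_sq, F.z_sq])

omit [Finite K] in
theorem a_four : a ^ 4 = 1 := by
  rw [show a ^ 4 = (a * a) * (a * a) by simp only [pow_succ, pow_zero, one_mul, mul_assoc],
    F.a_sq, F.z_sq]

omit [Finite K] in
theorem s_ne : s ≠ 1 ∧ s ≠ z := by
  constructor <;> intro h
  · have h1 := F.conj_as
    rw [h, one_mul, mul_one, mul_inv_cancel] at h1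
    exact F.z_ne h1.symm
  · have h1 := F.conj_as
    rw [h, ← F.z_central a, mul_inv_cancel_right, F.z_sq] at h1
    exact F.z_ne h1

omit [Finite K] in
theorem sz_sq : s * z * (s * z) = 1 := by
  rw [← mul_assoc, mul_assoc s z s, F.z_central s, ← mul_assoc s s z, F.s_sq, one_mul, F.z_sq]

omit [Finite K] in
/-- Only the central involution commutes with `a`. -/
theorem comm_inv {e : K} (he : e * e = 1) (hc : e * a = a * e) : e = 1 ∨ e = z := by
  rcases F.invol e he with h | h | h
  · exact Or.inl h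
  · exact Or.inr h
  exfalso
  obtain ⟨g, hg⟩ := isConj_iff.1 h
  have hcomm : g * a * g⁻¹ * s = s * (g * a * g⁻¹) := by
    rw [← hg]
    calc g * a * g⁻¹ * (g * e * g⁻¹) = g * (a * e) * g⁻¹ := by group
      _ = g * (e * a) * g⁻¹ := by rw [hc]
      _ = g * e * g⁻¹ * (g * a * g⁻¹) := by group
  have hsq : g * a * g⁻¹ * (g * a * g⁻¹) = z := by
    calc g * a * g⁻¹ * (g * a * g⁻¹) = g * (a * a) * g⁻¹ := by group
      _ = z := by rw [F.a_sq, ← F.z_central g, mul_inv_cancel_right]
  rcases F.cent_s _ hcomm with h' | h' | h' | h' <;> rw [h'] at hsq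
  · exact F.z_ne (by rw [← hsq, one_mul])
  · exact F.z_ne (hsq.symm.trans F.z_sq)
  · exact F.z_ne (hsq.symm.trans F.s_sq)
  · exact F.z_ne (hsq.symm.trans F.sz_sq)

omit [Finite K] in
theorem sq_of_conj {c : K} (hc : IsConj a c) : c * c = z := by
  obtain ⟨g, rfl⟩ := isConj_iff.1 hc
  calc g * a * g⁻¹ * (g * a * g⁻¹) = g * (a * a) * g⁻¹ := by group
    _ = z := by rw [F.a_sq, ← F.z_central g, mul_inv_cancel_right]

omit [Finite K] in
theorem comm_eq {c : K} (hc : c * c = z) (hca : c * a = a * c) : c = a ∨ c = a * z := by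
  have he : c * a * (c * a) = 1 := by
    rw [mul_assoc, ← mul_assoc a c a, ← hca, mul_assoc c a a, ← mul_assoc c c, hc, F.a_sq, F.z_sq]
  rcases F.comm_inv he (by rw [mul_assoc, ← mul_assoc a c, ← hca, mul_assoc]) with h | h
  · exact Or.inr (by rw [eq_inv_of_mul_eq_one_left h, F.a_inv])
  · refine Or.inl ?_
    rw [eq_mul_inv_of_mul_eq h, F.a_inv, F.z_central, mul_assoc, F.z_sq, mul_one]

/-- A conjugate of `a` commutes or anticommutes with it. -/
theorem anti {c : K} (hc : IsConj a c) : c * a = a * c ∨ c * a = a * c * z := by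
  set Z := Subgroup.zpowers z
  haveI hZn : Z.Normal := ⟨fun x hx g => by
    obtain ⟨k, rfl⟩ := Subgroup.mem_zpowers_iff.1 hx
    have h : Commute g z := (F.z_central g).symm
    rw [(h.zpow_right k).eq, mul_inv_cancel_right]
    exact Subgroup.zpow_mem _ (Subgroup.mem_zpowers z) k⟩
  set π := QuotientGroup.mk' Z
  have hzmem : ∀ x, x ∈ Z ↔ x = 1 ∨ x = z := by
    intro x
    refine ⟨fun hx => ?_, fun hx => ?_⟩
    · obtain ⟨k, rfl⟩ := Subgroup.mem_zpowers_iff.1 hx
      obtain ⟨j, rfl | rfl⟩ := Int.even_or_odd' k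
      · left; rw [zpow_mul, zpow_two, F.z_sq, one_zpow]
      · right; rw [zpow_add, zpow_mul, zpow_two, F.z_sq, one_zpow, one_mul, zpow_one]
    · rcases hx with rfl | rfl
      · exact one_mem _
      · exact Subgroup.mem_zpowers _
  have heq : ∀ x y : K, π x = π y ↔ y = x ∨ y = x * z := by
    intro x y
    rw [show π x = π y ↔ x⁻¹ * y ∈ Z from QuotientGroup.eq, hzmem, inv_mul_eq_one, inv_mul_eq_iff_eq_mul]
    exact or_congr eq_comm Iff.rfl
  have hz : π z = 1 := (QuotientGroup.eq_one_iff z).2 (Subgroup.mem_zpowers z)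
  have hne : ∀ x : K, x ≠ 1 → x ≠ z → π x ≠ 1 := fun x h1 h2 h => by
    rcases (hzmem x).1 ((QuotientGroup.eq_one_iff x).1 h) with h' | h'
    exacts [h1 h', h2 h']
  have h := commute_of_pair (u := π s) (v := π a) (y := π c)
    (by rw [← map_mul, F.s_sq, map_one])
    (by rw [← map_mul, F.a_sq, hz])
    (hne a (fun e => F.z_ne (by rw [← F.a_sq, e, one_mul])) (fun e => F.z_ne (by
      have h := F.a_sq
      rw [e, F.z_sq] at h
      exact h.symm)))
    (by
      rw [← map_mul, ← map_mul, eq_comm, heq]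
      refine Or.inr ?_
      calc s * a = s * (z * z) * a := by rw [F.z_sq, mul_one]
        _ = (s * z) * z * a := by group
        _ = (a * s * a⁻¹) * z * a := by rw [F.conj_as]
        _ = (a * s * a⁻¹) * (a * z) := by rw [mul_assoc, F.z_central a]
        _ = a * s * z := by group)
    (by
      intro d hd
      obtain ⟨x, rfl⟩ := QuotientGroup.mk'_surjective Z d
      rw [← map_mul, ← map_mul, heq] at hd
      have hcase : x * s = s * x ∨ (a⁻¹ * x) * s = s * (a⁻¹ * x) := by
        rcases hd with hd | hd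
        · exact Or.inl hd.symm
        · refine Or.inr ?_
          have h1 : x * s = s * z * x := by
            rw [mul_assoc, F.z_central, ← mul_assoc, hd, mul_assoc, F.z_sq, mul_one]
          calc a⁻¹ * x * s = a⁻¹ * (s * z * x) := by rw [mul_assoc, h1]
            _ = a⁻¹ * (a * s * a⁻¹ * x) := by rw [F.conj_as]
            _ = s * (a⁻¹ * x) := by group
      have hV : ∀ y, y = 1 ∨ y = z ∨ y = s ∨ y = s * z → π y = 1 ∨ π y = π s := by
        rintro y (rfl | rfl | rfl | rfl)
        · exact Or.inl (map_one π)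
        · exact Or.inl hz
        · exact Or.inr rfl
        · exact Or.inr (by rw [map_mul, hz, mul_one])
      rcases hcase with h1 | h1
      · rcases hV _ (F.cent_s _ h1) with e | e
        · exact Or.inl e
        · exact Or.inr (Or.inl e)
      · rcases hV _ (F.cent_s _ h1) with e | e <;>
          rw [map_mul, map_inv, inv_mul_eq_iff_eq_mul] at e
        · exact Or.inr (Or.inr (Or.inl (e.trans (mul_one _))))
        · refine Or.inr (Or.inr (Or.inr (e.trans ?_)))
          rw [← map_mul, ← map_mul, heq]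
          right
          calc s * a = s * (z * z) * a := by rw [F.z_sq, mul_one]
            _ = (s * z) * z * a := by group
            _ = (a * s * a⁻¹) * z * a := by rw [F.conj_as]
            _ = (a * s * a⁻¹) * (a * z) := by rw [mul_assoc, F.z_central a]
            _ = a * s * z := by group)
    (by rw [← map_mul]; exact π.map_isConj F.sa_conj)
    (fun hh => by
      obtain ⟨d, hd⟩ := isConj_iff.1 hh
      obtain ⟨g, rfl⟩ := QuotientGroup.mk'_surjective Z d
      rw [← map_inv, ← map_mul, ← map_mul, heq] at hd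
      have hsq := F.sq_of_conj (isConj_iff.2 ⟨g, rfl⟩ : IsConj a (g * a * g⁻¹))
      rcases hd with e | e
      · rw [← e, F.s_sq] at hsq
        exact F.z_ne hsq.symm
      · have e' : s * z = g * a * g⁻¹ := by rw [e, mul_assoc, F.z_sq, mul_one]
        rw [← e', F.sz_sq] at hsq
        exact F.z_ne hsq.symm)
    (π.map_isConj hc)
  rw [← map_mul, ← map_mul, eq_comm, heq] at h
  exact h

theorem mem_eight {c : K} (hc : IsConj a c) :
    c = a ∨ c = a * z ∨ c = r ∨ c = r * z ∨ c = a * r ∨ c = a * r * z := by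
  rcases F.anti hc with h | h
  · rcases F.comm_eq (F.sq_of_conj hc) h with e | e <;> simp [e]
  -- transport to the other generators
  have key : ∀ b, IsConj a b → (c * b = b * c → c = b ∨ c = b * z) ∧
      (c * b = b * c ∨ c * b = b * c * z) := by
    intro b hb
    obtain ⟨g, hg⟩ := isConj_iff.1 hb.symm
    have hc' : IsConj a (g * c * g⁻¹) := hc.trans (isConj_iff.2 ⟨g, rfl⟩)
    have htr : ∀ w, (g * c * g⁻¹ * a = a * (g * c * g⁻¹) * w ↔ c * b = b * c * (g⁻¹ * w * g)) := by
      intro w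
      rw [← hg]
      constructor <;> intro e
      · calc c * b = g⁻¹ * (g * c * g⁻¹ * (g * b * g⁻¹)) * g := by group
          _ = g⁻¹ * (g * b * g⁻¹ * (g * c * g⁻¹) * w) * g := by rw [e]
          _ = b * c * (g⁻¹ * w * g) := by group
      · calc g * c * g⁻¹ * (g * b * g⁻¹) = g * (c * b) * g⁻¹ := by group
          _ = g * (b * c * (g⁻¹ * w * g)) * g⁻¹ := by rw [e]
          _ = g * b * g⁻¹ * (g * c * g⁻¹) * w := by group
    have hzz : g⁻¹ * z * g = z := by rw [mul_assoc, F.z_central, inv_mul_cancel_left]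
    refine ⟨fun e => ?_, ?_⟩
    · have e' := (htr 1).2 (by simpa using e)
      rw [mul_one] at e'
      rcases F.comm_eq (F.sq_of_conj hc') e' with e1 | e1
      · left
        rw [← hg] at e1
        exact mul_left_cancel (mul_right_cancel e1)
      · right
        rw [← hg] at e1
        rw [mul_assoc (g * b) g⁻¹ z, ← F.z_central g⁻¹, ← mul_assoc, mul_assoc g b z] at e1
        exact mul_left_cancel (mul_right_cancel e1)
    · rcases F.anti hc' with e | e
      · left
        have := (htr 1).1 (by rw [mul_one]; exact e)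
        simpa using this
      · right
        have := (htr z).1 e
        rwa [hzz] at this
  obtain ⟨k1, k2⟩ := key r F.r_conj
  rcases k2 with h' | h'
  · rcases k1 h' with e | e <;> simp [e]
  · have hcomm : c * (a * r) = a * r * c := by
      rw [← mul_assoc, h, mul_assoc (a * c) z r, F.z_central r, ← mul_assoc, mul_assoc a c r, h']
      simp only [mul_assoc, F.z_sq, mul_one]
    rcases (key _ F.ar_conj).1 hcomm with e | e <;> simp [e]

/-- The quaternion subgroup. -/
theorem exists_quat : ∃ φ : QuaternionGroup 2 →* K, Function.Injective φ ∧ φ (.a 1) = a ∧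
    φ (.xa 0) = r ∧ φ.range.Normal := by
  obtain ⟨φ, h1, h2⟩ := CfsgLib.Fusion.TwoRank.quaternion_hom (n := 2) (x := a) (y := r) F.a_four
    (by rw [pow_two, F.a_sq, F.r_sq]) F.conj_ra
  have ha : φ (.a 1) = a := by
    rw [h1, CfsgLib.TwoGroups.zexp, show ((1 : ZMod (2 * 2)).val) = 1 from rfl, pow_one]
  have hr : φ (.xa 0) = r := by
    rw [h2, CfsgLib.TwoGroups.zexp, show ((0 : ZMod (2 * 2)).val) = 0 from rfl, pow_zero, mul_one]
  have hz : φ (.a 2) = z := by
    rw [show (QuaternionGroup.a 2 : QuaternionGroup 2) = .a 1 * .a 1 by decide, map_mul, ha, F.a_sq]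
  refine ⟨φ, ?_, ha, hr, ?_⟩
  · rw [injective_iff_map_eq_one]
    intro g hg
    by_contra hg1
    have key : ∀ g : QuaternionGroup 2, g ≠ 1 → g = .a 2 ∨ g * g = .a 2 := by decide
    rcases key g hg1 with e | e
    · exact F.z_ne (by rw [← hz, ← e, hg])
    · exact F.z_ne (by rw [← hz, ← e, map_mul, hg, one_mul])
  · refine ⟨fun x hx g => ?_⟩
    obtain ⟨q, rfl⟩ := hx
    have hgen : ∀ b, IsConj a b → g * b * g⁻¹ ∈ φ.range := by
      intro b hb
      have hc : IsConj a (g * b * g⁻¹) := hb.trans (isConj_iff.2 ⟨g, rfl⟩)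
      rcases F.mem_eight hc with e | e | e | e | e | e <;> rw [e]
      · exact ⟨_, ha⟩
      · exact ⟨.a 1 * .a 2, by rw [map_mul, ha, hz]⟩
      · exact ⟨_, hr⟩
      · exact ⟨.xa 0 * .a 2, by rw [map_mul, hr, hz]⟩
      · exact ⟨.a 1 * .xa 0, by rw [map_mul, ha, hr]⟩
      · exact ⟨.a 1 * .xa 0 * .a 2, by rw [map_mul, map_mul, ha, hr, hz]⟩
    have hq : ∀ q : QuaternionGroup 2, ∃ i < 4, q = .a 1 ^ i ∨ q = .xa 0 * .a 1 ^ i := by decide
    obtain ⟨i, -, e | e⟩ := hq q <;> rw [e]
    · rw [map_pow, ← conj_pow, ha]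
      exact pow_mem (hgen a (IsConj.refl a)) i
    · rw [map_mul, map_pow, ha, hr]
      rw [show g * (r * a ^ i) * g⁻¹ = g * r * g⁻¹ * (g * a ^ i * g⁻¹) by group, ← conj_pow]
      exact mul_mem (hgen r F.r_conj) (pow_mem (hgen a (IsConj.refl a)) i)

omit [Finite K] in
theorem cent_four {w : K} (hwa : w * a = a * w) (hwr : w * r = r * w) (h4 : w * w * (w * w) = 1) :
    w = 1 ∨ w = z := by
  rcases F.comm_inv h4 (by rw [mul_assoc, hwa, ← mul_assoc, hwa, mul_assoc]) with h | h
  · exact F.comm_inv h hwa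
  · exfalso
    rcases F.comm_eq h hwa with e | e
    · rw [e] at hwr
      have h1 := F.conj_ra
      rw [← hwr, mul_inv_cancel_right, F.a_inv] at h1
      exact F.z_ne (mul_left_cancel (a := a) (h1.symm.trans (mul_one a).symm))
    · rw [e] at hwr
      have h1 : a * r = r * a := by
        have := congrArg (fun x => x * z) hwr
        simpa only [mul_assoc, F.z_central r, F.z_sq, mul_one] using this
      have h2 := F.conj_ra
      rw [← h1, mul_inv_cancel_right, F.a_inv] at h2
      exact F.z_ne (mul_left_cancel (a := a) (h2.symm.trans (mul_one a).symm))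

/-- The quaternion group is self-centralizing. -/
theorem cent_quat {w : K} (hwa : w * a = a * w) (hwr : w * r = r * w) : w = 1 ∨ w = z := by
  classical
  haveI : Fact (Nat.Prime 2) := ⟨Nat.prime_two⟩
  obtain ⟨φ, -, ha, hr, hnorm⟩ := F.exists_quat
  set W := Subgroup.centralizer ({a, r} : Set K) with hW
  have hmemW : ∀ x, x ∈ W ↔ x * a = a * x ∧ x * r = r * x := by
    intro x
    rw [hW, Subgroup.mem_centralizer_iff]
    simp only [Set.mem_insert_iff, Set.mem_singleton_iff, forall_eq_or_imp, forall_eq]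
    exact and_congr eq_comm eq_comm
  have hWn : W.Normal := ⟨fun x hx g => by
    obtain ⟨h1, h2⟩ := (hmemW x).1 hx
    have hall : ∀ y ∈ φ.range, x * y = y * x := by
      rintro _ ⟨q, rfl⟩
      have hq : ∀ q : QuaternionGroup 2, ∃ i < 4, q = .a 1 ^ i ∨ q = .xa 0 * .a 1 ^ i := by decide
      obtain ⟨i, -, e | e⟩ := hq q <;> rw [e]
      · rw [map_pow, ha]; exact (Commute.pow_right h1 i).eq
      · rw [map_mul, map_pow, ha, hr]; exact (Commute.mul_right h2 (Commute.pow_right h1 i)).eq
    have hback : ∀ y ∈ φ.range, g * x * g⁻¹ * y = y * (g * x * g⁻¹) := by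
      intro y hy
      have h := hall _ (by simpa using hnorm.conj_mem y hy g⁻¹)
      calc g * x * g⁻¹ * y = g * (x * (g⁻¹ * y * g)) * g⁻¹ := by group
        _ = g * (g⁻¹ * y * g * x) * g⁻¹ := by rw [h]
        _ = y * (g * x * g⁻¹) := by group
    exact (hmemW _).2 ⟨hback a ⟨_, ha⟩, hback r ⟨_, hr⟩⟩⟩
  have htwo : ∀ (k : ℕ) (x : K), x ∈ W → x ^ 2 ^ k = 1 → x = 1 ∨ x = z := by
    intro k
    induction k with
    | zero => intro x _ hx; left; simpa using hx
    | succ k ih =>
      intro x hx hpow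
      obtain ⟨h1, h2⟩ := (hmemW x).1 hx
      refine F.cent_four h1 h2 ?_
      rcases ih (x * x) (mul_mem hx hx) (by rw [← pow_two, ← pow_mul, ← pow_succ']; exact hpow) with e | e <;>
        rw [e]
      · rw [one_mul]
      · exact F.z_sq
  have hzW : z ∈ W := (hmemW z).2 ⟨F.z_central a, F.z_central r⟩
  let zW : W := ⟨z, hzW⟩
  have hz2 : orderOf zW = 2 := orderOf_eq_prime (Subtype.ext (by rw [pow_two]; exact F.z_sq))
    fun h => F.z_ne (congrArg Subtype.val h)
  have hP : ∀ P : Subgroup W, IsPGroup 2 P → P ≤ Subgroup.zpowers zW := by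
    intro P hP x hx
    obtain ⟨k, hk⟩ := hP ⟨x, hx⟩
    have hk' : (x : K) ^ 2 ^ k = 1 := by simpa using congrArg (fun v : P => ((v : W) : K)) hk
    rcases htwo k x x.2 hk' with e | e
    · rw [show x = 1 from Subtype.ext e]; exact one_mem _
    · rw [show x = zW from Subtype.ext e]; exact Subgroup.mem_zpowers _
  have heven : Even (Nat.card W) := even_iff_two_dvd.2 (hz2 ▸ orderOf_dvd_natCard zW)
  obtain ⟨H, hH⟩ := Signalizer.index_two_of_cyclic_sylow heven (default : Sylow 2 W)
    (Subgroup.isCyclic_of_le (hP _ (default : Sylow 2 W).2))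
  have hHodd : Odd (Nat.card H) := by
    rw [← Nat.not_even_iff_odd]
    intro he
    have h4 : 2 ^ 2 ∣ Nat.card W := by
      rw [← H.card_mul_index, hH, pow_two]
      exact Nat.mul_dvd_mul (even_iff_two_dvd.1 he) dvd_rfl
    obtain ⟨P, hPc⟩ := Sylow.exists_subgroup_card_pow_prime 2 h4
    have := Subgroup.card_le_of_le (hP P (IsPGroup.of_card hPc))
    rw [hPc, Nat.card_zpowers, hz2] at this
    norm_num at this
  have hin : ∀ x : W, Odd (orderOf x) → x ∈ H := by
    intro x hx
    have hsq : x * x ∈ H := Subgroup.mul_self_mem_of_index_two hH x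
    obtain ⟨j, hj⟩ := hx
    have h1 : x ^ (2 * j + 1) = 1 := by rw [← hj, pow_orderOf_eq_one]
    rw [pow_succ, pow_mul, pow_two] at h1
    rw [eq_inv_of_mul_eq_one_right h1]
    exact inv_mem (pow_mem hsq j)
  haveI : (H.map W.subtype).Normal := ⟨fun x hx g => by
    obtain ⟨y, hy, rfl⟩ := hx
    refine ⟨⟨g * y * g⁻¹, hWn.conj_mem _ y.2 g⟩, hin _ ?_, rfl⟩
    rw [← Subgroup.orderOf_coe]
    show Odd (orderOf (g * (y : K) * g⁻¹))
    rw [← MulAut.conj_apply, MulEquiv.orderOf_eq, Subgroup.orderOf_coe, ← Subgroup.orderOf_mk y hy]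
    exact hHodd.of_dvd_nat (orderOf_dvd_natCard _)⟩
  have hH1 : H = ⊥ := by
    refine (Subgroup.map_eq_bot_iff_of_injective _ W.subtype_injective).1 (eq_bot_iff.2 ?_)
    rw [← F.core]
    refine CfsgLib.Core.le_pPrimeCore ?_
    rw [Subgroup.card_map_of_injective W.subtype_injective]
    exact Nat.coprime_two_right.2 hHodd
  have hcard : Nat.card W = 2 := by
    rw [← H.card_mul_index, hH, hH1, Subgroup.card_bot]
  have htop : Subgroup.zpowers zW = ⊤ :=
    Subgroup.eq_top_of_card_eq _ (by rw [Nat.card_zpowers, hz2, hcard])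
  have hmem : (⟨w, (hmemW w).2 ⟨hwa, hwr⟩⟩ : W) ∈ Subgroup.zpowers zW := htop ▸ Subgroup.mem_top _
  obtain ⟨k, hk⟩ := Subgroup.mem_zpowers_iff.1 hmem
  have hk' : z ^ k = w := congrArg Subtype.val hk
  obtain ⟨j, rfl | rfl⟩ := Int.even_or_odd' k
  · left; rw [← hk', zpow_mul, zpow_two, F.z_sq, one_zpow]
  · right; rw [← hk', zpow_add, zpow_mul, zpow_two, F.z_sq, one_zpow, one_mul, zpow_one]

/-- Such a group has order at most `48`, and order `48` forces `GL(2,3)`. -/
theorem card_le_and_iso : Nat.card K ≤ 48 ∧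
    (Nat.card K = 48 → Nonempty (K ≃* GL (Fin 2) (ZMod 3))) := by
  obtain ⟨φ, hinj, ha, hr, hnorm⟩ := F.exists_quat
  haveI := hnorm
  let e : QuaternionGroup 2 ≃* φ.range := MonoidHom.ofInjective hinj
  have heq : ∀ q, (e q : K) = φ q := fun q => MonoidHom.ofInjective_apply hinj
  have hfix : ∀ g, act φ.range e g = 1 → g = 1 ∨ g = z := by
    intro g hg
    have h : ∀ q, g * φ q = φ q * g := fun q => by
      have h := act_spec φ.range e g q
      rw [hg, MulAut.one_apply, heq] at h
      nth_rewrite 2 [h]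
      rw [inv_mul_cancel_right]
    exact F.cent_quat (ha ▸ h _) (hr ▸ h _)
  constructor
  · have hk : Nat.card (act φ.range e).ker ≤ 2 := by
      have hsub : ((act φ.range e).ker : Set K) ⊆ {1, z} := fun g hg => by
        simpa using hfix g (MonoidHom.mem_ker.1 hg)
      calc Nat.card (act φ.range e).ker = ((act φ.range e).ker : Set K).ncard :=
            Nat.card_coe_set_eq _
        _ ≤ ({1, z} : Set K).ncard := Set.ncard_le_ncard hsub (Set.toFinite _)
        _ ≤ 2 := le_trans (Set.ncard_insert_le _ _) (by rw [Set.ncard_singleton])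
    have h1 := (act φ.range e).ker.card_mul_index
    rw [Subgroup.index_ker] at h1
    have h2 : Nat.card (act φ.range e).range ≤ 24 :=
      le_trans (Subgroup.card_le_card_group _) card_mulAut_le
    calc Nat.card K = _ := h1.symm
      _ ≤ 2 * 24 := Nat.mul_le_mul hk h2
      _ = 48 := rfl
  · intro h48
    have hC : Subgroup.centralizer (φ.range : Set K) ≤ φ.range := by
      intro g hg
      rw [Subgroup.mem_centralizer_iff] at hg
      rcases F.cent_quat (ha ▸ (hg _ ⟨_, rfl⟩).symm) (hr ▸ (hg _ ⟨_, rfl⟩).symm) with h | h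
      · rw [h]; exact one_mem _
      · exact ⟨.a 1 * .a 1, by rw [map_mul, ha, F.a_sq, h]⟩
    have hs : s ∉ φ.range := by
      rintro ⟨q, hq⟩
      have key : ∀ q : QuaternionGroup 2, q * q = 1 → q = 1 ∨ q = .a 1 * .a 1 := by decide
      rcases key q (hinj (by rw [map_mul, hq, F.s_sq, map_one])) with h | h
      · exact F.s_ne.1 (by rw [← hq, h, map_one])
      · exact F.s_ne.2 (by rw [← hq, h, map_mul, ha, F.a_sq])
    have hs2 : ∀ q, act φ.range e (s * s) q = q := fun q => by rw [F.s_sq, map_one, MulAut.one_apply]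
    obtain ⟨e', y, hy3, hy, hya, hsa⟩ := exists_frame e hC (h48 ▸ by norm_num) hs hs2
    exact glTwoThree_of_frame e' hC hy3 hy hs hya hsa h48 F.s_sq

end Frame

end CfsgLib.Perm.SuborbitThree
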