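import Cfsg.Agent.Lib.Perm.SuborbitThree.QuasiFrame
import Cfsg.Agent.Lib.Perm.SuborbitThree.CoreTrivial
import Cfsg.Agent.Lib.TwoGroups.QdSimpleNormal
import Cfsg.Agent.Lib.Fusion.RankTwoExamples
import Cfsg.Agent.S2916

/-!
A simple group with quasi-dihedral Sylow 2-subgroups and a self-centralizing four-group is
`PSL(3,3)` or `M₁₁`.
-/

set_option autoImplicit false
set_option linter.style.haveILetI false
set_option quotPrecheck false

namespace CfsgLib.Perm.SuborbitThree

open Cfsg Subgroup CfsgLib.TwoGroups CfsgLib.TwoGroups.SemiDihedral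
open CfsgLib.Blocks.GLTwoThreeCentralizer

variable {L : Type*} [Group L] [Finite L] {m : ℕ}

omit [Finite L] in
theorem no_index_two [IsSimpleGroup L] (hnc : ¬ ∀ x y : L, x * y = y * x) :
    ∀ H : Subgroup L, H.index ≠ 2 := by
  intro H hH
  rcases (Subgroup.normal_of_index_eq_two hH).eq_bot_or_eq_top with h | h <;> rw [h] at hH
  · rw [Subgroup.index_bot] at hH
    haveI : Fact (Nat.Prime 2) := ⟨Nat.prime_two⟩
    haveI := isCyclic_of_prime_card hH
    letI := IsCyclic.commGroup (α := L)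
    exact hnc fun x y => mul_comm x y
  · rw [Subgroup.index_top] at hH
    omega

/-- The frame in the centralizer of the central involution modulo its odd core, and the order. -/
theorem exists_cover [IsSimpleGroup L] (hnc : ¬ ∀ x y : L, x * y = y * x) {V : Subgroup L}
    (hV : IsKleinFour V) (hC : Subgroup.centralizer (V : Set L) = V) {S₀ : Sylow 2 L}
    (hS₀ : Cfsg.IsQuasiDihedral (S₀ : Subgroup L)) :
    ∃ (z : L) (π : Subgroup.centralizer ({z} : Set L) →* GLT), GLCover z π := by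
  classical
  haveI : Fact (Nat.Prime 2) := ⟨Nat.prime_two⟩
  have hidx := no_index_two hnc
  have hVc : Nat.card V = 4 := hV.card_four
  obtain ⟨S, hVS⟩ := (IsPGroup.of_card (p := 2) (n := 2) hVc).exists_le_sylow
  have hSq : Cfsg.IsQuasiDihedral (S : Subgroup L) :=
    CfsgLib.Fusion.isQuasiDihedral_congr (Sylow.equiv S₀ S) hS₀
  obtain ⟨m, f, hf, hfS⟩ := exists_model hSq
  obtain ⟨c, hVeq⟩ := exists_eq_four hf hfS hV hVS
  have hone : ∀ x y : L, orderOf x = 2 → orderOf y = 2 → IsConj x y := fun x y hx hy =>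
    QdSimple.isConj_involutions (Or.inl hSq) hidx hx hy
  have hF : FourFused f := fourFused_of_no_index_two hf hfS hidx
  -- the centralizer and its quotient
  set z := f (rot (h m)) with hzdef
  set C := Subgroup.centralizer ({z} : Set L) with hCdef
  have hSC : (S : Subgroup L) ≤ C := sylow_le_centralizer_h hfS
  let f' : SemiDihedral m →* C := f.codRestrict C fun x => hSC (hfS ▸ ⟨x, rfl⟩)
  have hf'v : ∀ x, (f' x : L) = f x := fun x => rfl
  haveI hOn : (Cfsg.pPrimeCore 2 C).Normal := CfsgLib.Core.normal_pPrimeCore 2 C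
  have hOodd : Odd (Nat.card (Cfsg.pPrimeCore 2 C)) :=
    Nat.coprime_two_right.1 (CfsgLib.Core.coprime_card_pPrimeCore 2 C)
  set π := QuotientGroup.mk' (Cfsg.pPrimeCore 2 C) with hπ
  set ρ := π.comp f' with hρ
  have htwo : ∀ x : SemiDihedral m, ∀ y ∈ Cfsg.pPrimeCore 2 C, f' x = y → x = 1 := by
    intro x y hy hxy
    obtain ⟨k, hk⟩ := SemiDihedral.isPGroup x
    have h1 : orderOf y ∣ 2 ^ k := orderOf_dvd_of_pow_eq_one (by rw [← hxy, ← map_pow, hk, map_one])
    have h2 : orderOf y ∣ Nat.card (Cfsg.pPrimeCore 2 C) := by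
      rw [← Subgroup.orderOf_mk y hy]; exact orderOf_dvd_natCard _
    have h3 : y = 1 := orderOf_eq_one_iff.1 (Nat.eq_one_of_dvd_coprimes
      (Nat.Coprime.pow_left k (Nat.coprime_two_left.2 hOodd)) h1 h2)
    apply hf
    rw [← hf'v, hxy, h3, map_one, Subgroup.coe_one]
  have hρinj : Function.Injective ρ := by
    rw [injective_iff_map_eq_one]
    intro x hx
    exact htwo x _ ((QuotientGroup.eq_one_iff (f' x)).1 hx) rfl
  -- relations in the model
  set sM : SemiDihedral m := ref (2 * c) with hsM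
  obtain ⟨d, hd⟩ := even_q (m := m)
  have hzz : rot (h m) * rot (h m) = (1 : SemiDihedral m) := by rw [rot_mul_rot, h_add_h, one_def]
  have hss : sM * sM = 1 := by rw [hsM, ref_sq, h_mul_even ⟨c, rfl⟩, one_def]
  have haa : rot (q m) * rot (q m) = (rot (h m) : SemiDihedral m) := by rw [rot_mul_rot, q_add_q]
  have hrr : ref 1 * ref 1 = (rot (h m) : SemiDihedral m) := by rw [ref_sq, mul_one]
  have hstep : ∀ {a₁ c₁ : ZMod (2 ^ (m + 3))}, ∀ {a₂ : ZMod (2 ^ (m + 3))}, a₂ = a₁ + 2 * c₁ →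
      IsConj (ρ (ref a₁)) (ρ (ref a₂)) := by
    intro a₁ c₁ a₂ e
    obtain ⟨j, hj⟩ := exists_rot_conj a₁ c₁
    exact isConj_iff.2 ⟨ρ (rot j), by rw [← map_inv, ← map_mul, ← map_mul, hj, e]⟩
  have hVmem : ∀ v ∈ V, v = 1 ∨ v = z ∨ v = f sM ∨ v = f (sM * rot (h m)) := by
    rw [hVeq]
    rintro _ ⟨x, hx, rfl⟩
    induction x using cases' with
    | hr b =>
      have hx' : 2 * b = 0 := by simpa using rot_mem_lev.1 hx
      rcases two_mul_eq_zero (by omega) hx' with rfl | rfl
      · exact Or.inl (by rw [← one_def, map_one])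
      · exact Or.inr (Or.inl rfl)
    | hs b =>
      have hx' : 2 * (b - 2 * c) = 0 := by simpa using ref_mem_lev.1 hx
      rcases two_mul_eq_zero (by omega) hx' with e | e
      · exact Or.inr (Or.inr (Or.inl (by rw [hsM, sub_eq_zero.1 e])))
      · refine Or.inr (Or.inr (Or.inr (congrArg f ?_)))
        rw [hsM, ref_mul_rot, ref_inj]
        linear_combination e - h_mul_h (m := m) + two_mul_h (m := m)
  have hcentV : ∀ x : C, x * f' sM = f' sM * x → (x : L) ∈ V := by
    intro x hx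
    have h1 : (x : L) * f sM = f sM * x := congrArg Subtype.val hx
    have h2 : (x : L) * z = z * x := Subgroup.mem_centralizer_singleton_iff.1 x.2
    rw [← hC, Subgroup.mem_centralizer_iff]
    intro v hv
    rcases hVmem v hv with rfl | rfl | rfl | rfl
    · rw [one_mul, mul_one]
    · exact h2.symm
    · exact h1.symm
    · rw [map_mul]; exact (Commute.mul_left (Commute.symm h1) (Commute.symm h2)).eq
  have hcent : ∀ k, k * ρ sM = ρ sM * k →
      k = 1 ∨ k = ρ (rot (h m)) ∨ k = ρ sM ∨ k = ρ sM * ρ (rot (h m)) := by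
    intro k hk
    obtain ⟨x, rfl⟩ := QuotientGroup.mk'_surjective _ k
    have hs2 : orderOf (f' sM) = 2 := orderOf_eq_prime (by rw [pow_two, ← map_mul, hss, map_one])
      fun e => rot_ne_ref 0 (2 * c) (hf (by rw [← one_def, map_one, ← hf'v, ← hsM, e, Subgroup.coe_one]))
    obtain ⟨n, hn, hxn⟩ := CfsgLib.Core.exists_centralizing_in_coset
      (A := Subgroup.zpowers (f' sM)) (N := Cfsg.pPrimeCore 2 C) (k := x)
      (by rw [Subgroup.normalizer_eq_top]; exact le_top)
      (by rw [Nat.card_zpowers, hs2]; exact Nat.coprime_two_left.2 hOodd)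
      (Or.inl (Group.isSolvable_of_comm fun u v =>
        Subtype.ext (Subgroup.mem_centralizer_iff.1
          (Subgroup.le_centralizer (Subgroup.zpowers (f' sM)) v.2) _ u.2)))
      (by
        intro b hb
        obtain ⟨i, rfl⟩ := Subgroup.mem_zpowers_iff.1 hb
        refine (QuotientGroup.eq_one_iff _).1 ?_
        show π (x⁻¹ * (f' sM ^ i * x * (f' sM ^ i)⁻¹)) = 1
        have hcm : Commute (π x) (π (f' sM) ^ i) := Commute.zpow_right hk i
        rw [map_mul, map_mul, map_mul, map_inv, map_inv, map_zpow, ← hcm.eq, mul_inv_cancel_right,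
          inv_mul_cancel])
    have hv := hVmem _ (hcentV (x * n)
      (Subgroup.mem_centralizer_iff.1 hxn _ (Subgroup.mem_zpowers _)).symm)
    have hπn : π (x * n) = π x := by
      rw [map_mul, show π n = 1 from (QuotientGroup.eq_one_iff n).2 hn, mul_one]
    rw [← hπn]
    rcases hv with e | e | e | e
    · rw [show x * n = 1 from Subtype.ext e, map_one]; exact Or.inl rfl
    · rw [show x * n = f' (rot (h m)) from Subtype.ext e]; exact Or.inr (Or.inl rfl)
    · rw [show x * n = f' sM from Subtype.ext e]; exact Or.inr (Or.inr (Or.inl rfl))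
    · rw [show x * n = f' (sM * rot (h m)) from Subtype.ext e, ← map_mul]
      exact Or.inr (Or.inr (Or.inr rfl))
  have hzC : ∀ x : C, f' (rot (h m)) * x = x * f' (rot (h m)) := fun x =>
    Subtype.ext (Subgroup.mem_centralizer_singleton_iff.1 x.2).symm
  have hzcent : ∀ k, ρ (rot (h m)) * k = k * ρ (rot (h m)) := by
    intro k
    obtain ⟨x, rfl⟩ := QuotientGroup.mk'_surjective _ k
    show π _ * π x = π x * π _
    rw [← map_mul, ← map_mul, hzC]
  obtain ⟨g, hg⟩ := isConj_iff.1 hF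
  have hgC : g ∈ C := by
    rw [hCdef, Subgroup.mem_centralizer_singleton_iff]
    have e1 : g * z * g⁻¹ = z := by
      calc g * z * g⁻¹ = g * (f (ref 1) * f (ref 1)) * g⁻¹ := by rw [← map_mul, hrr]
        _ = g * f (ref 1) * g⁻¹ * (g * f (ref 1) * g⁻¹) := by group
        _ = z := by rw [hg, ← map_mul, haa]
    nth_rewrite 2 [← e1]
    group
  have hgK : π ⟨g, hgC⟩ * ρ (ref 1) * (π ⟨g, hgC⟩)⁻¹ = ρ (rot (q m)) := by
    show π _ * π (f' (ref 1)) * (π _)⁻¹ = π (f' (rot (q m)))
    rw [← map_inv, ← map_mul, ← map_mul]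
    exact congrArg π (Subtype.ext hg)
  -- the Sylow subgroup of the quotient
  let P : Sylow 2 (C ⧸ Cfsg.pPrimeCore 2 C) :=
    (S.subtype hSC).mapSurjective (QuotientGroup.mk'_surjective _)
  have hP : (P : Subgroup _) = ρ.range := by
    show ((S : Subgroup L).subgroupOf C).map π = _
    rw [hρ, MonoidHom.range_comp]
    congr 1
    ext x
    rw [Subgroup.mem_subgroupOf, ← hfS]
    exact ⟨fun ⟨y, hy⟩ => ⟨y, Subtype.ext hy⟩, fun ⟨y, hy⟩ => ⟨y, congrArg Subtype.val hy⟩⟩
  have hFr : Frame (ρ (rot (h m))) (ρ sM) (ρ (rot (q m))) (ρ (ref 1)) := by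
    refine ⟨hzcent, ?_, by rw [← map_mul, hzz, map_one], by rw [← map_mul, hss, map_one],
      by rw [← map_mul, haa], by rw [← map_mul, hrr], ?_, ?_, hcent, ?_, ?_, ?_, ?_,
      CfsgLib.Core.pPrimeCore_quotient_pPrimeCore 2 C⟩
    · intro e
      rw [← map_one ρ, one_def] at e
      exact h_ne (rot_inj.1 (hρinj e))
    · rw [← map_inv, ← map_mul, ← map_mul, ← map_mul]
      congr 1
      rw [hsM, rot_conj_ref, ref_mul_rot, ref_inj]
      linear_combination -(h_eq (m := m)) - h_mul_even (m := m) ⟨d, hd⟩ + h_mul_h (m := m) * (-1) + two_mul_h (m := m)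
    · rw [← map_inv, ← map_mul, ← map_mul, ← map_inv]
      congr 1
      rw [ref_conj_rot, h_mul_even ⟨d, hd⟩, zero_sub, rot_inv]
    · rw [← map_mul, hsM, ref_mul_rot]
      refine hstep (c₁ := -d) ?_
      linear_combination h_mul_even (m := m) ⟨d, hd⟩ - hd
    · exact isConj_iff.2 ⟨(π ⟨g, hgC⟩)⁻¹, by rw [inv_inv, ← hgK]; group⟩
    · rw [← map_mul, rot_mul_ref]
      exact (isConj_iff.2 ⟨(π ⟨g, hgC⟩)⁻¹, by rw [inv_inv, ← hgK]; group⟩ :
        IsConj (ρ (rot (q m))) (ρ (ref 1))).trans (hstep (c₁ := d) (by linear_combination hd))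
    · intro e he
      by_cases he1 : e = 1
      · exact Or.inl he1
      obtain ⟨k, hk⟩ := CfsgLib.TwoGroups.exists_conj_le_sylow P (P := Subgroup.zpowers e)
        (IsPGroup.of_card (n := 1) (by
          rw [Nat.card_zpowers, orderOf_eq_prime (by rw [pow_two, he]) he1, pow_one]))
      obtain ⟨x, hx⟩ := (hP ▸ hk) (conj_mem_map_conj (Subgroup.mem_zpowers e))
      have hx2 : orderOf x = 2 := by
        rw [← orderOf_injective ρ hρinj x, hx, show k * e * k⁻¹ = MulAut.conj k e from rfl,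
          MulEquiv.orderOf_eq, orderOf_eq_prime (by rw [pow_two, he]) he1]
      rcases (SemiDihedral.orderOf_eq_two_iff x).1 hx2 with rfl | ⟨c', rfl⟩
      · refine Or.inr (Or.inl ?_)
        calc e = k⁻¹ * (k * e * k⁻¹) * k := by group
          _ = _ := by rw [← hx, mul_assoc, hzcent, inv_mul_cancel_left]
      · exact Or.inr (Or.inr ((isConj_iff.2 ⟨k, hx.symm⟩).trans
          (hstep (c₁ := c - c') (by ring))))
  -- the order
  obtain ⟨h48, hiso⟩ := hFr.card_le_and_iso
  have hcardS : Nat.card ρ.range = 2 ^ (m + 4) := by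
    rw [Nat.card_congr (MonoidHom.ofInjective hρinj).toEquiv.symm, SemiDihedral.natCard]
  have hmul := ρ.range.card_mul_index
  have hodd : ¬ 2 ∣ ρ.range.index := hP ▸ P.not_dvd_index
  have hne1 : ρ.range.index ≠ 1 := by
    intro h1
    obtain ⟨x, hx⟩ := (Subgroup.index_eq_one.1 h1).ge (Subgroup.mem_top (π ⟨g, hgC⟩))
    rw [← hx, ← map_inv, ← map_mul, ← map_mul] at hgK
    have e : (ref 1 : SemiDihedral m) = x⁻¹ * rot (q m) * x := by
      rw [← hρinj hgK]; group
    rcases conj_rot x⁻¹ (q m) with e' | e' <;>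
      · rw [inv_inv] at e'
        exact rot_ne_ref _ _ (e'.symm.trans e.symm)
  rw [hcardS] at hmul
  have hm : m = 0 ∧ ρ.range.index = 3 := by
    have h16 : 16 ≤ 2 ^ (m + 4) := by
      calc (16 : ℕ) = 2 ^ 4 := rfl
        _ ≤ _ := Nat.pow_le_pow_right two_pos (by omega)
    have hle : 2 ^ (m + 4) * ρ.range.index ≤ 48 := hmul ▸ h48
    have hi : ρ.range.index ≤ 3 := by nlinarith
    have hi3 : ρ.range.index = 3 := by interval_cases hi' : ρ.range.index <;> omega
    refine ⟨?_, hi3⟩
    by_contra hm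
    have h32 : 32 ≤ 2 ^ (m + 4) := by
      calc (32 : ℕ) = 2 ^ 5 := rfl
        _ ≤ _ := Nat.pow_le_pow_right two_pos (by omega)
    rw [hi3] at hle
    omega
  obtain ⟨rfl, hi3⟩ := hm
  have hK : Nat.card (C ⧸ Cfsg.pPrimeCore 2 C) = 48 := by rw [← hmul, hi3]; norm_num
  obtain ⟨θ⟩ := hiso hK
  refine ⟨z, θ.toMonoidHom.comp π, ?_⟩
  have hker : (θ.toMonoidHom.comp π).ker = Cfsg.pPrimeCore 2 C := by
    ext x
    rw [MonoidHom.mem_ker, MonoidHom.comp_apply, MulEquiv.toMonoidHom_eq_coe, MonoidHom.coe_coe,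
      MulEquiv.map_eq_one_iff, hπ, QuotientGroup.mk'_apply, QuotientGroup.eq_one_iff]
  have hz2 : orderOf z = 2 := by
    rw [hzdef, orderOf_injective f hf]
    exact (SemiDihedral.orderOf_eq_two_iff _).2 (Or.inl rfl)
  refine ⟨hz2, fun x hx => hone z x hz2 hx, ?_, θ.surjective.comp (QuotientGroup.mk'_surjective _),
    by rw [hker]; exact hOodd, f' sM, by rw [← map_mul, hss, map_one], ?_, ?_, ?_⟩
  · have hSc : Nat.card (S : Subgroup L) = 16 := by
      rw [← hfS, Nat.card_congr (MonoidHom.ofInjective hf).toEquiv.symm, SemiDihedral.natCard]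
      norm_num
    have h1 := (S : Subgroup L).card_mul_index
    have h2 : ¬ 2 ∣ (S : Subgroup L).index := S.not_dvd_index
    rw [hSc] at h1
    omega
  · refine Finset.mem_filter.2 ⟨tup_mem _, fun e => ?_, ?_⟩
    · have e1 : θ (ρ sM) = 1 := tup_injective (e.trans tup_one.symm)
      exact hFr.s_ne.1 (θ.injective (e1.trans (map_one θ).symm))
    · rw [← tup_mul, ← map_mul, ← map_mul, hss]
      simp [tup_one]
  · intro e
    have hcen : ∀ A : GLT, θ (ρ sM) * A = A * θ (ρ sM) := fun A => tup_injective (by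
      rw [tup_mul, tup_mul, show tup (θ (ρ sM)) = qneg from e]
      exact (show ∀ q ∈ els, qmul qneg q = qmul q qneg by decide +kernel) _ (tup_mem _))
    have hcomm : ρ (rot (q 0)) * ρ sM = ρ sM * ρ (rot (q 0)) :=
      θ.injective (by rw [map_mul, map_mul, hcen])
    have hbad := hFr.conj_as
    rw [hcomm, mul_inv_cancel_right] at hbad
    exact hFr.z_ne (mul_left_cancel (a := ρ sM) (hbad.symm.trans (mul_one _).symm))
  · intro o ho hcomm
    rw [hker] at ho
    have hv := hVmem _ (hcentV o hcomm.symm)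
    have hgen : ∀ x, (o : L) = f x → o = 1 := fun x e => by
      have h0 := htwo x o ho (Subtype.ext e.symm)
      exact Subtype.ext (by rw [e, h0, map_one]; rfl)
    rcases hv with e | e | e | e
    exacts [Subtype.ext e, hgen _ e, hgen _ e, hgen _ e]

/-- The recognition. -/
theorem quasi_local [IsSimpleGroup L] (hnc : ¬ ∀ x y : L, x * y = y * x) {V : Subgroup L}
    (hV : IsKleinFour V) (hC : Subgroup.centralizer (V : Set L) = V) {S : Sylow 2 L}
    (hS : Cfsg.IsQuasiDihedral (S : Subgroup L)) :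
    (∃ (F : Type) (_ : Field F) (_ : Fintype F), Fintype.card F = 3 ∧
      Nonempty (L ≃* Matrix.ProjectiveSpecialLinearGroup (Fin 3) F)) ∨ Cfsg.Spor.IsoM11 L := by
  obtain ⟨z, π, K⟩ := exists_cover hnc hV hC hS
  haveI := Fintype.ofFinite L
  have hker : π.ker = ⊥ := K.ker_eq_bot
  refine Cfsg.Agent.S2916.result ?_ z K.order_t
    ⟨MulEquiv.ofBijective π ⟨(MonoidHom.ker_eq_bot_iff π).1 hker, K.surj⟩⟩
  -- no proper normal subgroup of `2`-power index
  have hn : (Cfsg.pResidual 2 L).Normal := by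
    refine ⟨fun x hx g => ?_⟩
    have hmap : (Cfsg.pResidual 2 L).map (MulAut.conj g).toMonoidHom ≤ Cfsg.pResidual 2 L := by
      rw [Cfsg.pResidual, MonoidHom.map_closure, Subgroup.closure_le]
      rintro _ ⟨y, hy, rfl⟩
      refine Subgroup.subset_closure ?_
      show Nat.Coprime (orderOf ((MulAut.conj g).toMonoidHom y)) 2
      rw [MulEquiv.toMonoidHom_eq_coe, MonoidHom.coe_coe, MulEquiv.orderOf_eq]
      exact hy
    exact hmap ⟨x, hx, rfl⟩
  refine hn.eq_bot_or_eq_top.resolve_left fun h => ?_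
  -- some prime other than two divides the order
  have h3 : 3 ∣ Nat.card L := by
    have h := Subgroup.card_subgroup_dvd_card (Subgroup.centralizer ({z} : Set L))
    rw [K.card_cent, hker, Subgroup.card_bot, mul_one] at h
    exact (show (3 : ℕ) ∣ 48 by norm_num).trans h
  haveI : Fact (Nat.Prime 3) := ⟨Nat.prime_three⟩
  obtain ⟨y, hy⟩ := exists_prime_orderOf_dvd_card' 3 h3
  have hy1 : y ∈ Cfsg.pResidual 2 L := Subgroup.subset_closure (show Nat.Coprime (orderOf y) 2 by
    rw [hy]; decide)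
  rw [h, Subgroup.mem_bot] at hy1
  rw [hy1, orderOf_one] at hy
  omega

end CfsgLib.Perm.SuborbitThree
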